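import Cfsg.Agent.Lib.FT.InvDade
import Cfsg.Agent.Lib.FT.PF13.Side
import Cfsg.Agent.Lib.CharApps.Galois
import Cfsg.Agent.S1518

/-!
# Step A: general lemmas on the Dade map, grids and orthogonal families
-/

set_option autoImplicit false
set_option linter.style.haveILetI false
set_option linter.unusedSectionVars false

namespace CfsgLib.FT.StepA

open _root_.Subgroup Cfsg CfsgLib.Chars CfsgLib.CharsMore CfsgLib.FT.PF13
open scoped ComplexConjugate

universe u

/-! ### The Dade map -/

section Dade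

variable {G : Type u} [Group G] {A B : Set G} {L : Subgroup G} {R : G → Subgroup G}

/-- The Dade image at an element of `A`. -/
theorem dade_apply_self [Finite G] (hD : DadeHypothesis A L R) {α : L → ℂ}
    (hα : IsClassFunction L α) {a : L} (ha : (a : G) ∈ A) : dadeIsometry A L R α a = α a :=
  dadeIsometry_apply hD hα a ha (x := 1) (R (a : G)).one_mem (by simp)

/-- The Dade maps of `A` and of a subset `B` agree on functions supported in `B`. -/
theorem dade_restrict [Finite G] (hD : DadeHypothesis A L R) (hB : DadeHypothesis B L R)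
    (hBA : B ⊆ A) {α : L → ℂ} (hα : IsClassFunction L α)
    (hsupp : ∀ x : L, (x : G) ∉ B → α x = 0) :
    dadeIsometry A L R α = dadeIsometry B L R α := by
  funext g
  by_cases h : ∃ a : G, a ∈ A ∧ DadeWit R g a
  · obtain ⟨a, ha, x, u, hu, e⟩ := h
    rw [dadeIsometry_apply hD hα ⟨a, hD.subset ha⟩ ha hu e]
    by_cases haB : a ∈ B
    · rw [dadeIsometry_apply hB hα ⟨a, hD.subset ha⟩ haB hu e]
    · rw [hsupp ⟨a, hD.subset ha⟩ haB, dadeIsometry_eq_zero hB]
      rintro ⟨b, hb, hw⟩
      obtain ⟨l, hl, e'⟩ := dadeWit_fusion hD ha (hBA hb) ⟨x, u, hu, e⟩ hw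
      refine haB ?_
      have h2 := hB.conj_mem l⁻¹ (L.inv_mem hl) _ hb
      rwa [← e', show l⁻¹ * (l * a * l⁻¹) * l⁻¹⁻¹ = a by group] at h2
  · rw [dadeIsometry_eq_zero hD h, dadeIsometry_eq_zero hB]
    rintro ⟨b, hb, hw⟩
    exact h ⟨b, hBA hb, hw⟩

/-- A function supported in `B` has Dade image zero on `A` outside `B`. -/
theorem dade_apply_eq_zero_of_mem [Finite G] (hD : DadeHypothesis A L R) (hB : DadeHypothesis B L R)
    (hBA : B ⊆ A) {α : L → ℂ} (hα : IsClassFunction L α)
    (hsupp : ∀ x : L, (x : G) ∉ B → α x = 0) {a : L} (ha : (a : G) ∈ A) (haB : (a : G) ∉ B) :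
    dadeIsometry B L R α a = 0 := by
  rw [← dade_restrict hD hB hBA hα hsupp, dade_apply_self hD hα ha, hsupp a haB]

/-- The Dade map commutes with automorphisms of the coefficient field. -/
theorem galois_dade (σ : ℂ ≃+* ℂ) (α : L → ℂ) (g : G) :
    σ (dadeIsometry A L R α g) = dadeIsometry A L R (fun x => σ (α x)) g := by
  simp only [dadeIsometry]
  split
  · rfl
  · exact map_zero σ

end Dade

/-! ### Grids -/

section Grid

variable {G : Type u} [Group G] [Fintype G] {W₁ W₂ : Subgroup G}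
  {η : (W₁ →* ℂˣ) → (W₂ →* ℂˣ) → G → ℂ} [Fintype (W₁ →* ℂˣ)] [Fintype (W₂ →* ℂˣ)]

theorem grid_orth (hη : Grid W₁ W₂ η) [DecidableEq (W₁ →* ℂˣ)] [DecidableEq (W₂ →* ℂˣ)]
    (s : Finset ((W₁ →* ℂˣ) × (W₂ →* ℂˣ))) :
    ∀ i ∈ s, ∀ j ∈ s, classInner (η i.1 i.2) (η j.1 j.2) = if i = j then 1 else 0 := fun i _ j _ => by
  rw [hη.orth]
  exact if_congr Prod.ext_iff.symm rfl rfl

/-- The grid coefficients of a generalized character add up to at most its norm. -/
theorem grid_bessel (hη : Grid W₁ W₂ η) {f : G → ℂ} {c : (W₁ →* ℂˣ) → (W₂ →* ℂˣ) → ℤ}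
    (hc : ∀ a b, classInner f (η a b) = c a b) {n : ℤ} (hn : classInner f f = n) :
    ∑ a, ∑ b, c a b ^ 2 ≤ n := by
  classical
  rw [← Fintype.sum_prod_type']
  exact (bessel Finset.univ (fun i : (W₁ →* ℂˣ) × (W₂ →* ℂˣ) => η i.1 i.2) (grid_orth hη _) f
    (fun i => c i.1 i.2)
    (fun i _ => hc i.1 i.2) hn).1

/-- The integer coefficients on a grid of a class function vanishing on the regular elements. -/
theorem grid_coeff (hη : Grid W₁ W₂ η) {f : G → ℂ} (hf : IsGeneralizedCharacter G f)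
    (hv : ∀ x y, x ∈ W₁ → y ∈ W₂ → x ≠ 1 → y ≠ 1 → f (x * y) = 0) :
    ∃ c : (W₁ →* ℂˣ) → (W₂ →* ℂˣ) → ℤ, (∀ a b, classInner f (η a b) = c a b) ∧
      ∀ a b, c a b = c a 1 + c 1 b - c 1 1 := by
  choose c hc using fun a b => inner_int hf (hη.gen a b)
  refine ⟨c, hc, fun a b => ?_⟩
  have h := hη.additive f (isClassFunction_of_isGeneralized hf) hv a b
  rw [hc, hc, hc, hc] at h
  have h' : c a b + c 1 1 = c a 1 + c 1 b := by exact_mod_cast h
  linarith

/-- A nonzero additive array on a grid with sides at least three has at least three nonzero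
entries. -/
theorem additive_count {ι κ : Type*} [Fintype ι] [Fintype κ] [DecidableEq ι] [DecidableEq κ]
    (hι : 3 ≤ Fintype.card ι) (hκ : 3 ≤ Fintype.card κ) (r : ι → ℤ) (s : κ → ℤ)
    {i₀ : ι} {j₀ : κ} (h : r i₀ + s j₀ ≠ 0) :
    3 ≤ ∑ i, ∑ j, (r i + s j) ^ 2 := by
  have hsq : ∀ z : ℤ, z ≠ 0 → 1 ≤ z ^ 2 := fun z hz =>
    Int.add_one_le_of_lt (pow_two_pos_of_ne_zero hz)
  by_cases hr : ∀ i, r i = r i₀
  · have h1 : ∀ i, 1 ≤ ∑ j, (r i + s j) ^ 2 := fun i =>
      le_trans (by rw [hr i]; exact hsq _ h)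
        (Finset.single_le_sum (f := fun j => (r i + s j) ^ 2) (fun j _ => sq_nonneg _)
          (Finset.mem_univ j₀))
    have h2 := Finset.sum_le_sum (s := Finset.univ) fun i _ => h1 i
    rw [Finset.sum_const, Finset.card_univ, nsmul_eq_mul, mul_one] at h2
    exact le_trans (by exact_mod_cast hι) h2
  · push Not at hr
    obtain ⟨i₁, hi₁⟩ := hr
    have h1 : ∀ j, 1 ≤ ∑ i, (r i + s j) ^ 2 := by
      intro j
      by_cases hz : r i₀ + s j = 0
      · refine le_trans (hsq (r i₁ + s j) fun h' => hi₁ (by linarith))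
          (Finset.single_le_sum (f := fun i => (r i + s j) ^ 2) (fun i _ => sq_nonneg _)
            (Finset.mem_univ i₁))
      · exact le_trans (hsq _ hz) (Finset.single_le_sum (f := fun i => (r i + s j) ^ 2)
          (fun i _ => sq_nonneg _) (Finset.mem_univ i₀))
    have h2 := Finset.sum_le_sum (s := Finset.univ) fun j _ => h1 j
    rw [Finset.sum_const, Finset.card_univ, nsmul_eq_mul, mul_one] at h2
    rw [Finset.sum_comm]
    exact le_trans (by exact_mod_cast hκ) h2

/-- A generalized character of norm two vanishing on the regular elements and orthogonal to the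
principal character is orthogonal to the grid. -/
theorem grid_zero_of_norm_two (hη : Grid W₁ W₂ η) (h₁ : 3 ≤ Fintype.card (W₁ →* ℂˣ))
    (h₂ : 3 ≤ Fintype.card (W₂ →* ℂˣ)) {f : G → ℂ} (hf : IsGeneralizedCharacter G f)
    (hv : ∀ x y, x ∈ W₁ → y ∈ W₂ → x ≠ 1 → y ≠ 1 → f (x * y) = 0)
    (hone : classInner f (fun _ => 1) = 0) (hn : classInner f f = 2) :
    ∀ a b, classInner f (η a b) = 0 := by
  classical
  obtain ⟨c, hc, hadd⟩ := grid_coeff hη hf hv
  have h11 : c 1 1 = 0 := by
    have h := hc 1 1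
    rw [hη.map_one, hone] at h
    exact_mod_cast h.symm
  intro a b
  by_contra h0
  have hle := grid_bessel hη hc (n := 2) (by exact_mod_cast hn)
  have h3 := additive_count h₁ h₂ (fun i => c i 1) (fun j => c 1 j) (i₀ := a) (j₀ := b) (by
    intro e
    refine h0 ?_
    rw [hc, hadd, h11]
    exact_mod_cast (show c a 1 + c 1 b - 0 = 0 by linarith))
  have : ∑ i, ∑ j, (c i 1 + c 1 j) ^ 2 = ∑ i, ∑ j, c i j ^ 2 :=
    Finset.sum_congr rfl fun i _ => Finset.sum_congr rfl fun j _ => by rw [hadd i j, h11, sub_zero]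
  linarith

/-- A generalized character of norm two, orthogonal to the principal character, that agrees with
`a b - a' b` on the regular elements is `η a b - η a' b`. -/
theorem eq_diff_of_norm_two (hη : Grid W₁ W₂ η) (h₁ : 3 ≤ Fintype.card (W₁ →* ℂˣ))
    (h₂ : 3 ≤ Fintype.card (W₂ →* ℂˣ)) {a a' : W₁ →* ℂˣ} {b : W₂ →* ℂˣ} (ha : a ≠ 1) (ha' : a' ≠ 1)
    (hne : a ≠ a') {f : G → ℂ} (hf : IsGeneralizedCharacter G f)
    (hv : ∀ x y, ∀ hx : x ∈ W₁, ∀ hy : y ∈ W₂, x ≠ 1 → y ≠ 1 →
      f (x * y) = ((a ⟨x, hx⟩ : ℂ) - (a' ⟨x, hx⟩ : ℂ)) * (b ⟨y, hy⟩ : ℂ))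
    (hone : classInner f (fun _ => 1) = 0) (hn : classInner f f = 2) :
    f = η a b - η a' b := by
  classical
  have hgd := isGeneralized_sub (hη.gen a b) (hη.gen a' b)
  obtain ⟨c, hc, hadd⟩ := grid_coeff hη (isGeneralized_sub hf hgd) fun x y hx hy hx1 hy1 => by
    simp only [Pi.sub_apply, hv x y hx hy hx1 hy1, hη.eq_on a b x y hx hy hx1 hy1,
      hη.eq_on a' b x y hx hy hx1 hy1]
    ring
  choose F hF using fun i j => inner_int hf (hη.gen i j)
  obtain ⟨e, he⟩ : ∃ e : (W₁ →* ℂˣ) → (W₂ →* ℂˣ) → ℤ, e = fun i j =>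
      (if a = i ∧ b = j then 1 else 0) - if a' = i ∧ b = j then 1 else 0 := ⟨_, rfl⟩
  have hce : ∀ i j, c i j = F i j - e i j := by
    intro i j
    have h := hc i j
    rw [Chars.inner_sub_left, Chars.inner_sub_left, hF, hη.orth, hη.orth] at h
    have h' : ((F i j - e i j : ℤ) : ℂ) = (c i j : ℂ) := by
      rw [← h, he]; push_cast; rfl
    exact_mod_cast h'.symm
  have hF11 : F 1 1 = 0 := by
    have h := hF 1 1
    rw [hη.map_one, hone] at h
    exact_mod_cast h.symm
  have h11 : c 1 1 = 0 := by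
    rw [hce, hF11, he]
    simp [ha, ha']
  have hn' : classInner f f = ((2 : ℤ) : ℂ) := by exact_mod_cast hn
  have hzero : ∀ i j, c i j = 0 := by
    by_contra hcon
    push Not at hcon
    obtain ⟨i₀, j₀, h0⟩ := hcon
    have hle := grid_bessel hη hF hn'
    -- away from `b` the entries of `F` are those of `c`
    have hoff : ∀ i j, j ≠ b → F i j = c i 1 + c 1 j := by
      intro i j hj
      have h' := hce i j
      rw [hadd i j, h11, he] at h'
      simp only [Ne.symm hj, and_false, if_false] at h'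
      linarith
    have hb : ∀ i, F i b = c i 1 + c 1 b + e i b := by
      intro i
      have h' := hce i b
      rw [hadd i b, h11] at h'
      linarith
    have hea : e a b = 1 ∧ e a' b = -1 := by rw [he]; simp [hne, Ne.symm hne]
    have he0 : ∀ i, i ≠ a → i ≠ a' → e i b = 0 := fun i hi hi' => by
      rw [he]; simp [Ne.symm hi, Ne.symm hi']
    have hsq : ∀ z : ℤ, z ≠ 0 → 1 ≤ z ^ 2 := fun z hz =>
      Int.add_one_le_of_lt (pow_two_pos_of_ne_zero hz)
    -- split off the column `b`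
    rw [Finset.sum_comm, ← Finset.add_sum_erase _ _ (Finset.mem_univ b)] at hle
    obtain ⟨j₁, hj₁, j₂, hj₂, hj12⟩ : ∃ j₁ ∈ (Finset.univ : Finset (W₂ →* ℂˣ)).erase b,
        ∃ j₂ ∈ (Finset.univ : Finset (W₂ →* ℂˣ)).erase b, j₁ ≠ j₂ := Finset.one_lt_card.mp (by
      rw [Finset.card_erase_of_mem (Finset.mem_univ _), Finset.card_univ]; omega)
    by_cases hr : ∃ i i', c i 1 ≠ c i' 1
    · obtain ⟨i, i', hii⟩ := hr
      -- every other column contributes
      have hcol : ∀ j ∈ (Finset.univ : Finset (W₂ →* ℂˣ)).erase b, 1 ≤ ∑ x, F x j ^ 2 := by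
        intro j hj
        by_cases hz : F i j = 0
        · refine le_trans (hsq (F i' j) fun h' => hii ?_)
            (Finset.single_le_sum (f := fun x => F x j ^ 2) (fun x _ => sq_nonneg _)
              (Finset.mem_univ i'))
          rw [hoff _ _ (Finset.ne_of_mem_erase hj)] at hz h'
          linarith
        · exact le_trans (hsq _ hz) (Finset.single_le_sum (f := fun x => F x j ^ 2)
            (fun x _ => sq_nonneg _) (Finset.mem_univ i))
      have hsum := Finset.sum_le_sum hcol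
      rw [Finset.sum_const, Finset.card_erase_of_mem (Finset.mem_univ _), Finset.card_univ,
        nsmul_eq_mul, mul_one] at hsum
      have hcard : (2 : ℤ) ≤ ((Fintype.card (W₂ →* ℂˣ) - 1 : ℕ) : ℤ) := by omega
      -- the column `b` is zero, so the values are determined
      have hb0 : ∑ x, F x b ^ 2 = 0 := le_antisymm (by linarith)
        (Finset.sum_nonneg fun x _ => sq_nonneg _)
      have hzb : ∀ x, c x 1 + c 1 b + e x b = 0 := fun x => by
        rw [← hb]
        exact eq_zero_of_pow_eq_zero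
          ((Finset.sum_eq_zero_iff_of_nonneg fun x _ => sq_nonneg _).mp hb0 x (Finset.mem_univ _))
      have hthree : ∀ j ∈ (Finset.univ : Finset (W₂ →* ℂˣ)).erase b, 2 ≤ ∑ x, F x j ^ 2 := by
        intro j hj
        have hj' := Finset.ne_of_mem_erase hj
        have hle2 : F a j ^ 2 + F a' j ^ 2 ≤ ∑ x, F x j ^ 2 := by
          rw [← Finset.sum_pair (f := fun x => F x j ^ 2) hne]
          exact Finset.sum_le_sum_of_subset_of_nonneg (Finset.subset_univ _) fun x _ _ => sq_nonneg _
        have h2 := hzb a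
        have h3 := hzb a'
        rw [hea.1] at h2
        rw [hea.2] at h3
        rw [hoff a j hj', hoff a' j hj'] at hle2
        have hh : (c a 1 + c 1 j) ^ 2 + (c a' 1 + c 1 j) ^ 2 =
            2 * (c 1 j - c 1 b) ^ 2 + 2 := by
          rw [show c a 1 = -1 - c 1 b by linarith, show c a' 1 = 1 - c 1 b by linarith]
          ring
        nlinarith [sq_nonneg (c 1 j - c 1 b)]
      have h4 := Finset.sum_le_sum hthree
      rw [Finset.sum_const, Finset.card_erase_of_mem (Finset.mem_univ _), Finset.card_univ,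
        nsmul_eq_mul] at h4
      nlinarith
    · push Not at hr
      -- all rows agree: `c i 1 = c 1 1 = 0`
      have hr0 : ∀ i, c i 1 = 0 := fun i => (hr i 1).trans h11
      have hj0 : c 1 j₀ ≠ 0 := by
        intro h
        refine h0 ?_
        rw [hadd, hr0, h, h11]
        ring
      by_cases hjb : j₀ = b
      · subst hjb
        have h1 : ∀ i, i ≠ a → i ≠ a' → 1 ≤ F i j₀ ^ 2 := fun i hi hi' => hsq _ (by
          rw [hb, hr0, he0 i hi hi']; simpa using hj0)
        have h2 : (1 : ℤ) ≤ F a j₀ ^ 2 + F a' j₀ ^ 2 := by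
          rw [hb, hb, hr0, hr0, hea.1, hea.2]
          nlinarith [sq_nonneg (c 1 j₀)]
        obtain ⟨i, hi, hi'⟩ : ∃ i, i ≠ a ∧ i ≠ a' := by
          obtain ⟨i, -, hi⟩ := Finset.exists_mem_notMem_of_card_lt_card
            (s := ({a, a'} : Finset (W₁ →* ℂˣ))) (t := Finset.univ) (by
              rw [Finset.card_pair hne, Finset.card_univ]; omega)
          simp only [Finset.mem_insert, Finset.mem_singleton, not_or] at hi
          exact ⟨i, hi⟩
        have h3 : F a j₀ ^ 2 + F a' j₀ ^ 2 + F i j₀ ^ 2 ≤ ∑ x, F x j₀ ^ 2 := by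
          have h := Finset.sum_le_sum_of_subset_of_nonneg
            (f := fun x => F x j₀ ^ 2) (Finset.subset_univ ({a, a', i} : Finset (W₁ →* ℂˣ)))
            fun x _ _ => sq_nonneg _
          rw [Finset.sum_insert (by simp [hne, Ne.symm hi]), Finset.sum_pair (Ne.symm hi')] at h
          linarith
        have h5 : (2 : ℤ) ≤ F a j₀ ^ 2 + F a' j₀ ^ 2 := by
          rw [hb, hb, hr0, hr0, hea.1, hea.2]
          nlinarith [sq_nonneg (c 1 j₀)]
        have h6 : 0 ≤ ∑ j ∈ (Finset.univ : Finset (W₂ →* ℂˣ)).erase j₀, ∑ x, F x j ^ 2 :=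
          Finset.sum_nonneg fun j _ => Finset.sum_nonneg fun x _ => sq_nonneg _
        linarith [h1 i hi hi']
      · have h1 : (3 : ℤ) ≤ ∑ x, F x j₀ ^ 2 := by
          have h := Finset.sum_le_sum (s := (Finset.univ : Finset (W₁ →* ℂˣ)))
            fun x _ => show (1 : ℤ) ≤ F x j₀ ^ 2 from hsq _ (by
              rw [hoff _ _ hjb, hr0]; simpa using hj0)
          rw [Finset.sum_const, Finset.card_univ, nsmul_eq_mul, mul_one] at h
          exact le_trans (by exact_mod_cast h₁) h
        have h2 : ∑ x, F x j₀ ^ 2 ≤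
            ∑ j ∈ (Finset.univ : Finset (W₂ →* ℂˣ)).erase b, ∑ x, F x j ^ 2 :=
          Finset.single_le_sum (f := fun j => ∑ x, F x j ^ 2)
            (fun j _ => Finset.sum_nonneg fun x _ => sq_nonneg _)
            (Finset.mem_erase.mpr ⟨hjb, Finset.mem_univ _⟩)
        have h3 : 0 ≤ ∑ x, F x b ^ 2 := Finset.sum_nonneg fun x _ => sq_nonneg _
        linarith
  have hFe : ∀ i j, classInner f (η i j) = (e i j : ℂ) := fun i j => by
    rw [hF]
    have := hce i j
    rw [hzero] at this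
    exact_mod_cast (show F i j = e i j by linarith)
  have hfin := (bessel ({(a, b), (a', b)} : Finset _) (fun i => η i.1 i.2)
    (grid_orth hη _) f (fun i => e i.1 i.2) (fun i _ => hFe i.1 i.2) hn').2
  rw [Finset.sum_pair (by simp [hne]), Finset.sum_pair (by simp [hne])] at hfin
  have h1 : e a b = 1 ∧ e a' b = -1 := by rw [he]; simp [hne, Ne.symm hne]
  rw [hfin (by rw [h1.1, h1.2]; norm_num), h1.1, h1.2]
  simp [sub_eq_add_neg]

end Grid

/-! ### Orthogonal families -/

section Inner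

variable {G : Type u} [Group G] [Fintype G]

/-- Bessel's inequality for an orthogonal family. -/
theorem bessel_orth {ι : Type*} [DecidableEq ι] (s : Finset ι) (e : ι → G → ℂ) (N : ι → ℝ)
    (hN : ∀ i ∈ s, 0 < N i)
    (he : ∀ i ∈ s, ∀ j ∈ s, classInner (e i) (e j) = if i = j then (N i : ℂ) else 0)
    (f : G → ℂ) :
    ∑ i ∈ s, ‖classInner f (e i)‖ ^ 2 / N i ≤ (classInner f f).re := by
  set c : ι → ℂ := fun i => classInner f (e i) / (N i : ℂ) with hc
  set g : G → ℂ := f - ∑ i ∈ s, c i • e i with hg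
  have hne : ∀ i ∈ s, (N i : ℂ) ≠ 0 := fun i hi => Complex.ofReal_ne_zero.mpr (hN i hi).ne'
  have h1 : classInner f (∑ i ∈ s, c i • e i) =
      ∑ i ∈ s, ((‖classInner f (e i)‖ ^ 2 / N i : ℝ) : ℂ) := by
    rw [inner_sum_right]
    refine Finset.sum_congr rfl fun i hi => ?_
    rw [Chars.inner_smul_right, hc]
    simp only [map_div₀, Complex.conj_ofReal]
    push_cast
    rw [← Complex.conj_mul']
    field_simp
  have h2 : classInner (∑ i ∈ s, c i • e i) f =
      ∑ i ∈ s, ((‖classInner f (e i)‖ ^ 2 / N i : ℝ) : ℂ) := by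
    rw [← inner_conj, h1, map_sum]
    exact Finset.sum_congr rfl fun i _ => Complex.conj_ofReal _
  have h3 : classInner (∑ i ∈ s, c i • e i) (∑ i ∈ s, c i • e i) =
      ∑ i ∈ s, ((‖classInner f (e i)‖ ^ 2 / N i : ℝ) : ℂ) := by
    rw [inner_sum_left]
    refine Finset.sum_congr rfl fun i hi => ?_
    rw [Chars.inner_smul_left, inner_sum_right, Finset.sum_eq_single_of_mem i hi fun j hj hji => by
      rw [Chars.inner_smul_right, he i hi j hj, if_neg (Ne.symm hji), mul_zero]]
    rw [Chars.inner_smul_right, he i hi i hi, if_pos rfl, hc]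
    simp only [map_div₀, Complex.conj_ofReal]
    push_cast
    rw [← Complex.conj_mul']
    field_simp [hne i hi]
  have h := inner_self_re_nonneg g
  rw [hg, Chars.inner_sub_left, Chars.inner_sub_right, Chars.inner_sub_right, h1, h2, h3] at h
  simp only [Complex.sub_re, sub_self, sub_zero, Complex.re_sum, Complex.ofReal_re] at h
  linarith

/-- Two differences of an irreducible character and its conjugate that are orthogonal have four
distinct constituents. -/
theorem distinct_of_orth {μ μ' : IrrCharacter G} (hμ : conjFun (μ : G → ℂ) ≠ μ)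
    (hμ' : conjFun (μ' : G → ℂ) ≠ μ')
    (h : classInner ((μ : G → ℂ) - conjFun (μ : G → ℂ)) ((μ' : G → ℂ) - conjFun (μ' : G → ℂ)) = 0) :
    (μ : G → ℂ) ≠ μ' ∧ (μ : G → ℂ) ≠ conjFun (μ' : G → ℂ) := by
  classical
  have hc : IsIrrCharacter G (conjFun (μ : G → ℂ)) := isIrrCharacter_conj μ.2
  constructor
  · intro e
    rw [← e, Chars.inner_sub_left, Chars.inner_sub_right, Chars.inner_sub_right,
      inner_irr_of_isIrr μ.2 μ.2, inner_irr_of_isIrr μ.2 hc, inner_irr_of_isIrr hc μ.2,
      inner_irr_of_isIrr hc hc, if_pos rfl, if_neg (Ne.symm hμ), if_neg hμ, if_pos rfl] at h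
    norm_num at h
  · intro e
    have e' : conjFun (μ : G → ℂ) = μ' := by rw [e]; exact conjFun_conjFun _
    rw [← e, ← e', Chars.inner_sub_left, Chars.inner_sub_right, Chars.inner_sub_right,
      inner_irr_of_isIrr μ.2 μ.2, inner_irr_of_isIrr μ.2 hc, inner_irr_of_isIrr hc μ.2,
      inner_irr_of_isIrr hc hc, if_pos rfl, if_neg (Ne.symm hμ), if_neg hμ, if_pos rfl] at h
    norm_num at h

end Inner

end CfsgLib.FT.StepA
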