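import Mathlib

/-!
# Step A: the numerical lemmas
-/

set_option autoImplicit false

namespace CfsgLib.FT.StepA

/-- With `x ∉ ℤ` the distance to the integers bounds `x (1 - x)`. -/
theorem mul_one_sub_le_abs {x s : ℝ} {j : ℤ} (h : s + x = j) : x * (1 - x) ≤ |s| := by
  have hs : s = (j : ℝ) - x := by linarith
  rcases le_or_gt x 0 with h0 | h0
  · nlinarith [abs_nonneg s]
  rcases le_or_gt 1 x with h1 | h1
  · nlinarith [abs_nonneg s]
  rcases le_or_gt j 0 with hj | hj
  · have : (j : ℝ) ≤ 0 := by exact_mod_cast hj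
    have h2 : x ≤ |s| := le_trans (by linarith) (neg_le_abs s)
    nlinarith
  · have : (1 : ℝ) ≤ j := by exact_mod_cast hj
    have h2 : 1 - x ≤ |s| := le_trans (by linarith) (le_abs_self s)
    nlinarith

/-- The linear characters alone. -/
theorem linear_deficit {v k c : ℝ} (hv : 0 < v) : -k ^ 2 / v ≤ v * c ^ 2 + 2 * k * c := by
  rw [div_le_iff₀ hv]
  nlinarith [sq_nonneg (v * c + k)]

/-- The linear characters and a weight `W` on the distance from `c` to an integer. -/
theorem weight_deficit {v k c W s : ℝ} (hk : 0 ≤ k) (hv : 2 * k ≤ v) (hW : 0 < W) {j : ℤ}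
    (hs : s - c = j) : -k ^ 2 / W ≤ v * c ^ 2 + 2 * k * c + W * s ^ 2 := by
  have h1 : -c * (1 - -c) ≤ |s| := mul_one_sub_le_abs (j := j) (by linarith)
  have h2 : -(2 * k * |s|) ≤ v * c ^ 2 + 2 * k * c := by
    nlinarith [mul_le_mul_of_nonneg_left h1 (show (0 : ℝ) ≤ 2 * k by linarith),
      mul_le_mul_of_nonneg_right hv (sq_nonneg c)]
  rw [div_le_iff₀ hW]
  rw [← sq_abs s]
  nlinarith [sq_nonneg (W * |s| - k), mul_le_mul_of_nonneg_left h2 hW.le]

/-- The contradiction of the column case. -/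
theorem column_false {k v' c W s d : ℝ} {z j : ℤ} (hk : 0 < k) (hv : 2 * k ≤ v') (hW : 0 < W)
    (hd : 1 ≤ d) (hz1 : 1 ≤ z) (hz2 : (z : ℝ) ≤ d - 1) (hs : s - c = j)
    (hdW : 5 * d * k ≤ W) (hkW : 3 * k ^ 2 < W)
    (h : v' * c ^ 2 + 2 * k * c + ((z : ℝ) + d * c) ^ 2 + W * s ^ 2 ≤ 0) : False := by
  have hz1' : (1 : ℝ) ≤ z := by exact_mod_cast hz1
  obtain ⟨x, hx⟩ : ∃ x, x = -c := ⟨_, rfl⟩
  have hc : c = -x := by linarith
  subst hc
  have hx01 : 0 ≤ x ∧ x ≤ 1 := by
    constructor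
    · nlinarith [sq_nonneg ((z : ℝ) + d * -x), mul_nonneg hW.le (sq_nonneg s)]
    · by_contra hx1
      push Not at hx1
      nlinarith [sq_nonneg ((z : ℝ) + d * -x), mul_nonneg hW.le (sq_nonneg s),
        mul_le_mul_of_nonneg_right hv (sq_nonneg x),
        mul_pos (mul_pos hk (show 0 < x by linarith)) (show 0 < x - 1 by linarith)]
  have h1 : x * (1 - x) ≤ |s| := mul_one_sub_le_abs (j := j) (by linarith)
  have h2 : -(2 * k * |s|) ≤ v' * (-x) ^ 2 + 2 * k * -x := by
    nlinarith [mul_le_mul_of_nonneg_left h1 (show (0 : ℝ) ≤ 2 * k by linarith),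
      mul_le_mul_of_nonneg_right hv (sq_nonneg x)]
  have hy : W * |s| ≤ 2 * k := by
    rcases eq_or_lt_of_le (abs_nonneg s) with h0 | h0
    · rw [← h0]; linarith
    · have h' : W * |s| * |s| ≤ 2 * k * |s| := by
        nlinarith [sq_nonneg ((z : ℝ) + d * -x), sq_abs s]
      exact le_of_mul_le_mul_right h' h0
  have hds : d * |s| ≤ 2 / 5 := by nlinarith [abs_nonneg s]
  have ha : (9 : ℝ) / 25 ≤ ((z : ℝ) + d * -x) ^ 2 := by
    rcases le_or_gt j 0 with hj | hj
    · -- the nearest integer is `0`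
      have hj' : (j : ℝ) ≤ 0 := by exact_mod_cast hj
      have hxs : x ≤ |s| := le_trans (by linarith) (neg_le_abs s)
      have : d * x ≤ 2 / 5 := le_trans (mul_le_mul_of_nonneg_left hxs (by linarith)) hds
      nlinarith
    · -- the nearest integer is `1`
      have hj' : (1 : ℝ) ≤ j := by exact_mod_cast hj
      have hxs : 1 - x ≤ |s| := le_trans (by linarith) (le_abs_self s)
      have : d * (1 - x) ≤ 2 / 5 := le_trans (mul_le_mul_of_nonneg_left hxs (by linarith)) hds
      nlinarith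
  have h3 : W * (9 / 25 - 2 * k * |s| + W * s ^ 2) ≤ 0 :=
    mul_nonpos_of_nonneg_of_nonpos hW.le (by linarith)
  rw [← sq_abs s] at h3
  nlinarith [sq_nonneg (W * |s| - k)]

end CfsgLib.FT.StepA
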