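import Cfsg.Agent.Lib.FT.StepA.Setup
import Cfsg.Agent.Lib.Base.FPF
import Cfsg.Agent.Lib.Coprime.Action

/-!
# The action of `W₂` on the sections of `T'`

`W₂` has no fixed points on `T'/N` for a normal subgroup `N` of `T` containing `W₁`, so the index
of such an `N` in `T'` is `1` modulo `2 |W₂|`.
-/

set_option autoImplicit false
set_option linter.style.haveILetI false
set_option linter.unusedSectionVars false

namespace CfsgLib.FT.StepA

open _root_.Subgroup Cfsg CfsgLib.OddOrder CfsgLib.FT.BG15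

universe u

variable {G : Type u} [Group G] [Finite G]

/-- A subgroup without fixed points on the quotient `H/N` has order dividing `|H : N| - 1`. -/
theorem card_dvd_relIndex_sub_one {L H N W : Subgroup G} (hWL : W ≤ L) (hHL : H ≤ L)
    (hnH : L ≤ normalizer (H : Set G)) (hnN : L ≤ normalizer (N : Set G)) (hWN : W ⊓ N = ⊥)
    (hfix : ∀ y ∈ W, y ≠ 1 → ∀ h ∈ H, y * h * y⁻¹ * h⁻¹ ∈ N → h ∈ N) :
    Nat.card W ∣ N.relIndex H - 1 := by
  haveI : (N.subgroupOf L).Normal := normal_subgroupOf_of_le_normalizer hnN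
  set π := QuotientGroup.mk' (N.subgroupOf L) with hπ
  have hA : Nat.card ↥((W.subgroupOf L).map π) = Nat.card W := by
    rw [CfsgLib.Coprime.card_map_mk', relIndex_subgroupOf hWL, ← inf_relIndex_right, inf_comm, hWN,
      relIndex_bot_left]
  have hV : Nat.card ↥((H.subgroupOf L).map π) = N.relIndex H := by
    rw [CfsgLib.Coprime.card_map_mk', relIndex_subgroupOf hHL]
  haveI hn : (H.subgroupOf L).Normal := normal_subgroupOf_of_le_normalizer hnH
  haveI : ((H.subgroupOf L).map π).Normal := hn.map π (QuotientGroup.mk'_surjective _)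
  have hfpf : CfsgLib.Base.IsFPF ((W.subgroupOf L).map π) ((H.subgroupOf L).map π) := by
    refine ⟨by rw [normalizer_eq_top]; exact le_top, ?_⟩
    rintro _ ⟨w, hw, rfl⟩ hw1
    refine (Subgroup.eq_bot_iff_forall _).mpr ?_
    rintro _ ⟨⟨h, hh, rfl⟩, hc⟩
    have hc' : π (w * h * w⁻¹ * h⁻¹) = 1 := by
      rw [map_mul, map_mul, map_mul, map_inv, map_inv, ← mem_centralizer_singleton_iff.mp hc,
        mul_inv_cancel_right, mul_inv_cancel]
    rw [hπ, QuotientGroup.mk'_apply, QuotientGroup.eq_one_iff] at hc'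
    refine (QuotientGroup.eq_one_iff h).mpr (mem_subgroupOf.mpr (hfix w (mem_subgroupOf.mp hw) ?_ h
      (mem_subgroupOf.mp hh) (by simpa [mem_subgroupOf] using hc')))
    intro e
    exact hw1 (by rw [show w = 1 from Subtype.ext e, map_one])
  have h := hfpf.card_dvd
  rwa [hA, hV] at h

namespace Pair

variable {S T W₁ W₂ : Subgroup G} (P : Pair S T W₁ W₂)
include P

theorem derived_le : ⁅T, T⁆ ≤ T := Subgroup.commutator_le_self T

theorem le_normalizer_derived : T ≤ normalizer ((⁅T, T⁆ : Subgroup G) : Set G) := by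
  rw [P.derivedT]
  exact le_normalizer_sigmaCore T

theorem W₂_inf_derived : W₂ ⊓ ⁅T, T⁆ = ⊥ :=
  CfsgLib.Base.inf_eq_bot_of_coprime P.coprime_k

theorem odd_card {X : Subgroup G} : Odd (Nat.card X) :=
  P.minimal.1.of_dvd_nat (card_subgroup_dvd_card X)

theorem commute_W {a b : G} (ha : a ∈ W₁) (hb : b ∈ W₂) : a * b = b * a :=
  P.selfNorm.2.2.2.1 a ha b hb

theorem derived_ne_bot : (⁅T, T⁆ : Subgroup G) ≠ ⊥ := fun h =>
  P.selfNorm.1 (le_bot_iff.mp (P.W₁_le_derived.trans h.le))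

theorem derived_solvable : Group.IsSolvable (⁅T, T⁆ : Subgroup G) :=
  CfsgLib.Coprime.isSolvable_of_le P.derived_le (maximal_solvable P.minimal P.coatomT)

/-- A coset of `N` in `T'` fixed by `y ∈ W₂#` meets `W₁`. -/
theorem exists_W₁_of_fixed {N : Subgroup G} (hN : N ≤ ⁅T, T⁆) (hn : T ≤ normalizer (N : Set G))
    {y : G} (hy : y ∈ W₂) (hy1 : y ≠ 1) {h : G} (hh : h ∈ (⁅T, T⁆ : Subgroup G))
    (hmod : y * h * y⁻¹ * h⁻¹ ∈ N) : ∃ c ∈ W₁, h⁻¹ * c ∈ N := by
  have hyn : y ∈ normalizer (N : Set G) := hn (P.W₂_le_T hy)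
  have h1 : h⁻¹ * (y * h * y⁻¹) ∈ N := by
    have := (mem_normalizer_iff.mp (hn (T.inv_mem (P.derived_le hh))) _).mp hmod
    simpa [mul_assoc] using this
  have hcop : (Nat.card (zpowers y)).Coprime (Nat.card N) :=
    (P.coprime_k.coprime_dvd_left (card_dvd_of_le (zpowers_le.mpr hy))).coprime_dvd_right
      (card_dvd_of_le hN)
  obtain ⟨c, hc, hcN⟩ := CfsgLib.Coprime.exists_centralizing_in_coset (zpowers_le.mpr hyn) hcop
    (Or.inr (CfsgLib.Coprime.isSolvable_of_le hN P.derived_solvable)) (k := h)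
    (fun a ha => CfsgLib.OddOrder.FrobeniusAction.conj_mem_of_mem_zpowers hyn h1 ha)
  refine ⟨c, ?_, hcN⟩
  rw [← P.centralizer_W₂ hy hy1]
  exact ⟨by simpa using mul_mem hh (hN hcN), mem_centralizer_singleton_iff.mpr
    (mem_centralizer_iff.mp hc y (mem_zpowers y)).symm⟩

theorem fixed_mem {N : Subgroup G} (hN : N ≤ ⁅T, T⁆) (hW : W₁ ≤ N) (hn : T ≤ normalizer (N : Set G))
    {y : G} (hy : y ∈ W₂) (hy1 : y ≠ 1) {h : G} (hh : h ∈ (⁅T, T⁆ : Subgroup G))
    (hmod : y * h * y⁻¹ * h⁻¹ ∈ N) : h ∈ N := by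
  obtain ⟨c, hc, hcN⟩ := P.exists_W₁_of_fixed hN hn hy hy1 hh hmod
  simpa using N.mul_mem (hW hc) (N.inv_mem hcN)

theorem relIndex_mod {N : Subgroup G} (hN : N ≤ ⁅T, T⁆) (hW : W₁ ≤ N)
    (hn : T ≤ normalizer (N : Set G)) : N.relIndex ⁅T, T⁆ % (2 * Nat.card W₂) = 1 := by
  have h1 := card_dvd_relIndex_sub_one P.W₂_le_T P.derived_le P.le_normalizer_derived hn
    (le_bot_iff.mp ((inf_le_inf_left W₂ hN).trans P.W₂_inf_derived.le))
    fun y hy hy1 h hh hmod => P.fixed_mem hN hW hn hy hy1 hh hmod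
  have hr : Odd (N.relIndex ⁅T, T⁆) :=
    (P.odd_card (X := ⁅T, T⁆)).of_dvd_nat (Dvd.intro _ (relIndex_mul_card_of_le hN))
  have hk : Odd (Nat.card W₂) := P.odd_card
  obtain ⟨c, hc⟩ := h1
  have hpos : 1 ≤ N.relIndex ⁅T, T⁆ := hr.pos
  have hk0 : 0 < Nat.card W₂ := Nat.card_pos
  obtain ⟨d, hd⟩ : Even c := by
    have he : Even (Nat.card W₂ * c) := hc ▸ (Nat.Odd.sub_odd hr odd_one)
    exact (Nat.even_mul.mp he).resolve_left (Nat.not_even_iff_odd.mpr hk)
  rw [show N.relIndex ⁅T, T⁆ = 1 + 2 * Nat.card W₂ * d by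
    rw [← Nat.sub_add_cancel hpos, hc, hd]; ring]
  rw [Nat.add_mul_mod_self_left, Nat.one_mod_eq_one]
  omega

theorem le_relIndex {N : Subgroup G} (hN : N ≤ ⁅T, T⁆) (hW : W₁ ≤ N)
    (hn : T ≤ normalizer (N : Set G)) (hne : N ≠ ⁅T, T⁆) :
    2 * Nat.card W₂ + 1 ≤ N.relIndex ⁅T, T⁆ := by
  have h1 : N.relIndex ⁅T, T⁆ ≠ 1 := fun h => hne (le_antisymm hN (relIndex_eq_one.mp h))
  have h2 := P.relIndex_mod hN hW hn
  have h3 := Nat.div_add_mod (N.relIndex ⁅T, T⁆) (2 * Nat.card W₂)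
  rw [h2] at h3
  rcases Nat.eq_zero_or_pos (N.relIndex ⁅T, T⁆ / (2 * Nat.card W₂)) with h | h
  · rw [h, mul_zero, zero_add] at h3
    exact absurd h3.symm h1
  · calc 2 * Nat.card W₂ + 1 ≤ 2 * Nat.card W₂ * (N.relIndex ⁅T, T⁆ / (2 * Nat.card W₂)) + 1 :=
        Nat.add_le_add_right (Nat.le_mul_of_pos_right _ h) 1
      _ = _ := h3

end Pair

end CfsgLib.FT.StepA
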