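import Cfsg.Agent.Lib.FT.StepA.Chars
import Cfsg.Agent.Lib.FT.InducedExpansion
import Cfsg.Agent.Lib.FT.CoherentOrth
import Cfsg.Agent.Lib.FT.PF13.Count
import Cfsg.Agent.Lib.CharsMore.InducedIrr

/-!
# Step A: the images `β` of `Ind 1 - ζ` and the two alternatives

For a nontrivial linear character `l` of `T'`, `ζ = Ind l` and `β = τ (Ind 1 - ζ)`.  On the grid
either `β` has the row `∑ η (1, b)` or it has the column, and the column needs `q < k`.
-/

set_option autoImplicit false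
set_option linter.style.haveILetI false
set_option linter.unusedSectionVars false

namespace CfsgLib.FT.StepA

open _root_.Subgroup Cfsg CfsgLib.Chars CfsgLib.CharsMore CfsgLib.FT.PF13
open scoped ComplexConjugate

universe u

variable {G : Type u} [Group G] {S T W₁ W₂ : Subgroup G}

section General

variable [Fintype G]

/-- Automorphisms of the coefficient field preserve inner products of generalized characters. -/
theorem inner_galois {f g : G → ℂ} (hg : IsGeneralizedCharacter G g) (σ : ℂ ≃+* ℂ) {g₁ : G → ℂ} (hg₁ : IsGeneralizedCharacter G g₁)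
    (he : ∀ x, σ (g x) = g₁ x) :
    classInner (fun x => σ (f x)) g₁ = σ (classInner f g) := by
  simp only [Chars.inner_def, map_mul, map_inv₀, map_natCast, map_sum, ← gen_inv_apply hg,
    ← gen_inv_apply hg₁, he]

/-- A generalized character whose grid coefficients fill its norm is the combination of the grid. -/
theorem eq_grid_combination {W₁ W₂ : Subgroup G} {η : (W₁ →* ℂˣ) → (W₂ →* ℂˣ) → G → ℂ}
    [Fintype (W₁ →* ℂˣ)] [Fintype (W₂ →* ℂˣ)] (hη : Grid W₁ W₂ η) {f : G → ℂ}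
    {c : (W₁ →* ℂˣ) → (W₂ →* ℂˣ) → ℤ} (hc : ∀ a b, classInner f (η a b) = c a b) {n : ℤ}
    (hn : classInner f f = n) (h : n ≤ ∑ a, ∑ b, c a b ^ 2) :
    f = ∑ a, ∑ b, (c a b : ℂ) • η a b := by
  classical
  have hb := bessel Finset.univ (fun i : (W₁ →* ℂˣ) × (W₂ →* ℂˣ) => η i.1 i.2) (grid_orth hη _) f
    (fun i => c i.1 i.2) (fun i _ => hc i.1 i.2) hn
  rw [Fintype.sum_prod_type, Fintype.sum_prod_type] at hb
  exact hb.2 (le_antisymm hb.1 h)

end General

namespace Pair

variable [Fintype G] (P : Pair S T W₁ W₂)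
include P

variable [Fintype T]

/-- The function induced from a linear character of `T'`. -/
noncomputable def zeta (_P : Pair S T W₁ W₂) (l : Kd T →* ℂˣ) : T → ℂ :=
  indFun (Kd T) fun x => (l x : ℂ)

/-- `Ind 1 - ζ`. -/
noncomputable def alpha (P : Pair S T W₁ W₂) (l : Kd T →* ℂˣ) : T → ℂ := indOne (Kd T) - P.zeta l

/-- `τ (Ind 1 - ζ)`. -/
noncomputable def beta (P : Pair S T W₁ W₂) (l : Kd T →* ℂˣ) : G → ℂ := P.tau (P.alpha l)

theorem zeta_of_notMem (l : Kd T →* ℂˣ) {x : T} (hx : x ∉ Kd T) : P.zeta l x = 0 :=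
  indFun_eq_zero_of_notMem _ _ hx

theorem zeta_one (l : Kd T →* ℂˣ) : P.zeta l 1 = (Nat.card W₂ : ℂ) := by
  unfold zeta
  rw [indFun_one_apply, map_one, Units.val_one, mul_one, P.index_Kd]

theorem zeta_mem {l : Kd T →* ℂˣ} (hl : l ≠ 1) : P.zeta l ∈ inducedIrrAbove (Kd T) ⊥ := by
  refine ⟨fun x => (l x : ℂ), isIrrCharacter_linear l, fun e => hl ?_, fun a ha => ?_, rfl⟩
  · exact MonoidHom.ext fun x => Units.ext (congrFun e x)
  · rw [Subgroup.mem_bot, OneMemClass.coe_eq_one] at ha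
    rw [ha]

theorem zeta_irr {l : Kd T →* ℂˣ} (hl : l ≠ 1) : IsIrrCharacter T (P.zeta l) := by
  classical
  haveI : Fintype (Kd T) := Fintype.ofFinite _
  have hirr := isIrrCharacter_linear l
  have hin : inertia (Kd T) (fun x => (l x : ℂ)) = Kd T := by
    refine le_antisymm (fun x hx => ?_)
      (le_inertia _ (isClassFunction_of_isCharacter (isCharacter_of_irr hirr)))
    by_contra hxK
    exact hl (P.lin_fixed_eq_one hxK fun b => Units.ext ((mem_inertia (Kd T)).1 hx b))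
  have hn : classInner (P.zeta l) (P.zeta l) = 1 := by
    unfold zeta
    rw [inner_indFun_self (Kd T) hirr, hin, Subgroup.relIndex_self, Nat.cast_one]
  exact irr_of_norm_one
    (mem_genChar.mp (genChar_of_isCharacter (isCharacter_indFun _ (isCharacter_of_irr hirr)))) hn
    (by rw [P.zeta_one, Complex.natCast_re]; exact Nat.cast_nonneg _)

theorem zeta_inv (l : Kd T →* ℂˣ) : P.zeta l⁻¹ = conjFun (P.zeta l) := by
  funext x
  simp only [zeta, conjFun, indFun_apply, map_mul, map_inv₀, Complex.conj_natCast, map_sum]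
  congr 1
  refine Finset.sum_congr rfl fun y _ => ?_
  by_cases h : y⁻¹ * x * y ∈ Kd T
  · rw [extendByZero_of_mem _ _ h, extendByZero_of_mem _ _ h, MonoidHom.inv_apply, ← map_inv]
    exact char_inv (isCharacter_of_irr (isIrrCharacter_linear l)) _
  · rw [extendByZero_of_not_mem _ _ h, extendByZero_of_not_mem _ _ h, map_zero]

theorem zeta_conj_ne {l : Kd T →* ℂˣ} (hl : l ≠ 1) : P.zeta l⁻¹ ≠ P.zeta l := by
  intro e
  rw [P.zeta_inv] at e
  have hreal : ∀ g, (P.zeta l g).im = 0 := fun g => Complex.conj_eq_iff_im.mp (congrFun e g)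
  have hp : P.zeta l = fun _ => 1 :=
    congrArg Subtype.val (eq_principal_of_real_of_odd P.odd_T ⟨_, P.zeta_irr hl⟩ hreal)
  have h1 := congrFun hp 1
  rw [P.zeta_one] at h1
  have := P.three_le_card_W₂
  have h2 : Nat.card W₂ = 1 := by exact_mod_cast h1
  omega

theorem alpha_gen (l : Kd T →* ℂˣ) : IsGeneralizedCharacter T (P.alpha l) :=
  ⟨_, _, isCharacter_indFun _ (isCharacter_of_irr isIrrCharacter_one),
    isCharacter_indFun _ (isCharacter_of_irr (isIrrCharacter_linear l)), rfl⟩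

theorem alpha_one (l : Kd T →* ℂˣ) : P.alpha l 1 = 0 := by
  rw [alpha, Pi.sub_apply, P.zeta_one, indOne_apply_mem _ (Kd T).one_mem, P.index_Kd, sub_self]

theorem alpha_of_notMem (l : Kd T →* ℂˣ) (x : T) (hx : x ∉ Kd T) : P.alpha l x = 0 := by
  rw [alpha, Pi.sub_apply, P.zeta_of_notMem l hx, sub_zero]
  exact indFun_eq_zero_of_notMem _ _ hx

theorem alpha_class (l : Kd T →* ℂˣ) : IsClassFunction T (P.alpha l) :=
  isClassFunction_of_isGeneralized (P.alpha_gen l)

theorem beta_gen (l : Kd T →* ℂˣ) : IsGeneralizedCharacter G (P.beta l) :=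
  P.tau_gen (P.alpha_gen l) (P.alpha_one l) (P.alpha_of_notMem l)

theorem beta_regular (l : Kd T →* ℂˣ) (x y : G) (hx : x ∈ W₁) (hy : y ∈ W₂) (hx1 : x ≠ 1)
    (hy1 : y ≠ 1) : P.beta l (x * y) = 0 :=
  P.tau_regular (P.alpha_class l) (P.alpha_one l) (P.alpha_of_notMem l) x y hx hy hx1 hy1

theorem inner_zeta {l l' : Kd T →* ℂˣ} (hl : l ≠ 1) (hl' : l' ≠ 1)
    [Decidable (P.zeta l = P.zeta l')] :
    classInner (P.zeta l) (P.zeta l') = if P.zeta l = P.zeta l' then 1 else 0 := by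
  classical
  rw [inner_irr_of_isIrr (P.zeta_irr hl) (P.zeta_irr hl')]

theorem inner_indOne_zeta {l : Kd T →* ℂˣ} (hl : l ≠ 1) :
    classInner (indOne (Kd T)) (P.zeta l) = 0 :=
  inner_indOne_induced _ (P.zeta_mem hl)

theorem inner_beta {l l' : Kd T →* ℂˣ} (hl : l ≠ 1) (hl' : l' ≠ 1)
    [Decidable (P.zeta l = P.zeta l')] :
    classInner (P.beta l) (P.beta l') =
      (Nat.card W₂ : ℂ) + if P.zeta l = P.zeta l' then 1 else 0 := by
  have h0 : classInner (P.zeta l) (indOne (Kd T)) = 0 := by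
    rw [← inner_conj, P.inner_indOne_zeta hl, map_zero]
  rw [beta, beta, P.tau_inner (P.alpha_class l) (P.alpha_one l) (P.alpha_of_notMem l)
    (P.alpha_class l'), alpha, alpha, Chars.inner_sub_left, Chars.inner_sub_right,
    Chars.inner_sub_right, inner_indOne_indOne, P.index_Kd, P.inner_indOne_zeta hl', h0,
    P.inner_zeta hl hl']
  ring

theorem inner_beta_one {l : Kd T →* ℂˣ} (hl : l ≠ 1) :
    classInner (P.beta l) (fun _ => 1) = 1 := by
  classical
  haveI : Fintype (Kd T) := Fintype.ofFinite _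
  have hone : IsClassFunction T fun _ => (1 : ℂ) := fun _ _ => rfl
  rw [beta, P.tau_inner_one (P.alpha_class l) (P.alpha_one l) (P.alpha_of_notMem l), alpha,
    Chars.inner_sub_left, indOne, zeta, inner_indFun _ _ hone, inner_indFun _ _ hone,
    Chars.inner_one_one, show (fun k : Kd T => (1 : ℂ)) = fun k => ((1 : Kd T →* ℂˣ) k : ℂ) from rfl,
    PF13.inner_lin, if_neg hl, sub_zero]

theorem beta_sub_norm {l l' : Kd T →* ℂˣ} (hl : l ≠ 1) (hl' : l' ≠ 1)
    (hne : P.zeta l ≠ P.zeta l') :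
    classInner (P.beta l - P.beta l') (P.beta l - P.beta l') = 2 := by
  classical
  rw [Chars.inner_sub_left, Chars.inner_sub_right, Chars.inner_sub_right, P.inner_beta hl hl,
    P.inner_beta hl hl', P.inner_beta hl' hl, P.inner_beta hl' hl', if_pos rfl, if_pos rfl,
    if_neg hne, if_neg (Ne.symm hne)]
  ring

variable {η : (W₁ →* ℂˣ) → (W₂ →* ℂˣ) → G → ℂ}

/-- The grid coefficients of `β` do not depend on the linear character. -/
theorem inner_beta_eta_indep (hη : Grid W₁ W₂ η) {l l' : Kd T →* ℂˣ} (hl : l ≠ 1) (hl' : l' ≠ 1)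
    (a : W₁ →* ℂˣ) (b : W₂ →* ℂˣ) :
    classInner (P.beta l) (η a b) = classInner (P.beta l') (η a b) := by
  classical
  haveI : Fintype (W₁ →* ℂˣ) := Fintype.ofFinite _
  haveI : Fintype (W₂ →* ℂˣ) := Fintype.ofFinite _
  by_cases hz : P.zeta l = P.zeta l'
  · rw [beta, beta, alpha, alpha, hz]
  have h := grid_zero_of_norm_two hη (by rw [P.card_hom_W₁]; exact P.three_le_card_W₁)
    (by rw [P.card_hom_W₂]; exact P.three_le_card_W₂)
    (isGeneralized_sub (P.beta_gen l) (P.beta_gen l'))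
    (fun x y hx hy hx1 hy1 => by
      rw [Pi.sub_apply, P.beta_regular l x y hx hy hx1 hy1, P.beta_regular l' x y hx hy hx1 hy1,
        sub_zero])
    (by rw [Chars.inner_sub_left, P.inner_beta_one hl, P.inner_beta_one hl', sub_self])
    (P.beta_sub_norm hl hl' hz) a b
  rwa [Chars.inner_sub_left, sub_eq_zero] at h

/-- The grid coefficients are invariant under powers prime to `|G|`. -/
theorem inner_beta_eta_galois (hη : Grid W₁ W₂ η) {l : Kd T →* ℂˣ} (hl : l ≠ 1) {m : ℕ}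
    (hm : m.Coprime (Nat.card G)) (a : W₁ →* ℂˣ) (b : W₂ →* ℂˣ) :
    classInner (P.beta l) (η (a ^ m) (b ^ m)) = classInner (P.beta l) (η a b) := by
  classical
  haveI : NeZero (Nat.card G) := ⟨Nat.card_pos.ne'⟩
  obtain ⟨σ, hσ⟩ := CharApps.exists_galois_pow (Nat.card G) hm
  obtain ⟨z, hz⟩ := inner_int (P.beta_gen l) (hη.gen a b)
  let s : ℂˣ →* ℂˣ := Units.map σ.toRingHom.toMonoidHom
  have hl' : s.comp l ≠ 1 := fun e => hl (MonoidHom.ext fun x => Units.ext (σ.injective (by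
    have h := congrArg (fun f : Kd T →* ℂˣ => ((f x : ℂˣ) : ℂ)) e
    simpa [s] using h)))
  have hind : ∀ (f : Kd T → ℂ) (x : T), σ (indFun (Kd T) f x) = indFun (Kd T) (fun k => σ (f k)) x := by
    intro f x
    simp only [indFun_apply, map_mul, map_inv₀, map_natCast, map_sum]
    congr 1
    refine Finset.sum_congr rfl fun y _ => ?_
    by_cases h : y⁻¹ * x * y ∈ Kd T
    · rw [extendByZero_of_mem _ _ h, extendByZero_of_mem _ _ h]
    · rw [extendByZero_of_not_mem _ _ h, extendByZero_of_not_mem _ _ h, map_zero]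
  have he : (fun g => σ (P.beta l g)) = P.beta (s.comp l) := by
    funext g
    rw [beta, Pair.tau, galois_dade]
    congr 1
    funext x
    simp only [alpha, Pi.sub_apply, map_sub, indOne, zeta, hind, map_one]
    rfl
  have key := inner_galois (f := P.beta l) (hη.gen a b) σ (hη.gen (a ^ m) (b ^ m))
    fun x => hη.galois m σ hm hσ a b x
  rw [he, P.inner_beta_eta_indep hη hl' hl, hz, map_intCast] at key
  rw [key, hz]

/-- Two nontrivial linear characters of a group of prime order differ by a power prime to `|G|`. -/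
theorem exists_pow_hom {W : Subgroup G} [Finite (W →* ℂˣ)] (hW : (Nat.card (W →* ℂˣ)).Prime)
    {a a' : W →* ℂˣ} (ha : a ≠ 1) (ha' : a' ≠ 1) :
    ∃ m : ℕ, m.Coprime (Nat.card G) ∧ a ^ m = a' := by
  classical
  haveI := Fact.mk hW
  obtain ⟨j, hj⟩ : ∃ j : ℕ, a ^ j = a' :=
    Submonoid.mem_powers_iff _ _ |>.mp (mem_powers_of_prime_card (g' := a') rfl ha)
  exact exists_coprime_pow hW (((Nat.dvd_prime hW).mp (orderOf_dvd_natCard a)).resolve_left
    fun e => ha (orderOf_eq_one_iff.mp e)) Nat.card_pos.ne' hj ha'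

/-- The row alternative. -/
def IsRow (P : Pair S T W₁ W₂) (η : (W₁ →* ℂˣ) → (W₂ →* ℂˣ) → G → ℂ) : Prop :=
  ∀ l : Kd T →* ℂˣ, l ≠ 1 → ∀ a b, [Decidable (a = 1)] →
    classInner (P.beta l) (η a b) = if a = 1 then 1 else 0

/-- The column alternative. -/
def IsColumn (P : Pair S T W₁ W₂) (η : (W₁ →* ℂˣ) → (W₂ →* ℂˣ) → G → ℂ)
    (c : (W₂ →* ℂˣ) → ℤ) : Prop :=
  Nat.card W₁ < Nat.card W₂ ∧ c 1 = 1 ∧ (∃ b, b ≠ 1 ∧ c b = 0) ∧
    ((Nat.card W₂).Prime → ∀ b, b ≠ 1 → c b = 0) ∧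
    ∀ l : Kd T →* ℂˣ, l ≠ 1 → ∀ a b, classInner (P.beta l) (η a b) = c b

theorem dichotomy (hη : Grid W₁ W₂ η) {l₀ : Kd T →* ℂˣ} (hl₀ : l₀ ≠ 1) :
    P.IsRow η ∨ ∃ c, P.IsColumn η c := by
  classical
  haveI : Fintype (W₁ →* ℂˣ) := Fintype.ofFinite _
  haveI : Fintype (W₂ →* ℂˣ) := Fintype.ofFinite _
  obtain ⟨c, hc, hadd⟩ := grid_coeff hη (P.beta_gen l₀) (P.beta_regular l₀)
  have h11 : c 1 1 = 1 := by
    have h := hc 1 1
    rw [hη.map_one, P.inner_beta_one hl₀] at h
    exact_mod_cast h.symm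
  have hall : ∀ l : Kd T →* ℂˣ, l ≠ 1 → ∀ a b, classInner (P.beta l) (η a b) = c a b :=
    fun l hl a b => by rw [P.inner_beta_eta_indep hη hl hl₀, hc]
  set k := Nat.card W₂ with hk
  set q := Nat.card W₁ with hq
  have hk3 : 3 ≤ k := P.three_le_card_W₂
  have hq3 : 3 ≤ q := P.three_le_card_W₁
  -- the grid takes at most `k` of the norm `k + 1`
  have hle : ∑ a, ∑ b, c a b ^ 2 ≤ (k : ℤ) := by
    by_contra hcon
    push Not at hcon
    have hcomb : ∀ l : Kd T →* ℂˣ, l ≠ 1 → P.beta l = ∑ a, ∑ b, (c a b : ℂ) • η a b := by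
      intro l hl
      refine eq_grid_combination hη (hall l hl) (n := (k : ℤ) + 1) ?_ (by linarith)
      rw [P.inner_beta hl hl, if_pos rfl]
      push_cast
      rfl
    have hne := P.zeta_conj_ne hl₀
    have hl' : l₀⁻¹ ≠ 1 := fun e => hl₀ (MonoidHom.ext fun x => inv_eq_one.mp (by
      simpa using DFunLike.congr_fun e x))
    have h2 := P.beta_sub_norm hl₀ hl' (Ne.symm hne)
    rw [hcomb l₀ hl₀, hcomb _ hl', sub_self] at h2
    simp [Chars.inner_def] at h2
  -- the column of the trivial character of `W₂` is constant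
  obtain ⟨a₁, ha₁⟩ : ∃ a : W₁ →* ℂˣ, a ≠ 1 :=
    Fintype.exists_ne_of_one_lt_card (by rw [P.card_hom_W₁]; omega) 1
  have hm : ∀ a, a ≠ 1 → c a 1 = c a₁ 1 := by
    intro a ha
    obtain ⟨m, hm, hma⟩ := P.exists_pow_hom (W := W₁)
      (by rw [Nat.card_eq_fintype_card, P.card_hom_W₁]; exact P.prime_q) ha₁ ha
    have h := P.inner_beta_eta_galois hη hl₀ hm a₁ 1
    rw [hma, show ((1 : W₂ →* ℂˣ) ^ m) = 1 from MonoidHom.ext fun _ => one_pow m, hc, hc] at h
    exact_mod_cast h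
  set m := c a₁ 1 with hmdef
  have hsum : ∑ a, ∑ b, c a b ^ 2 = 1 + ((q : ℤ) - 1) * m ^ 2 +
      ∑ b ∈ (Finset.univ : Finset (W₂ →* ℂˣ)).erase 1,
        (c 1 b ^ 2 + ((q : ℤ) - 1) * (m + c 1 b - 1) ^ 2) := by
    have hcol : ∀ b, ∑ a, c a b ^ 2 = c 1 b ^ 2 + ((q : ℤ) - 1) * (m + c 1 b - 1) ^ 2 := by
      intro b
      rw [← Finset.add_sum_erase _ _ (Finset.mem_univ (1 : W₁ →* ℂˣ)),
        Finset.sum_congr rfl fun a ha => by
          rw [hadd a b, h11, hm a (Finset.ne_of_mem_erase ha)],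
        Finset.sum_const, Finset.card_erase_of_mem (Finset.mem_univ _), Finset.card_univ,
        P.card_hom_W₁, nsmul_eq_mul, Nat.cast_sub (by omega : 1 ≤ q)]
      push_cast
      ring
    rw [Finset.sum_comm, ← Finset.add_sum_erase _ _ (Finset.mem_univ (1 : W₂ →* ℂˣ)),
      Finset.sum_congr rfl fun b _ => hcol b, hcol 1, h11]
    ring
  rw [hsum] at hle
  have hq' : (2 : ℤ) ≤ (q : ℤ) - 1 := by omega
  have hcard : (((Finset.univ : Finset (W₂ →* ℂˣ)).erase 1).card : ℤ) = (k : ℤ) - 1 := by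
    rw [Finset.card_erase_of_mem (Finset.mem_univ _), Finset.card_univ, P.card_hom_W₂,
      Nat.cast_sub (by omega : 1 ≤ k)]
    rfl
  have hsq : ∀ z : ℤ, z ≠ 0 → 1 ≤ z ^ 2 := fun z hz =>
    Int.add_one_le_of_lt (pow_two_pos_of_ne_zero hz)
  by_cases hm1 : m = 1
  · right
    refine ⟨fun b => c 1 b, ?_⟩
    have hterm : ∀ b, c 1 b ^ 2 + ((q : ℤ) - 1) * (m + c 1 b - 1) ^ 2 = (q : ℤ) * c 1 b ^ 2 :=
      fun b => by rw [hm1]; ring
    simp only [hterm] at hle
    rw [hm1] at hle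
    have hpos : 0 ≤ ∑ b ∈ (Finset.univ : Finset (W₂ →* ℂˣ)).erase 1, (q : ℤ) * c 1 b ^ 2 :=
      Finset.sum_nonneg fun b _ => by positivity
    have hlt : q < k := by
      have hne : q ≠ k := by
        intro e
        have hcop := P.coprime_k
        rw [← hk, ← e, hq] at hcop
        exact P.prime_q.one_lt.ne' (Nat.Coprime.eq_one_of_dvd hcop (card_dvd_of_le P.W₁_le_derived))
      omega
    refine ⟨hlt, h11, ?_, fun hkp b hb => ?_, fun l hl a b => ?_⟩
    · by_contra hcon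
      push Not at hcon
      have h := Finset.sum_le_sum (s := (Finset.univ : Finset (W₂ →* ℂˣ)).erase 1)
        fun b hb => show (q : ℤ) ≤ (q : ℤ) * c 1 b ^ 2 from
          le_mul_of_one_le_right (Nat.cast_nonneg _) (hsq _ (hcon b (Finset.ne_of_mem_erase hb)))
      rw [Finset.sum_const, nsmul_eq_mul, hcard] at h
      nlinarith
    · have hconst : ∀ b' ∈ (Finset.univ : Finset (W₂ →* ℂˣ)).erase 1, c 1 b' = c 1 b := by
        intro b' hb'
        obtain ⟨e, he, heb⟩ := P.exists_pow_hom (W := W₂)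
          (by rw [Nat.card_eq_fintype_card, P.card_hom_W₂]; exact hkp) hb (Finset.ne_of_mem_erase hb')
        have h := P.inner_beta_eta_galois hη hl₀ he 1 b
        rw [heb, show ((1 : W₁ →* ℂˣ) ^ e) = 1 from MonoidHom.ext fun _ => one_pow e, hc, hc] at h
        exact_mod_cast h
      by_contra h0
      rw [Finset.sum_congr rfl fun b' hb' => by rw [hconst b' hb'], Finset.sum_const, nsmul_eq_mul,
        hcard] at hle
      nlinarith [hsq _ h0, le_mul_of_one_le_right (Nat.cast_nonneg q : (0 : ℤ) ≤ q) (hsq _ h0)]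
    · rw [hall l hl, hadd, h11]
      by_cases ha : a = 1
      · subst ha; rw [h11]; push_cast; ring
      · rw [hm a ha, hm1]; push_cast; ring
  · left
    have hterm : ∀ b, 1 ≤ c 1 b ^ 2 + ((q : ℤ) - 1) * (m + c 1 b - 1) ^ 2 := by
      intro b
      rcases eq_or_ne (c 1 b) 0 with h | h
      · rw [h]; nlinarith [hsq (m - 1) (sub_ne_zero.mpr hm1)]
      · nlinarith [hsq _ h, sq_nonneg (m + c 1 b - 1)]
    have h := Finset.sum_le_sum (s := (Finset.univ : Finset (W₂ →* ℂˣ)).erase 1)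
      fun b _ => hterm b
    rw [Finset.sum_const, nsmul_eq_mul, mul_one, hcard] at h
    have hm0 : m = 0 := by
      by_contra h0
      nlinarith [hsq _ h0]
    have hb1 : ∀ b, c 1 b = 1 := by
      intro b
      by_cases hb : b = 1
      · rw [hb, h11]
      by_contra hne
      have h2 : 2 ≤ c 1 b ^ 2 + ((q : ℤ) - 1) * (m + c 1 b - 1) ^ 2 := by
        rw [hm0, zero_add]
        nlinarith [hsq (c 1 b - 1) (sub_ne_zero.mpr hne), sq_nonneg (c 1 b)]
      have h' := Finset.sum_lt_sum (s := (Finset.univ : Finset (W₂ →* ℂˣ)).erase 1)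
        (fun b _ => hterm b) ⟨b, Finset.mem_erase.mpr ⟨hb, Finset.mem_univ _⟩, by linarith⟩
      rw [Finset.sum_const, nsmul_eq_mul, mul_one, hcard] at h'
      rw [hm0] at hle h'
      linarith
    intro l hl a b _
    rw [hall l hl, hadd, h11, hb1]
    by_cases ha : a = 1
    · rw [if_pos ha, ha, h11]; push_cast; ring
    · rw [if_neg ha, hm a ha, hm0]; push_cast; ring

end Pair

end CfsgLib.FT.StepA
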