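import Cfsg.Agent.Lib.FT.StepA.Setup
import Cfsg.Agent.Lib.FT.Route.BridgeS

/-!
# The bridge from the column to the side of Type II

`Y = Ind γ - 1 + η 1 b` is real and has an odd inner product with every member of `M`, so
`|M| ≤ |Y - n (η 1 b + η 1 b⁻¹)| ^ 2 ≤ (u - 1)/q`.
-/

set_option autoImplicit false
set_option linter.style.haveILetI false
set_option linter.unusedSectionVars false

namespace CfsgLib.FT.StepA

open _root_.Subgroup Cfsg CfsgLib.Chars CfsgLib.CharsMore CfsgLib.FT.PF13 CfsgLib.FT.Route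
open scoped ComplexConjugate

universe u

variable {G : Type u} [Group G] [Fintype G] {S W₁ W₂ : Subgroup G} (D : Side S W₁ W₂) [Fintype S]

/-- Inversion commutes with the choice of the fixed character. -/
theorem lam_inv_of_ne {b : W₂ →* ℂˣ} (hb : b ≠ 1) : D.lam b⁻¹ = (D.lam b)⁻¹ := by
  obtain ⟨θ, hθ⟩ : ∃ θ : D.loc.H →* ℂˣ, θ = D.lam b⁻¹ * D.lam b := ⟨_, rfl⟩
  suffices h : θ = 1 by
    refine MonoidHom.ext fun z => ?_
    exact eq_inv_of_mul_eq_one_left (DFunLike.congr_fun (hθ.symm.trans h) z)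
  have hfix : ∀ x ∈ D.loc.W₁, D.loc.conjH x θ = θ := by
    intro x hx
    rw [hθ]
    refine MonoidHom.ext fun z => ?_
    exact congrArg₂ (· * ·) (DFunLike.congr_fun (D.loc.lamB_W₁ (D.res₂ b⁻¹) x hx) z)
      (DFunLike.congr_fun (D.loc.lamB_W₁ (D.res₂ b) x hx) z)
  have hW : ∀ y, ∀ hy : y ∈ D.loc.W₂, θ ⟨y, D.loc.P_le_H (D.loc.W₂_le hy)⟩ = 1 := by
    intro y hy
    rw [hθ, MonoidHom.mul_apply,
      show D.lam b⁻¹ ⟨y, D.loc.P_le_H (D.loc.W₂_le hy)⟩ = D.res₂ b⁻¹ ⟨y, hy⟩ from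
        D.loc.lamB_W₂ _ hy,
      show D.lam b ⟨y, D.loc.P_le_H (D.loc.W₂_le hy)⟩ = D.res₂ b ⟨y, hy⟩ from D.loc.lamB_W₂ _ hy]
    exact inv_mul_cancel _
  haveI : Fintype D.loc.W₁ := Fintype.ofFinite _
  refine MonoidHom.ext fun z => ?_
  obtain ⟨w, hw, c, hc, e⟩ := D.loc.mem_H_iff.mp z.2
  rw [show z = (⟨w, D.loc.P_le_H hw⟩ : D.loc.H) * ⟨c, D.loc.C_le_H hc⟩ from Subtype.ext e.symm,
    map_mul, D.loc.eq_one_on_P hfix hW w hw, hθ, MonoidHom.mul_apply,
    (D.lam_fixed (inv_hom_ne hb)).eq_one_on_C _ c hc, (D.lam_fixed hb).eq_one_on_C _ c hc]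
  simp

theorem conj_nu_of_ne {b : W₂ →* ℂˣ} (hb : b ≠ 1) : conjFun (D.nu 1 b) = D.nu 1 b⁻¹ := by
  have hb' : b⁻¹ ≠ 1 := inv_hom_ne hb
  funext g
  show conj (D.nu 1 b g) = D.nu 1 b⁻¹ g
  rw [Side.nu, Side.nu, res₁_one]
  have hf := D.lam_fixed hb
  have hf' := D.lam_fixed hb'
  by_cases hgD : g ∈ D.loc.P ⊔ D.loc.U
  · by_cases hgH : g ∈ D.loc.H
    · rw [show g = ((⟨g, hgH⟩ : D.loc.H) : S) from rfl, D.loc.nu_apply_H hf, D.loc.nu_apply_H hf',
        map_mul, map_inv₀, Complex.conj_natCast, conj_zeta, lam_inv_of_ne D hb]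
    · rw [D.loc.nu_apply_D hf 1 hgD hgH, D.loc.nu_apply_D hf' 1 hgD hgH, map_zero]
  · obtain ⟨k, x, hx, hx1, y, hy, e⟩ := D.loc.conj_regular hgD
    rw [← isClassFunction_of_isCharacter (D.loc.isCharacter_nu hf 1) g k,
      ← isClassFunction_of_isCharacter (D.loc.isCharacter_nu hf' 1) g k, e,
      D.loc.nu_regular hf 1 hx hx1 hy, D.loc.nu_regular hf' 1 hx hx1 hy, MonoidHom.one_apply,
      Units.val_one, one_mul, one_mul, lam_inv_of_ne D hb]
    exact conj_hom _ _

theorem conjFun_gamma_of_ne {b : W₂ →* ℂˣ} (hb : b ≠ 1) :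
    conjFun (gammaB D b) = gammaB D b⁻¹ := by
  funext g
  show conj (indFun D.loc.K (fun _ => (1 : ℂ)) g - D.nu 1 b g) =
    indFun D.loc.K (fun _ => (1 : ℂ)) g - D.nu 1 b⁻¹ g
  have e1 := congrFun (conjFun_indFun' D.loc.K fun _ => (1 : ℂ)) g
  have e2 := congrFun (conj_nu_of_ne D hb) g
  simp only [conjFun] at e1 e2
  rw [map_sub, e1, e2, show conjFun (fun _ : D.loc.K => (1 : ℂ)) = fun _ => 1 from
    funext fun _ => map_one _]

variable {η : (W₁ →* ℂˣ) → (W₂ →* ℂˣ) → G → ℂ}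

theorem conj_rem_of_ne (hη : Grid W₁ W₂ η) {b : W₂ →* ℂˣ} (hb : b ≠ 1) :
    conjFun (remB D η b) = remB D η b := by
  conv_rhs => rw [rem_indep D hη hb (inv_hom_ne hb)]
  funext g
  show conj (indFun S (gammaB D b) g - 1 + η 1 b g) = indFun S (gammaB D b⁻¹) g - 1 + η 1 b⁻¹ g
  have e1 := congrFun (conjFun_indFun' S (gammaB D b)) g
  rw [conjFun_gamma_of_ne D hb] at e1
  have e2 := congrFun (conj_eta hη 1 b) g
  rw [one_inv_hom] at e2
  simp only [conjFun] at e1 e2
  rw [map_add, map_sub, map_one, e1, e2]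

/-- An irreducible character completing a generalised character orthogonal to the grid to a real one
is orthogonal to the grid off the corner. -/
theorem inner_irr_grid_eq_zero (hη : Grid W₁ W₂ η) {χ : IrrCharacter G} {R : G → ℂ}
    (hgrid : ∀ a b, classInner R (η a b) = 0)
    (hreal : conjFun (R + (χ : G → ℂ)) = R + (χ : G → ℂ)) {a : W₁ →* ℂˣ} {b : W₂ →* ℂˣ}
    (hne : (a, b) ≠ (a⁻¹, b⁻¹)) : classInner (χ : G → ℂ) (η a b) = 0 := by
  classical
  have hχ : IsGeneralizedCharacter G (χ : G → ℂ) :=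
    mem_genChar.mp (genChar_of_isCharacter (isCharacter_of_irr χ.2))
  obtain ⟨z, hz⟩ := inner_int hχ (hη.gen a b)
  have hz' : classInner (χ : G → ℂ) (η a⁻¹ b⁻¹) = z := by
    have h := Route.inner_conjFun (R + (χ : G → ℂ)) (η a b)
    rw [hreal, conj_eta hη, Chars.inner_add_left, Chars.inner_add_left, hgrid, hgrid, zero_add,
      zero_add, hz, map_intCast] at h
    exact h
  have hle := (bessel ({(a, b), (a⁻¹, b⁻¹)} : Finset _) (fun i => η i.1 i.2)
    (fun i _ j _ => by rw [hη.orth]; exact if_congr Prod.ext_iff.symm rfl rfl) (χ : G → ℂ)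
    (fun _ => z) (fun i hi => by
      rcases Finset.mem_insert.mp hi with rfl | hi
      · exact hz
      · rw [Finset.mem_singleton.mp hi]; exact hz') (n := 1) (by
      rw [inner_irr, if_pos rfl, Int.cast_one])).1
  rw [Finset.sum_pair hne] at hle
  have : z = 0 := by nlinarith [sq_nonneg z, sq_nonneg (z - 1), sq_nonneg (z + 1)]
  rw [hz, this, Int.cast_zero]

/-- An involution without fixed points halves a sum of integers. -/
theorem even_sum_of_invol {ι : Type*} (s : Finset ι) (g : ι → ι) (f : ι → ℤ)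
    (hg : ∀ i ∈ s, g i ∈ s) (hinv : ∀ i, g (g i) = i) (hne : ∀ i ∈ s, g i ≠ i)
    (hf : ∀ i ∈ s, f (g i) = f i) : Even (∑ i ∈ s, f i) := by
  refine even_iff_two_dvd.mpr ((ZMod.intCast_zmod_eq_zero_iff_dvd _ 2).mp ?_)
  push_cast
  refine Finset.sum_involution (fun i _ => g i) (fun i hi => ?_) (fun i hi _ => hne i hi)
    (fun i hi => hg i hi) fun i _ => hinv i
  rw [hf i hi]
  exact (by decide : ∀ x : ZMod 2, x + x = 0) _

/-- The bound on the number of irreducible characters completing a column to a real one. -/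
theorem column_bridge [Fintype (W₁ →* ℂˣ)] [DecidableEq (W₁ →* ℂˣ)]
    (hη : Grid W₁ W₂ η) (hodd : Odd (Nat.card G))
    (M : Finset (IrrCharacter G)) (hne : ∀ χ ∈ M, (χ : G → ℂ) ≠ fun _ => 1)
    (hM : ∀ χ ∈ M, ∃ R : G → ℂ, IsGeneralizedCharacter G R ∧
      classInner R (fun _ => 1) = 0 ∧ (∀ a b, classInner R (η a b) = 0) ∧
      conjFun (R + (χ : G → ℂ)) = R + (χ : G → ℂ) ∧
      ∀ α : S → ℂ, IsGeneralizedCharacter S α → (∀ s : S, (s : G) ∉ D.A → α s = 0) →
        classInner ((fun _ => (1 : ℂ)) +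
          (∑ a ∈ (Finset.univ : Finset (W₁ →* ℂˣ)).erase 1, η a 1) + R) (indFun S α) = 0) :
    M.card * D.loc.q + 1 ≤ D.loc.u := by
  classical
  haveI : Fintype (W₂ →* ℂˣ) := Fintype.ofFinite _
  obtain ⟨b, hb⟩ : ∃ b : W₂ →* ℂˣ, b ≠ 1 :=
    Fintype.exists_ne_of_one_lt_card (by rw [D.card_hom_W₂]; exact D.loc.prime_p.one_lt) 1
  have hb' : b⁻¹ ≠ 1 := inv_hom_ne hb
  have hno2 : ∀ {X : Subgroup G} (c : X →* ℂˣ), c = c⁻¹ → c = 1 := by
    intro X c e
    refine MonoidHom.ext fun z => ?_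
    have h2 : orderOf (c z) ∣ 2 := orderOf_dvd_of_pow_eq_one (by
      rw [pow_two]
      exact eq_inv_iff_mul_eq_one.mp (DFunLike.congr_fun e z))
    have h3 : orderOf (c z) ∣ Nat.card G :=
      ((orderOf_map_dvd c z).trans (orderOf_dvd_natCard z)).trans (card_subgroup_dvd_card X)
    have h4 := Nat.dvd_gcd h2 h3
    rw [Nat.coprime_two_left.mpr hodd |>.gcd_eq_one, Nat.dvd_one, orderOf_eq_one_iff] at h4
    exact h4
  have hbb : b ≠ b⁻¹ := fun e => hb (hno2 b e)
  set τ := indFun S (gammaB D b) with hτ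
  set Y := remB D η b with hY
  have hYdef : Y = τ - (fun _ => 1) + η 1 b := rfl
  have hgY := rem_gen D hη hb
  have hYreal := conj_rem_of_ne D hη hb
  have hτ1 : classInner τ (fun _ => 1) = 1 := by
    rw [hτ, inner_indFun S _ (χ := fun _ : G => (1 : ℂ)) (fun _ _ => rfl)]
    exact gamma_inner_one D hb
  have hη1 : classInner (η 1 b) (fun _ => 1) = 0 := by
    rw [← hη.map_one, hη.orth, if_neg fun e => hb e.2]
  have hY1 : classInner Y (fun _ => 1) = 0 := by
    rw [hYdef, Chars.inner_add_left, Chars.inner_sub_left, hτ1, inner_one_one, hη1]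
    ring
  choose B hB using fun i j => inner_int hgY (hη.gen i j)
  have hBsym : ∀ i j, B i⁻¹ j⁻¹ = B i j := by
    intro i j
    have h := Route.inner_conjFun Y (η i j)
    rw [hYreal, conj_eta hη, hB, hB, map_intCast] at h
    exact_mod_cast h
  set n₀ := B 1 b
  have hn₀ : classInner Y (η 1 b) = n₀ := hB 1 b
  have hn₀' : classInner Y (η 1 b⁻¹) = n₀ := by
    have h := hBsym 1 b
    rw [one_inv_hom] at h
    rw [hB, h]
  have hone : ∀ i j, classInner (fun _ => (1 : ℂ)) (η i j) =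
      if (1 : W₁ →* ℂˣ) = i ∧ (1 : W₂ →* ℂˣ) = j then 1 else 0 := fun i j => by
    rw [← hη.map_one, hη.orth]
  -- the pairing with the column
  have heven : Even (∑ a ∈ (Finset.univ : Finset (W₁ →* ℂˣ)).erase 1, B a 1) := by
    refine even_sum_of_invol _ (·⁻¹) _ (fun a ha => Finset.mem_erase.mpr
      ⟨inv_hom_ne (Finset.ne_of_mem_erase ha), Finset.mem_univ _⟩) (fun a => inv_inv a)
      (fun a ha e => Finset.ne_of_mem_erase ha (hno2 a e.symm)) fun a _ => ?_
    have h := hBsym a 1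
    rwa [one_inv_hom] at h
  obtain ⟨k₁, hk₁⟩ := heven
  have hcoef : ∀ χ ∈ M, ∃ z : ℤ, classInner (χ : G → ℂ) Y = z ∧ z ≠ 0 ∧
      classInner (χ : G → ℂ) (η 1 b) = 0 ∧ classInner (χ : G → ℂ) (η 1 b⁻¹) = 0 := by
    intro χ hχ
    obtain ⟨R, hgR, hR1, hRη, hreal, hortho⟩ := hM χ hχ
    have h := hortho _ (gamma_gen D hb) (gamma_vanish D hb)
    have hτY : τ = Y + (fun _ => 1) - η 1 b := by
      rw [hYdef]; funext g; simp only [Pi.add_apply, Pi.sub_apply]; ring
    have hRτ : classInner R τ = classInner R Y := by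
      rw [hτY, Chars.inner_sub_right, Chars.inner_add_right, hR1, hRη]
      ring
    have h1τ : classInner (fun _ => (1 : ℂ)) τ = 1 := by rw [← inner_conj, hτ1, map_one]
    have hητ : ∀ a ∈ (Finset.univ : Finset (W₁ →* ℂˣ)).erase 1, classInner (η a 1) τ = (B a 1 : ℂ) := by
      intro a ha
      rw [hτY, Chars.inner_sub_right, Chars.inner_add_right, ← inner_conj (φ := Y), hB, map_intCast,
        ← inner_conj (φ := fun _ => (1 : ℂ)), hone, if_neg fun e => Finset.ne_of_mem_erase ha e.1.symm,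
        hη.orth, if_neg fun e => Finset.ne_of_mem_erase ha e.1, map_zero]
      ring
    rw [← hτ, Chars.inner_add_left, Chars.inner_add_left, h1τ, inner_sum_left,
      Finset.sum_congr rfl hητ, hRτ, ← Int.cast_sum, hk₁] at h
    obtain ⟨k, hk⟩ := even_inner_of_real hodd (mem_genChar.mp ((genChar G).add_mem
      (mem_genChar.mpr hgR) (genChar_of_isCharacter (isCharacter_of_irr χ.2)))) hgY hreal hYreal hY1
    obtain ⟨z, hz⟩ := inner_int
      (mem_genChar.mp (genChar_of_isCharacter (isCharacter_of_irr χ.2))) hgY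
    rw [Chars.inner_add_left, hz] at hk
    refine ⟨z, hz, ?_, ?_, ?_⟩
    · intro hz0
      rw [hz0, Int.cast_zero, add_zero] at hk
      rw [hk] at h
      have h' : (1 : ℤ) + (k₁ + k₁) + 2 * k = 0 := by exact_mod_cast h
      omega
    · exact inner_irr_grid_eq_zero hη hRη hreal fun e => hbb (Prod.ext_iff.mp e).2
    · exact inner_irr_grid_eq_zero hη hRη hreal fun e => by
        exact hbb ((Prod.ext_iff.mp e).2.trans (inv_inv b)).symm
  -- the norm
  have hττ : classInner τ τ = 2 + ((D.loc.u : ℂ) - 1) / D.loc.q := by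
    rw [hτ, D.inner_ind (isClassFunction_of_isGeneralized (gamma_gen D hb)) (gamma_vanish D hb)
      (gamma_vanish D hb), gamma_norm D hb]
  obtain ⟨d, hd⟩ : D.loc.q ∣ D.loc.u - 1 := by
    have := D.loc.u_mod
    exact Nat.dvd_of_mod_eq_zero (Nat.sub_mod_eq_zero_of_mod_eq
      (by rw [this, Nat.one_mod_eq_one.mpr D.loc.prime_q.ne_one]))
  have hdq : ((D.loc.u : ℂ) - 1) / D.loc.q = (d : ℂ) := by
    rw [div_eq_iff (Nat.cast_ne_zero.mpr D.loc.prime_q.pos.ne'), ← Nat.cast_one,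
      ← Nat.cast_sub (le_of_lt D.loc.one_lt_u), hd]
    push_cast
    ring
  have hτη : classInner τ (η 1 b) = (n₀ : ℂ) - 1 := by
    have h : classInner Y (η 1 b) = classInner τ (η 1 b) - 0 + 1 := by
      rw [hYdef, Chars.inner_add_left, Chars.inner_sub_left, hone, if_neg fun e => hb e.2.symm,
        hη.orth, if_pos ⟨rfl, rfl⟩]
    rw [hn₀] at h
    linear_combination -h
  have hYY : classInner Y Y = ((d + 2 * n₀ : ℤ) : ℂ) := by
    have e1 : classInner (η 1 b) τ = (n₀ : ℂ) - 1 := by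
      rw [← inner_conj, hτη, map_sub, map_intCast, map_one]
    have e2 : classInner (fun _ => (1 : ℂ)) τ = 1 := by rw [← inner_conj, hτ1, map_one]
    have e3 : classInner (fun _ => (1 : ℂ)) (η 1 b) = 0 := by rw [← inner_conj, hη1, map_zero]
    rw [hYdef]
    simp only [Chars.inner_add_left, Chars.inner_add_right, Chars.inner_sub_left,
      Chars.inner_sub_right, hττ, e1, e2, e3, hτ1, hη1, hτη, inner_one_one, hdq, hη.orth,
      and_self, if_true]
    push_cast
    ring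
  set F' := Y - (n₀ : ℂ) • (η 1 b + η 1 b⁻¹) with hF'
  have hFF : classInner F' F' = ((d + 2 * n₀ - 2 * n₀ ^ 2 : ℤ) : ℂ) := by
    have e1 : classInner (η 1 b) Y = (n₀ : ℂ) := by rw [← inner_conj, hn₀, map_intCast]
    have e2 : classInner (η 1 b⁻¹) Y = (n₀ : ℂ) := by rw [← inner_conj, hn₀', map_intCast]
    rw [hF']
    simp only [Chars.inner_sub_left, Chars.inner_sub_right, Chars.inner_smul_left,
      Chars.inner_smul_right, Chars.inner_add_left, Chars.inner_add_right, e1, e2, hn₀, hn₀', hYY,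
      map_intCast, hη.orth, hbb, hbb.symm, and_false, and_self, if_true, if_false]
    push_cast
    ring
  choose! z hz hz0 hzb hzb' using hcoef
  have hle := (bessel M (fun χ : IrrCharacter G => (χ : G → ℂ))
    (fun i _ j _ => by rw [inner_irr]) F' z (fun χ hχ => by
      rw [hF', Chars.inner_sub_left, Chars.inner_smul_left, Chars.inner_add_left,
        ← inner_conj (φ := (χ : G → ℂ)) (ψ := Y), hz χ hχ, map_intCast,
        ← inner_conj (φ := (χ : G → ℂ)) (ψ := η 1 b), hzb χ hχ,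
        ← inner_conj (φ := (χ : G → ℂ)) (ψ := η 1 b⁻¹), hzb' χ hχ]
      simp) hFF).1
  have hcard : (M.card : ℤ) ≤ ∑ χ ∈ M, z χ ^ 2 := by
    rw [Finset.card_eq_sum_ones, Nat.cast_sum]
    exact Finset.sum_le_sum fun χ hχ => by
      have := pow_two_pos_of_ne_zero (hz0 χ hχ)
      push_cast
      omega
  have hn0 : (d : ℤ) + 2 * n₀ - 2 * n₀ ^ 2 ≤ d := by
    rcases le_or_gt n₀ 0 with h | h <;> nlinarith
  have hMd : M.card ≤ d := by exact_mod_cast hcard.trans (hle.trans hn0)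
  have h1 : M.card * D.loc.q ≤ D.loc.u - 1 := by
    rw [hd, mul_comm D.loc.q]
    exact Nat.mul_le_mul_right _ hMd
  have := D.loc.one_lt_u
  omega

end CfsgLib.FT.StepA
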