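import Cfsg.Agent.Lib.FT.StepA.Family

/-!
# Step A: the residues of `(η (1, b), τ (Ind θ - d ζ))` modulo a prime divisor of `|W₂|`

They are `δ (c_b - 1)`, where `c_b = (β, η (1, b))`.  In the column alternative this makes the grid
part of `τ (Ind θ - d ζ)` exceed `k`, so the constant `z` is between `1` and `d - 1`.
-/

set_option autoImplicit false
set_option linter.style.haveILetI false
set_option linter.unusedSectionVars false

namespace CfsgLib.FT.StepA

open _root_.Subgroup Cfsg CfsgLib.Chars CfsgLib.CharsMore CfsgLib.FT.PF13 CfsgLib.Blocks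
open scoped ComplexConjugate

universe u

variable {G : Type u} [Group G] {S T W₁ W₂ : Subgroup G}

namespace Pair

variable [Fintype G] (P : Pair S T W₁ W₂)
include P

variable [Fintype T] {μ : (W₁ →* ℂˣ) → (W₂ →* ℂˣ) → T → ℂ} {δ : (W₁ →* ℂˣ) → ℂ}
  {η : (W₁ →* ℂˣ) → (W₂ →* ℂˣ) → G → ℂ}

theorem ne_of_dvd {r : ℕ} (hr : r.Prime) (hrk : r ∣ Nat.card W₂) : ¬ r ∣ Nat.card W₁ := fun h =>
  hr.ne_one (Nat.eq_one_of_dvd_one
    ((P.coprime_k.coprime_dvd_right (card_dvd_of_le P.W₁_le_derived)) ▸ Nat.dvd_gcd hrk h))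

/-- Modulo `r` the average of `η (1, b)` over `w R(w)` is one, for `w ∈ W₁ - {1}`. -/
theorem fres_eta_congr (hη : Grid W₁ W₂ η) (b : W₂ →* ℂˣ) {r : ℕ} [Fact r.Prime]
    {M : Ideal AlgInt} [M.IsPrime] (hrM : (r : AlgInt) ∈ M) (hrk : r ∣ Nat.card W₂) {y : G}
    (hy : y ∈ W₂) (hyr : orderOf y = r) {x : Kd T} (hx : ((x : T) : G) ∈ W₁) (hx1 : x ≠ 1) :
    MemLocalIdeal M (P.fres (η 1 b) x - 1) := by
  classical
  set w : G := ((x : T) : G) with hw
  have hw1 : w ≠ 1 := fun e => hx1 (Subtype.ext (Subtype.ext e))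
  have hwA : w ∈ derA T := mem_derA_iff.mpr ⟨x.2, fun e => hx1 (Subtype.ext e)⟩
  have hy1 : y ≠ 1 := fun e => (Fact.out : r.Prime).ne_one (by rw [← hyr, e, orderOf_one])
  have hyw : y * w = w * y := (P.commute_W hx hy).symm
  have hr : r.Prime := Fact.out
  have hnorm : y ∈ normalizer (supportR T w : Set G) := by
    refine mem_normalizer_iff.mpr fun u => ⟨fun hu => P.dade_T.conj_mem_H w hwA y
      (mem_centralizer_singleton_iff.mpr hyw) u hu, fun hu => ?_⟩
    have hyi : y⁻¹ ∈ centralizer ({w} : Set G) :=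
      inv_mem (mem_centralizer_singleton_iff.mpr hyw)
    simpa [mul_assoc] using P.dade_T.conj_mem_H w hwA y⁻¹ hyi _ hu
  have hfix : ∀ u ∈ supportR T w, y * u = u * y → u = 1 := by
    intro u hu huy
    have huw : u * w = w * u :=
      mem_centralizer_singleton_iff.mp (P.dade_T.le_centralizer _ hwA hu)
    have hreg : w * y ∈ regularPart W₁ W₂ :=
      Route.regFin_subset P.selfNorm (Route.mem_regFin.mpr ⟨w, hx, hw1, y, hy, hy1, rfl⟩)
    have hconj : u * (w * y) * u⁻¹ = w * y := by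
      rw [← mul_assoc, huw, mul_assoc w u y, ← huy]
      group
    have hmem : u ∈ W₁ ⊔ W₂ := by
      by_contra hn
      exact regularPart_TI P.selfNorm u hn _ hreg (hconj.symm ▸ hreg)
    have hu0 : u ∈ supportR T w ⊓ (T ⊓ centralizer ({w} : Set G)) :=
      ⟨hu, sup_le P.W₁_le_T P.W₂_le_T hmem, P.dade_T.le_centralizer _ hwA hu⟩
    rwa [P.dade_T.inf_eq_bot _ hwA, mem_bot] at hu0
  have h1 := TypeOne.memLocalIdeal_avg_sub (M := M) hrM (supportR T w)
    (by rw [← hyr, pow_orderOf_eq_one]) hnorm hyw hfix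
    (isClassFunction_of_isGeneralized (hη.gen 1 b)) fun g => TypeOne.gen_mem_loc (hη.gen 1 b) g
  have h2 : MemLocalIdeal M (η 1 b (w * y) - η 1 b w) := by
    have h := TypeOne.memLocalIdeal_gen_sub (M := M) hrM (hη.gen 1 b) (w * y)
    have hnd : ¬ r ∣ orderOf w := fun h' =>
      P.ne_of_dvd hr hrk (h'.trans (Subgroup.orderOf_dvd_natCard _ hx))
    rwa [show w * y = y * w from hyw.symm, BlockOrth.pPrimePart_mul hyw ⟨1, by rw [pow_one, hyr]⟩
      hnd, hyw] at h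
  have h3 : MemLocalIdeal M (η 1 b (w * y) - 1) := by
    rw [hη.eq_on 1 b w y hx hy hw1 hy1, MonoidHom.one_apply, Units.val_one, one_mul]
    have hp : (b ⟨y, hy⟩ : ℂ) ^ r = 1 := by
      rw [← Units.val_pow_eq_pow_val, ← map_pow,
        show (⟨y, hy⟩ : W₂) ^ r = 1 from Subtype.ext (by rw [← hyr]; exact pow_orderOf_eq_one y),
        map_one, Units.val_one]
    exact BlockOrth.memLocalIdeal_sub_of_pow_eq hr hrM
      (isIntegral_mem_loc (IsIntegral.of_pow hr.pos (hp ▸ isIntegral_one))) (loc M).one_mem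
      (n := 1) (by rw [pow_one, hp, one_pow])
  have h4 : MemLocalIdeal M (P.fres (η 1 b) x - η 1 b w) := by
    show MemLocalIdeal M (invDade (derA T) T (supportR T) (η 1 b) (x : T) - _)
    rw [invDade_of_mem hwA]
    exact h1
  have := MemLocalIdeal.add' (MemLocalIdeal.sub' h4 h2) h3
  rwa [show P.fres (η 1 b) x - η 1 b w - (η 1 b (w * y) - η 1 b w) + (η 1 b (w * y) - 1) =
    P.fres (η 1 b) x - 1 by ring] at this

/-- Modulo `r`, `θ_a = δ_a a` on `W₁`. -/
theorem theta_congr (E : Exc T W₁ W₂ μ δ) (a : W₁ →* ℂˣ) {r : ℕ} [Fact r.Prime]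
    {M : Ideal AlgInt} [M.IsPrime] (hrM : (r : AlgInt) ∈ M) (hrk : r ∣ Nat.card W₂) {y : G}
    (hy : y ∈ W₂) (hyr : orderOf y = r) {x : Kd T} (hx : ((x : T) : G) ∈ W₁) :
    MemLocalIdeal M (P.theta μ a x - δ a * (a ⟨_, hx⟩ : ℂ)) := by
  have hr : r.Prime := Fact.out
  have hy1 : (⟨y, P.W₂_le_T hy⟩ : T) ≠ 1 := fun e => hr.ne_one (by
    rw [← hyr, show y = 1 from congrArg Subtype.val e, orderOf_one])
  have h := TypeOne.memLocalIdeal_gen_sub (M := M) hrM
    (mem_genChar.mp (genChar_of_irr (E.irr a 1))) ((x : T) * ⟨y, P.W₂_le_T hy⟩)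
  have hc : Commute (⟨y, P.W₂_le_T hy⟩ : T) (x : T) :=
    Subtype.ext (P.commute_W hx hy).symm
  have hnd : ¬ r ∣ orderOf (x : T) := fun h' => P.ne_of_dvd hr hrk
    (h'.trans (by rw [← orderOf_coe]; exact Subgroup.orderOf_dvd_natCard _ hx))
  rw [E.val a 1 (x : T) _ hx hy hy1, MonoidHom.one_apply, Units.val_one, mul_one] at h
  rw [← hc.eq, BlockOrth.pPrimePart_mul hc ⟨1, by rw [pow_one, ← orderOf_coe]; exact hyr⟩ hnd] at h
  have h' := MemLocalIdeal.mul_left' (M := M) (intCast_mem (loc M) (-1)) h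
  convert h' using 1
  show μ a 1 (x : T) - δ a * (a ⟨_, hx⟩ : ℂ) = _
  push_cast
  ring

/-- The residue of `(η (1, b), Φ)`. -/
theorem residue (E : Exc T W₁ W₂ μ δ) (hη : Grid W₁ W₂ η) {a : W₁ →* ℂˣ} (ha : a ≠ 1) {d : ℕ}
    (hd : P.theta μ a 1 = d) (hdc : ∃ n : ℤ, (d : ℂ) - δ a = n * (Nat.card W₂ : ℂ)) {r : ℕ}
    [Fact r.Prime] (hrk : r ∣ Nat.card W₂) {l : Kd T →* ℂˣ} (b : W₂ →* ℂˣ) {cb Pb e : ℤ}
    (hcb : classInner (P.beta l) (η 1 b) = cb)
    (hP : classInner (P.Phi (P.theta μ a) d l) (η 1 b) = Pb) (he : δ a = e) :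
    (r : ℤ) ∣ Pb - e * (cb - 1) := by
  classical
  have hr : r.Prime := Fact.out
  haveI : Fintype (Kd T) := Fintype.ofFinite _
  haveI : Fintype W₁ := Fintype.ofFinite _
  obtain ⟨M, hM, hrM⟩ := BlockOrth.exists_maximal_above r
  haveI : M.IsPrime := hM.isPrime
  obtain ⟨y', hy'⟩ := exists_prime_orderOf_dvd_card' (G := W₂) r hrk
  obtain ⟨y, hy, hyr⟩ : ∃ y : G, y ∈ W₂ ∧ orderOf y = r :=
    ⟨y', y'.2, by rw [orderOf_coe]; exact hy'⟩
  set f := P.fres (η 1 b)
  set θ := P.theta μ a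
  have hθc := isClassFunction_of_isCharacter (P.theta_isCharacter E a)
  -- reciprocity
  have hφ : IsClassFunction (Kd T) (θ - (d : ℂ) • fun _ => (1 : ℂ)) := fun u v => by
    show θ (v * u * v⁻¹) - (d : ℂ) • (1 : ℂ) = _
    rw [show θ (v * u * v⁻¹) = θ u from hθc u v]
    rfl
  have hrec := P.inner_tau_ind hφ (by simp [θ, hd]) (isClassFunction_of_isGeneralized (hη.gen 1 b))
  have e1 : indFun (Kd T) (θ - (d : ℂ) • fun _ => (1 : ℂ)) =
      (indFun (Kd T) θ - (d : ℂ) • P.zeta l) - (d : ℂ) • P.alpha l := by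
    rw [indFun_sub, indFun_smul, alpha, show indFun (Kd T) (fun _ => (1 : ℂ)) = indOne (Kd T) from rfl,
      smul_sub]
    abel
  rw [e1, P.tau_sub, P.tau_smul, Chars.inner_sub_right, Chars.inner_smul_right, ← beta, ← Phi,
    Complex.conj_natCast] at hrec
  have hP' : classInner (η 1 b) (P.Phi θ d l) = Pb := by rw [← inner_conj, hP, map_intCast]
  have hcb' : classInner (η 1 b) (P.beta l) = cb := by rw [← inner_conj, hcb, map_intCast]
  rw [hP', hcb'] at hrec
  -- the sum over `T'`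
  set σ := TypeOne.conjPerm (Kd T) (⟨y, P.W₂_le_T hy⟩ : T)
    (by rw [normalizer_eq_top]; exact mem_top _)
  have hσ : σ ^ r = 1 := TypeOne.conjPerm_pow_eq_one (Kd T) _
    (Subtype.ext (by rw [← hyr]; exact pow_orderOf_eq_one y))
  have hyT : ((⟨y, P.W₂_le_T hy⟩ : T) : G) ∈ W₂ := hy
  have hy1 : (⟨y, P.W₂_le_T hy⟩ : T) ≠ 1 := fun e => hr.ne_one (by
    rw [← hyr, show y = 1 from congrArg Subtype.val e, orderOf_one])
  have hfixed : ∀ x : Kd T, σ x = x ↔ ((x : T) : G) ∈ W₁ := by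
    intro x
    have hC : (x : T) ∈ Kd T ⊓ centralizer ({(⟨y, P.W₂_le_T hy⟩ : T)} : Set T) ↔
        ((x : T) : G) ∈ W₁ := by rw [P.centralizer_W₂_Kd hyT hy1]; rfl
    rw [← hC, mem_inf, and_iff_right x.2, mem_centralizer_singleton_iff]
    refine ⟨fun h => (mul_inv_eq_iff_eq_mul.mp (congrArg Subtype.val h)).symm, fun h => ?_⟩
    exact Subtype.ext (mul_inv_eq_iff_eq_mul.mpr h.symm)
  set F : Kd T → ℂ := fun x => f x * (conj (θ x) - (d : ℂ))
  have hθloc : ∀ x, conj (θ x) ∈ loc M := fun x => by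
    rw [← char_inv (P.theta_isCharacter E a) x]
    exact TypeOne.gen_mem_loc (mem_genChar.mp (genChar_of_isCharacter (P.theta_isCharacter E a))) _
  have hFloc : ∀ x, F x ∈ loc M := fun x =>
    (loc M).mul_mem (TypeOne.invDade_mem_loc P.dade_T (hη.gen 1 b) _)
      ((loc M).sub_mem (hθloc x) (natCast_mem_loc d))
  have hinv : ∀ x, F (σ x) = F x := by
    intro x
    have e2 : σ x = conjBy (Kd T) ⟨y, P.W₂_le_T hy⟩ x := rfl
    show f (σ x) * (conj (θ (σ x)) - _) = _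
    rw [e2, show f (conjBy (Kd T) ⟨y, P.W₂_le_T hy⟩ x) = f x from
      P.fres_invariant (isClassFunction_of_isGeneralized (hη.gen 1 b)) _ x]
    have h := congrFun (P.theta_invariant E a ⟨y, P.W₂_le_T hy⟩) x
    rw [show θ (conjBy (Kd T) ⟨y, P.W₂_le_T hy⟩ x) = θ x from h]
  have h1 := TypeOne.memLocalIdeal_sum_sub_fixed (M := M) hrM σ hσ F hFloc hinv
  have h2 := TypeOne.memLocalIdeal_sum_sub_fixed (M := M) hrM σ hσ (fun _ => (1 : ℂ))
    (fun _ => (loc M).one_mem) fun _ => rfl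
  set C := Finset.univ.filter fun x : Kd T => σ x = x
  have hCmem : ∀ x, x ∈ C ↔ ((x : T) : G) ∈ W₁ := fun x => by simp [C, hfixed]
  -- the fixed points
  let g : W₁ → Kd T := fun w => ⟨⟨w, P.W₁_le_T w.2⟩, P.W₁_le_derived w.2⟩
  have hg : Function.Injective g := fun u v e =>
    Subtype.ext (congrArg (fun z : Kd T => ((z : T) : G)) e)
  have himg : C = Finset.univ.image g := by
    ext x
    rw [hCmem, Finset.mem_image]
    refine ⟨fun h => ⟨⟨_, h⟩, Finset.mem_univ _, Subtype.ext (Subtype.ext rfl)⟩, ?_⟩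
    rintro ⟨w, -, rfl⟩
    exact w.2
  rw [Finset.sum_const, Finset.sum_const, nsmul_one, nsmul_one, Finset.card_univ,
    ← Nat.card_eq_fintype_card, himg, Finset.card_image_of_injective _ hg, Finset.card_univ,
    ← Nat.card_eq_fintype_card] at h2
  rw [himg, Finset.sum_image fun u _ v _ h => hg h] at h1
  have h3 : MemLocalIdeal M ((∑ w : W₁, F (g w)) -
      ∑ w ∈ (Finset.univ : Finset W₁).erase 1, ((e : ℂ) * (a w⁻¹ : ℂ) - (e : ℂ))) := by
    have hF1 : F (g 1) = 0 := by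
      show f _ * _ = 0
      rw [show g 1 = 1 from rfl, show f 1 = 0 from P.fres_one _, zero_mul]
    rw [← Finset.add_sum_erase _ _ (Finset.mem_univ (1 : W₁)), hF1, zero_add,
      ← Finset.sum_sub_distrib]
    refine MemLocalIdeal.sum' fun w hw => ?_
    have hw1 : g w ≠ 1 := fun h => Finset.ne_of_mem_erase hw (hg (h.trans (rfl : (1 : Kd T) = g 1)))
    have hA := P.fres_eta_congr hη b hrM hrk hy hyr (x := g w) w.2 hw1
    have hB := P.theta_congr E a hrM hrk hy hyr (x := (g w)⁻¹) (W₁.inv_mem w.2)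
    have hD : MemLocalIdeal M ((d : ℂ) - (e : ℂ)) := by
      obtain ⟨n, hn⟩ := hdc
      rw [← he, hn]
      exact MemLocalIdeal.mul_left' (intCast_mem _ n)
        ((memLocalIdeal_natCast_iff hr hrM _).mpr hrk)
    have hB' : MemLocalIdeal M (conj (θ (g w)) - (e : ℂ) * (a w⁻¹ : ℂ)) := by
      rw [← char_inv (P.theta_isCharacter E a) (g w), ← he]
      exact hB
    show MemLocalIdeal M (f (g w) * (conj (θ (g w)) - (d : ℂ)) - _)
    rw [show f (g w) * (conj (θ (g w)) - (d : ℂ)) - ((e : ℂ) * (a w⁻¹ : ℂ) - (e : ℂ)) =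
      (f (g w) - 1) * (conj (θ (g w)) - (d : ℂ)) +
        ((conj (θ (g w)) - (e : ℂ) * (a w⁻¹ : ℂ)) - ((d : ℂ) - (e : ℂ))) by ring]
    exact MemLocalIdeal.add' (MemLocalIdeal.mul_right' hA
      ((loc M).sub_mem (hθloc _) (natCast_mem_loc d))) (MemLocalIdeal.sub' hB' hD)
  have hsum : ∑ w ∈ (Finset.univ : Finset W₁).erase 1, ((e : ℂ) * (a w⁻¹ : ℂ) - (e : ℂ)) =
      -(e : ℂ) * (Nat.card W₁ : ℂ) := by
    have hconj : ∑ w ∈ (Finset.univ : Finset W₁).erase 1, (a w⁻¹ : ℂ) = -1 := by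
      have h := congrArg conj (Route.sum_erase_hom ha)
      rw [map_sum, map_neg, map_one] at h
      rw [← h]
      exact Finset.sum_congr rfl fun w _ => char_inv (isCharacter_of_irr (isIrrCharacter_linear a)) w
    rw [Finset.sum_sub_distrib, ← Finset.mul_sum, hconj, Finset.sum_const,
      Finset.card_erase_of_mem (Finset.mem_univ _), Finset.card_univ, ← Nat.card_eq_fintype_card,
      nsmul_eq_mul, Nat.cast_sub (Nat.card_pos : 1 ≤ Nat.card W₁)]
    push_cast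
    ring
  rw [hsum] at h3
  have hS : ∑ x, F x = (Nat.card (Kd T) : ℂ) * ((Pb - d * cb : ℤ) : ℂ) := by
    push_cast
    rw [hrec, Chars.inner_def, ← mul_assoc, mul_inv_cancel₀ (Chars.card_ne_zero (Kd T)), one_mul]
    refine Finset.sum_congr rfl fun x _ => ?_
    show f x * _ = f x * conj (θ x - (d : ℂ) • (1 : ℂ))
    rw [map_sub, smul_eq_mul, mul_one, Complex.conj_natCast]
  rw [hS] at h1
  have h4 : MemLocalIdeal M ((Nat.card W₁ : ℂ) * ((Pb - d * cb + e : ℤ) : ℂ)) := by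
    have hA := MemLocalIdeal.add' h1 h3
    have hB := MemLocalIdeal.mul_left' (intCast_mem (loc M) (Pb - d * cb)) h2
    have := MemLocalIdeal.sub' hA hB
    convert this using 1
    push_cast
    ring
  have h5 : (r : ℤ) ∣ Pb - d * cb + e := by
    rcases MemLocalIdeal.mem_or_mem (natCast_mem_loc _) (intCast_mem _ _) h4 with h | h
    · exact absurd ((memLocalIdeal_natCast_iff (M := M) hr hrM _).mp h) (P.ne_of_dvd hr hrk)
    · rw [← intCast_mem_iff (M := M) hr hrM, ← memLocalIdeal_algInt_iff]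
      simpa using h
  obtain ⟨n, hn⟩ := hdc
  rw [he] at hn
  have hn' : (d : ℤ) - e = n * (Nat.card W₂ : ℤ) := by exact_mod_cast hn
  have h6 : (r : ℤ) ∣ ((d : ℤ) - e) * cb := by
    rw [hn']
    exact ((Int.natCast_dvd_natCast.mpr hrk).mul_left n).mul_right cb
  have := dvd_add h5 h6
  rwa [show Pb - d * cb + e + ((d : ℤ) - e) * cb = Pb - e * (cb - 1) by ring] at this

/-- In the column alternative the grid part of `Φ` exceeds `k`. -/
theorem grid_big (E : Exc T W₁ W₂ μ δ) (hη : Grid W₁ W₂ η) [Fintype (W₁ →* ℂˣ)]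
    [Fintype (W₂ →* ℂˣ)] {c : (W₂ →* ℂˣ) → ℤ} (hcol : P.IsColumn η c) {a : W₁ →* ℂˣ}
    (ha : a ≠ 1) {d : ℕ} (hd : P.theta μ a 1 = d) (hd1 : d ≠ 1)
    (hdc : ∃ n : ℤ, (d : ℂ) - δ a = n * (Nat.card W₂ : ℂ)) {l : Kd T →* ℂˣ} (hl : l ≠ 1)
    (C : (W₁ →* ℂˣ) → (W₂ →* ℂˣ) → ℤ)
    (hC : ∀ a' b, classInner (P.Phi (P.theta μ a) d l) (η a' b) = C a' b) :
    (Nat.card W₂ : ℤ) < ∑ a', ∑ b, C a' b ^ 2 := by
  classical
  have hθ := P.theta_irr E a
  obtain ⟨hqk, hc1, -, -, hcol⟩ := hcol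
  have hk := P.three_le_card_W₂
  have hq := P.three_le_card_W₁
  obtain ⟨C', hC', hadd⟩ := grid_coeff hη (P.phi_gen (isCharacter_of_irr hθ) hd l)
    (P.phi_regular (isCharacter_of_irr hθ) hd l)
  have hCC : C' = C := funext fun a' => funext fun b => by
    have h := (hC' a' b).symm.trans (hC a' b)
    exact_mod_cast h
  subst hCC
  have h11 : C' 1 1 = 0 := by
    have h := hC 1 1
    rw [hη.map_one, P.inner_phi_one hθ hd hd1 hl] at h
    exact_mod_cast h.symm
  -- the columns with `c_b = 0`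
  set N := ((Finset.univ : Finset (W₂ →* ℂˣ)).erase 1).filter fun b => c b = 0
  have hN : (Nat.card W₂ : ℤ) < 2 * N.card := by
    have hb := grid_bessel hη (c := fun _ b => c b) (fun a' b => hcol l hl a' b)
      (n := (Nat.card W₂ : ℤ) + 1) (by
        rw [P.inner_beta hl hl, if_pos rfl]
        push_cast
        rfl)
    rw [Finset.sum_const, Finset.card_univ, P.card_hom_W₁, nsmul_eq_mul,
      ← Finset.add_sum_erase _ _ (Finset.mem_univ (1 : W₂ →* ℂˣ)), hc1] at hb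
    have hlow : ((((Finset.univ : Finset (W₂ →* ℂˣ)).erase 1).filter fun b => ¬ c b = 0).card : ℤ)
        ≤ ∑ b ∈ (Finset.univ : Finset (W₂ →* ℂˣ)).erase 1, c b ^ 2 := by
      refine le_trans ?_ (Finset.sum_le_sum_of_subset_of_nonneg
        (s := ((Finset.univ : Finset (W₂ →* ℂˣ)).erase 1).filter fun b => ¬ c b = 0)
        (Finset.filter_subset _ _) fun b _ _ => sq_nonneg _)
      rw [Finset.card_eq_sum_ones, Nat.cast_sum]
      exact Finset.sum_le_sum fun b hb' =>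
        Int.add_one_le_of_lt (pow_two_pos_of_ne_zero (Finset.mem_filter.mp hb').2)
    have hcard := Finset.card_filter_add_card_filter_not
      (s := (Finset.univ : Finset (W₂ →* ℂˣ)).erase 1) fun b => c b = 0
    rw [Finset.card_erase_of_mem (Finset.mem_univ _), Finset.card_univ, P.card_hom_W₂] at hcard
    have hq' : (3 : ℤ) ≤ Nat.card W₁ := by exact_mod_cast hq
    have hk' : (3 : ℤ) ≤ Nat.card W₂ := by exact_mod_cast hk
    have hcard' : (N.card : ℤ) +
        ((((Finset.univ : Finset (W₂ →* ℂˣ)).erase 1).filter fun b => ¬ c b = 0).card : ℤ) =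
        (Nat.card W₂ : ℤ) - 1 := by
      have h := congrArg (fun n : ℕ => (n : ℤ)) hcard
      rw [Nat.cast_sub (by omega : 1 ≤ Nat.card W₂)] at h
      push_cast at h
      exact h
    set S := ∑ b ∈ (Finset.univ : Finset (W₂ →* ℂˣ)).erase 1, c b ^ 2
    have hS : 0 ≤ S := Finset.sum_nonneg fun b _ => sq_nonneg _
    nlinarith
  obtain ⟨r, hr, hrk⟩ := Nat.exists_prime_and_dvd (show Nat.card W₂ ≠ 1 by omega)
  haveI := Fact.mk hr
  obtain ⟨e, he, he1⟩ : ∃ e : ℤ, δ a = e ∧ (e = 1 ∨ e = -1) := by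
    rcases E.sign a with h | h
    · exact ⟨1, by simp [h], Or.inl rfl⟩
    · exact ⟨-1, by simp [h], Or.inr rfl⟩
  have hne : ∀ b ∈ N, C' 1 b ≠ 0 := by
    intro b hb h0
    have h := P.residue E hη ha hd hdc hrk (l := l) b (hcol l hl 1 b) (hC 1 b) he
    rw [(Finset.mem_filter.mp hb).2, h0] at h
    have h' : (r : ℤ) ∣ 1 := by rcases he1 with rfl | rfl <;> simpa using h
    exact hr.ne_one (Nat.dvd_one.mp (by exact_mod_cast h'))
  have hsq : ∀ x : ℤ, x ≠ 0 → 1 ≤ x ^ 2 := fun x hx =>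
    Int.add_one_le_of_lt (pow_two_pos_of_ne_zero hx)
  rw [Finset.sum_comm]
  by_cases hA : ∃ b₀ ∈ N, ∀ a', a' ≠ 1 → C' a' b₀ = 0
  · -- the column of the trivial character is constant and nonzero
    obtain ⟨b₀, hb₀, hA⟩ := hA
    have hrconst : ∀ a', a' ≠ 1 → C' a' 1 = -C' 1 b₀ := fun a' ha' => by
      have h := hadd a' b₀
      rw [hA a' ha', h11] at h
      linarith
    have hq1 : (((Finset.univ : Finset (W₁ →* ℂˣ)).erase 1).card : ℤ) = (Nat.card W₁ : ℤ) - 1 := by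
      rw [Finset.card_erase_of_mem (Finset.mem_univ _), Finset.card_univ, P.card_hom_W₁,
        Nat.cast_sub (by omega : 1 ≤ Nat.card W₁)]
      rfl
    have hk1 : (((Finset.univ : Finset (W₂ →* ℂˣ)).erase 1).card : ℤ) = (Nat.card W₂ : ℤ) - 1 := by
      rw [Finset.card_erase_of_mem (Finset.mem_univ _), Finset.card_univ, P.card_hom_W₂,
        Nat.cast_sub (by omega : 1 ≤ Nat.card W₂)]
      rfl
    have hcol1 : ((Nat.card W₁ : ℤ) - 1) ≤ ∑ a', C' a' 1 ^ 2 := by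
      rw [← Finset.add_sum_erase _ _ (Finset.mem_univ (1 : W₁ →* ℂˣ)), h11, ← hq1]
      simp only [ne_eq, OfNat.ofNat_ne_zero, not_false_eq_true, zero_pow, zero_add]
      rw [Finset.card_eq_sum_ones, Nat.cast_sum]
      exact Finset.sum_le_sum fun a' ha' => hsq _ (by
        rw [hrconst a' (Finset.ne_of_mem_erase ha'), neg_ne_zero]
        exact hne b₀ hb₀)
    have hrest : ∀ b ∈ (Finset.univ : Finset (W₂ →* ℂˣ)).erase 1, (1 : ℤ) ≤ ∑ a', C' a' b ^ 2 := by
      intro b _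
      by_cases h0 : C' 1 b = 0
      · obtain ⟨a', ha'⟩ : ∃ a' : W₁ →* ℂˣ, a' ≠ 1 :=
          Fintype.exists_ne_of_one_lt_card (by rw [P.card_hom_W₁]; omega) 1
        refine le_trans (hsq (C' a' b) ?_) (Finset.single_le_sum (f := fun x => C' x b ^ 2)
          (fun x _ => sq_nonneg _) (Finset.mem_univ a'))
        rw [hadd a' b, h11, hrconst a' ha', h0]
        simpa using hne b₀ hb₀
      · exact le_trans (hsq _ h0) (Finset.single_le_sum (f := fun x => C' x b ^ 2)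
          (fun x _ => sq_nonneg _) (Finset.mem_univ 1))
    have h2 := Finset.sum_le_sum hrest
    rw [Finset.sum_const, nsmul_eq_mul, mul_one, hk1] at h2
    rw [← Finset.add_sum_erase _ _ (Finset.mem_univ (1 : W₂ →* ℂˣ))]
    have hq' : (3 : ℤ) ≤ Nat.card W₁ := by exact_mod_cast hq
    linarith
  · push Not at hA
    have h2 : ∀ b ∈ N, (2 : ℤ) ≤ ∑ a', C' a' b ^ 2 := by
      intro b hb
      obtain ⟨a', ha', hne'⟩ := hA b hb
      refine le_trans ?_ (Finset.sum_le_sum_of_subset_of_nonneg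
        (Finset.subset_univ ({1, a'} : Finset (W₁ →* ℂˣ))) fun x _ _ => sq_nonneg _)
      rw [Finset.sum_pair (Ne.symm ha')]
      linarith [hsq _ (hne b hb), hsq _ hne']
    have h3 := Finset.sum_le_sum h2
    rw [Finset.sum_const, nsmul_eq_mul] at h3
    have h4 : ∑ b ∈ N, ∑ a', C' a' b ^ 2 ≤ ∑ b, ∑ a', C' a' b ^ 2 :=
      Finset.sum_le_sum_of_subset_of_nonneg (Finset.subset_univ _)
        fun b _ _ => Finset.sum_nonneg fun x _ => sq_nonneg _
    linarith

/-- In the column alternative `1 ≤ z < d`. -/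
theorem column_z {ν : (Kd T →* ℂˣ) → G → ℂ} (E : Exc T W₁ W₂ μ δ) (hη : Grid W₁ W₂ η)
    (F : LinFamily P ν) [Fintype (W₁ →* ℂˣ)] [Fintype (W₂ →* ℂˣ)] {c : (W₂ →* ℂˣ) → ℤ}
    (hcol : P.IsColumn η c) {a : W₁ →* ℂˣ} (ha : a ≠ 1) {d : ℕ} (hd : P.theta μ a 1 = d)
    (hd1 : d ≠ 1) (hdc : ∃ n : ℤ, (d : ℂ) - δ a = n * (Nat.card W₂ : ℂ)) {z : ℤ}
    (hz : ∀ l₀ l : Kd T →* ℂˣ, l₀ ≠ 1 → l ≠ 1 → [Decidable (P.zeta l₀ = P.zeta l)] →
      classInner (ν l₀) (P.Phi (P.theta μ a) d l) =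
        (z : ℂ) - (d : ℂ) * if P.zeta l₀ = P.zeta l then 1 else 0) :
    1 ≤ z ∧ z < (d : ℤ) := by
  classical
  have hθ := P.theta_irr E a
  obtain ⟨L, hL1, -, -, hcount, hL2⟩ := P.exists_reps
  obtain ⟨l, hlL⟩ := Finset.card_pos.mp (by omega : 0 < L.card)
  have hl := hL1 l hlL
  choose C hC using fun a' b => inner_int (P.phi_gen (isCharacter_of_irr hθ) hd l) (hη.gen a' b)
  have hG := P.grid_big E hη hcol ha hd hd1 hdc hl C hC
  have hB := P.z_bound hη F hθ hd hd1 (P.theta_invariant E a) hz hl C hC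
  have hv : (Nat.card W₂ : ℤ) * L.card + 1 = vT T := by exact_mod_cast hcount
  have hk : (3 : ℤ) ≤ Nat.card W₂ := by exact_mod_cast P.three_le_card_W₂
  have hX : (2 : ℤ) ≤ L.card := by exact_mod_cast hL2
  rw [← hv, add_sub_cancel_right] at hB
  have hlt : (L.card : ℤ) * z ^ 2 < 2 * d * z := by nlinarith
  have hd0 : (0 : ℤ) ≤ d := Nat.cast_nonneg d
  have hz1 : 1 ≤ z := by
    by_contra h
    push Not at h
    nlinarith [sq_nonneg z]
  exact ⟨hz1, by nlinarith⟩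

end Pair

end CfsgLib.FT.StepA
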