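import Cfsg.Agent.Lib.FT.StepA.Coherent
import Cfsg.Agent.Lib.FT.StepA.Residue

/-!
# Step A: Type V
-/

set_option autoImplicit false
set_option linter.style.haveILetI false
set_option linter.unusedSectionVars false

namespace CfsgLib.FT.StepA

open _root_.Subgroup Cfsg CfsgLib.Chars CfsgLib.CharsMore CfsgLib.FT.PF13
open scoped ComplexConjugate

universe u

theorem cent_trivial {K : Type*} [Group K] [Fintype K] {Z : Subgroup K} [Fintype Z]
    {ω : Z →* ℂˣ} (hω : ω ≠ 1) {f : K → ℂ} (hf : ∀ z ∈ Z, f z = f 1) :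
    classInner (cent Z ω) f = 0 := by
  classical
  rw [← inner_conj, inner_cent,
    show (fun z : Z => f z) = f 1 • fun z : Z => ((1 : Z →* ℂˣ) z : ℂ) from
      funext fun z => by simp [hf z z.2],
    Chars.inner_smul_left, PF13.inner_lin, if_neg (Ne.symm hω), mul_zero, map_zero]

/-- The arithmetic of the row alternative in Type V, `T'` a `q`-group with central `W₁`. -/
theorem row_five_arith {q k v : ℕ} (hq : 3 ≤ q) (hqk : q + 2 ≤ k) (hv : 2 * k + 1 ≤ v)
    (h5 : q = 3 → k = 5 → 81 ≤ v) (hk6 : k ≠ 6) :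
    (k : ℝ) ^ 2 * q * (2 * q + 1) < ((q : ℝ) - 1) * v * (((k : ℝ) - 1) * (2 * q + 1) - k) := by
  have hv' : (2 * (k : ℝ) + 1) ≤ v := by exact_mod_cast hv
  have hq' : (3 : ℝ) ≤ q := by exact_mod_cast hq
  have hqk' : (q : ℝ) + 2 ≤ k := by exact_mod_cast hqk
  by_cases h3 : q = 3
  · subst h3
    by_cases hk5 : k = 5
    · subst hk5
      have hv81 : (81 : ℝ) ≤ v := by exact_mod_cast h5 rfl rfl
      push_cast
      nlinarith
    · have hk' : (7 : ℝ) ≤ k := by exact_mod_cast (by omega : 7 ≤ k)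
      push_cast
      nlinarith [mul_le_mul_of_nonneg_left hv' (show (0 : ℝ) ≤ 2 * (6 * k - 7) by linarith)]
  · have hq5 : (4 : ℝ) ≤ q := by exact_mod_cast (by omega : 4 ≤ q)
    have hA : 0 ≤ ((q : ℝ) - 1) * (((k : ℝ) - 1) * (2 * q + 1) - k) :=
      mul_nonneg (by linarith) (by nlinarith)
    nlinarith [mul_le_mul_of_nonneg_left hv' hA, mul_nonneg (show (0 : ℝ) ≤ (q : ℝ) - 4 by linarith)
      (show (0 : ℝ) ≤ (k : ℝ) - 6 by linarith)]

/-- `3 ≤ k`, `q + 2 ≤ k`, `v ≥ (2 k + 1) ^ 2`. -/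
theorem row_square_arith {q k v : ℕ} (hq : 3 ≤ q) (hqk : q + 2 ≤ k) (hv : (2 * k + 1) ^ 2 ≤ v) :
    (k : ℝ) ^ 2 * q * (2 * q + 1) < (v : ℝ) * (((k : ℝ) - 1) * (2 * q + 1) - k) := by
  have hv' : (2 * (k : ℝ) + 1) ^ 2 ≤ v := by exact_mod_cast hv
  have hq' : (3 : ℝ) ≤ q := by exact_mod_cast hq
  have hqk' : (q : ℝ) + 2 ≤ k := by exact_mod_cast hqk
  have hA : (q : ℝ) * (2 * q + 1) ≤ 4 * (((k : ℝ) - 1) * (2 * q + 1) - k) := by nlinarith
  have hA0 : 0 < ((k : ℝ) - 1) * (2 * q + 1) - k := by nlinarith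
  nlinarith [mul_le_mul_of_nonneg_right hv' hA0.le,
    mul_le_mul_of_nonneg_left hA (sq_nonneg (k : ℝ))]

/-- `k < q`, `v ≥ q ^ 2`. -/
theorem row_q_sq_arith {q k v : ℕ} (hk : 3 ≤ k) (hqk : k + 2 ≤ q) (hv : q ^ 2 ≤ v)
    (h35 : k = 3 → q = 5 → 27 ≤ v) (hq6 : k = 3 → q ≠ 6) :
    (k : ℝ) ^ 2 * q * (2 * q + 1) < (v : ℝ) * (((k : ℝ) - 1) * (2 * q + 1) - k) := by
  have hv' : (q : ℝ) ^ 2 ≤ v := by exact_mod_cast hv
  have hk' : (3 : ℝ) ≤ k := by exact_mod_cast hk
  have hqk' : (k : ℝ) + 2 ≤ q := by exact_mod_cast hqk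
  have hA0 : 0 < ((k : ℝ) - 1) * (2 * q + 1) - k := by nlinarith
  by_cases h3 : k = 3
  · subst h3
    by_cases h5 : q = 5
    · subst h5
      have hv27 : (27 : ℝ) ≤ v := by exact_mod_cast h35 rfl rfl
      push_cast
      linarith
    · have hq7 : (7 : ℝ) ≤ q := by exact_mod_cast (by have := hq6 rfl; omega : 7 ≤ q)
      push_cast
      nlinarith [mul_le_mul_of_nonneg_right hv' (show (0 : ℝ) ≤ 4 * q - 1 by linarith)]
  · have hk4 : (4 : ℝ) ≤ k := by exact_mod_cast (by omega : 4 ≤ k)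
    have h : (k : ℝ) ^ 2 * (2 * q + 1) < q * (((k : ℝ) - 1) * (2 * q + 1) - k) := by
      nlinarith [mul_le_mul_of_nonneg_left hqk' (show (0 : ℝ) ≤ ((k : ℝ) - 1) * q by nlinarith)]
    nlinarith [mul_le_mul_of_nonneg_right hv' hA0.le,
      mul_lt_mul_of_pos_left h (show (0 : ℝ) < q by linarith)]

/-- `v ≥ (q ^ k - 1)/(q - 1)` with `k` prime. -/
theorem row_NT_arith {q k v : ℕ} (hq : 3 ≤ q) (hk : k.Prime) (hk3 : 3 ≤ k) (hne : q ≠ k)
    (hv : (q ^ k - 1) / (q - 1) ≤ v) (hq4 : q ≠ 4) :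
    (k : ℝ) ^ 2 * q * (2 * q + 1) < (v : ℝ) * (((k : ℝ) - 1) * (2 * q + 1) - k) := by
  rw [← Nat.geomSum_eq (by omega) k] at hv
  have hq' : (3 : ℝ) ≤ q := by exact_mod_cast hq
  by_cases h3 : k = 3
  · subst h3
    simp only [Finset.sum_range_succ, Finset.sum_range_zero, pow_zero, pow_one, zero_add] at hv
    have hq5 : (5 : ℝ) ≤ q := by exact_mod_cast (by omega : 5 ≤ q)
    have hv' : (1 + q + (q : ℝ) ^ 2) ≤ v := by exact_mod_cast hv
    push_cast
    nlinarith [mul_le_mul_of_nonneg_right hv' (show (0 : ℝ) ≤ 4 * q - 1 by linarith)]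
  · have hk5 : 5 ≤ k := by
      rcases eq_or_ne k 4 with h4 | h4
      · exact absurd hk (by rw [h4]; norm_num)
      · omega
    have h1 : q ^ (k - 1) ≤ v := le_trans (Finset.single_le_sum (f := fun i => q ^ i)
      (fun i _ => Nat.zero_le _) (Finset.mem_range.mpr (by omega : k - 1 < k))) hv
    have h2 : k ^ 2 < 3 * q ^ (k - 2) := by
      obtain ⟨j, rfl⟩ : ∃ j, k = j + 5 := ⟨k - 5, by omega⟩
      refine lt_of_lt_of_le ?_ (Nat.mul_le_mul_left 3 (Nat.pow_le_pow_left hq _))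
      rw [show j + 5 - 2 = j + 3 by omega]
      clear * -
      induction j with
      | zero => norm_num
      | succ j ih => rw [show j + 1 + 3 = j + 3 + 1 by omega, pow_succ 3 (j + 3)]; nlinarith
    have h1' : (q : ℝ) ^ (k - 1) ≤ v := by exact_mod_cast h1
    have h2' : (k : ℝ) ^ 2 < 3 * (q : ℝ) ^ (k - 2) := by exact_mod_cast h2
    have e : (q : ℝ) ^ (k - 1) = q * (q : ℝ) ^ (k - 2) := by
      rw [← pow_succ', show k - 2 + 1 = k - 1 by omega]
    have hk' : (5 : ℝ) ≤ k := by exact_mod_cast hk5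
    have hA : 7 * (q : ℝ) ≤ ((k : ℝ) - 1) * (2 * q + 1) - k := by nlinarith
    have hA0 : (0 : ℝ) ≤ ((k : ℝ) - 1) * (2 * q + 1) - k := by linarith
    have hp : (0 : ℝ) < (q : ℝ) ^ (k - 2) := by positivity
    nlinarith [mul_le_mul_of_nonneg_right h1' hA0,
      mul_le_mul_of_nonneg_left hA (show (0 : ℝ) ≤ q * (q : ℝ) ^ (k - 2) by positivity),
      mul_lt_mul_of_pos_left h2' (show (0 : ℝ) < q * (2 * q + 1) by positivity)]

namespace Pair

variable {G : Type u} [Group G] {S T W₁ W₂ : Subgroup G} [Fintype G] (P : Pair S T W₁ W₂)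
include P

theorem pgroup_Kd (hq : IsPGroup (Nat.card W₁) ↥(⁅T, T⁆ : Subgroup G)) :
    IsPGroup (Nat.card W₁) (Kd T) :=
  hq.of_equiv (Subgroup.subgroupOfEquivOfLe P.derived_le).symm

/-- `|T' : Z| = |T'' : Z| |T' : T''|`. -/
theorem index_inKd_mul [Fintype T] {Z : Subgroup G} (C : Central T Z) :
    (P.inKd Z).index = Z.relIndex ⁅⁅T, T⁆, ⁅T, T⁆⁆ * vT T := by
  rw [P.index_inKd (C.le_two.trans (Subgroup.commutator_le_self _)), vT,
    relIndex_mul_relIndex _ _ _ C.le_two (Subgroup.commutator_le_self _)]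

theorem q_le_relIndex [Fintype T] {Z : Subgroup G} (C : Central T Z) (h : W₁ ⊓ Z = ⊥) :
    Nat.card W₁ ≤ Z.relIndex ⁅⁅T, T⁆, ⁅T, T⁆⁆ := by
  have hn : W₁ ≤ normalizer (Z : Set G) := fun w hw => by
    refine mem_normalizer_iff.mpr fun z => ⟨fun hz => C.normal w (P.W₁_le_T hw) z hz, fun hz => ?_⟩
    have := C.normal w⁻¹ (T.inv_mem (P.W₁_le_T hw)) _ hz
    simpa [mul_assoc] using this
  have h1 := CfsgLib.Coprime.card_sup_of_inf_eq_bot hn h
  have h2 : Nat.card ↥(W₁ ⊔ Z) ∣ Nat.card ↥(⁅⁅T, T⁆, ⁅T, T⁆⁆ : Subgroup G) :=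
    card_dvd_of_le (sup_le P.W₁_le_derived_two C.le_two)
  rw [h1, ← CfsgLib.FT.BG15.relIndex_mul_card_of_le C.le_two] at h2
  have h3 := Nat.dvd_of_mul_dvd_mul_right Nat.card_pos h2
  exact Nat.le_of_dvd (Nat.pos_of_ne_zero index_ne_zero_of_finite) h3

theorem card_hom_inKd [Fintype T] {Z : Subgroup G} (C : Central T Z)
    [Fintype (P.inKd Z →* ℂˣ)] : Fintype.card (P.inKd Z →* ℂˣ) = Nat.card Z := by
  classical
  haveI : Fintype (P.inKd Z) := Fintype.ofFinite _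
  rw [card_hom_of_comm fun a b => Subtype.ext (Subgroup.mem_center_iff.mp (P.inKd_le_center C b.2) a),
    ← Nat.card_eq_fintype_card, P.card_inKd (C.le_two.trans (Subgroup.commutator_le_self _))]

variable [Fintype T] {μ : (W₁ →* ℂˣ) → (W₂ →* ℂˣ) → T → ℂ} {δ : (W₁ →* ℂˣ) → ℂ}
  {η : (W₁ →* ℂˣ) → (W₂ →* ℂˣ) → G → ℂ}

/-- The mass of the average of a member. -/
theorem fam_fres_le [Fintype (Kd T)] {ν : (Kd T →* ℂˣ) → G → ℂ} (F : LinFamily P ν)
    {l₀ : Kd T →* ℂˣ} (hl₀ : l₀ ≠ 1) :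
    (classInner (P.fres (ν l₀)) (P.fres (ν l₀))).re ≤ Nat.card W₂ := by
  classical
  refine (P.fres_norm_le (isClassFunction_of_isGeneralized (F.gen l₀ hl₀))).trans ?_
  refine mul_le_of_le_one_right (Nat.cast_nonneg _) ?_
  have hn := congrArg Complex.re (P.fam_norm F hl₀)
  rw [inner_self_eq, Complex.ofReal_re, Complex.one_re] at hn
  refine le_trans (mul_le_mul_of_nonneg_left ?_ (inv_nonneg.mpr (Nat.cast_nonneg _))) hn.le
  rw [finsum_mem_eq_sum_of_subset (s := tildeOf T (derA T)) (t := (Finset.univ.filter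
    fun g => g ∈ tildeOf T (derA T))) _ (fun g hg => by simp [hg.1]) (fun g hg => by simpa using hg)]
  exact Finset.sum_le_sum_of_subset_of_nonneg (Finset.subset_univ _) fun g _ _ => sq_nonneg _

theorem column_ineq [Fintype (Kd T)] {ν : (Kd T →* ℂˣ) → G → ℂ} (F : LinFamily P ν)
    {l₀ : Kd T →* ℂˣ} (hl₀ : l₀ ≠ 1) {c : ℂ}
    (hc : ∀ l : Kd T →* ℂˣ, l ≠ 1 → [Decidable (P.zeta l₀ = P.zeta l)] →
      classInner (P.fres (ν l₀)) (fun x => (l x : ℂ)) =
        c + if P.zeta l₀ = P.zeta l then 1 else 0)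
    {θ : Kd T → ℂ} {d : ℕ} (hθ : IsIrrCharacter (Kd T) θ) (hd : θ 1 = d) (hd1 : d ≠ 1) {z : ℤ}
    (hzc : classInner (P.fres (ν l₀)) θ = (z : ℂ) + (d : ℂ) * c)
    {ι : Type*} [DecidableEq ι] (s : Finset ι) (e : ι → Kd T → ℂ) (N : ι → ℝ)
    (hN : ∀ i ∈ s, 0 < N i)
    (he : ∀ i ∈ s, ∀ j ∈ s, classInner (e i) (e j) = if i = j then (N i : ℂ) else 0)
    (hlin : ∀ i ∈ s, ∀ l : Kd T →* ℂˣ, classInner (e i) (fun x => (l x : ℂ)) = 0)
    (heθ : ∀ i ∈ s, classInner (e i) θ = 0) :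
    ((vT T : ℝ) - 1) * c.re ^ 2 + 2 * (Nat.card W₂ : ℝ) * c.re + ((z : ℝ) + d * c.re) ^ 2 +
        ∑ i ∈ s, ‖classInner (P.fres (ν l₀)) (e i)‖ ^ 2 / N i ≤ 0 := by
  classical
  haveI : Fintype (Kd T →* ℂˣ) := Fintype.ofFinite _
  set f := P.fres (ν l₀)
  set A := (Finset.univ : Finset (Kd T →* ℂˣ)).erase 1
  have hlθ : ∀ l : Kd T →* ℂˣ, classInner (fun x => (l x : ℂ)) θ = 0 := fun l => by
    rw [inner_irr_of_isIrr (isIrrCharacter_linear l) hθ, if_neg]
    intro h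
    have h1 := congrFun h 1
    rw [map_one, Units.val_one, hd] at h1
    exact hd1 (by exact_mod_cast h1.symm)
  have hθθ : classInner θ θ = 1 := by rw [inner_irr_of_isIrr hθ hθ, if_pos rfl]
  have hB := bessel_orth ((A.disjSum ({()} : Finset Unit)).disjSum s)
    (Sum.elim (Sum.elim (fun (l : Kd T →* ℂˣ) x => (l x : ℂ)) fun _ => θ) e)
    (Sum.elim (fun _ => 1) N) (fun i hi => by
      rcases i with i | i
      · simp
      · exact hN i (Finset.inr_mem_disjSum.mp hi))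
    (fun i hi j hj => by
      rcases i with (l | u) | i <;> rcases j with (l' | u') | j
      · simp [PF13.inner_lin]
      · simp [hlθ]
      · simp only [Sum.elim_inl, Sum.elim_inr, if_neg Sum.inl_ne_inr]
        rw [← inner_conj, hlin j (Finset.inr_mem_disjSum.mp hj) l, map_zero]
      · simp only [Sum.elim_inl, Sum.elim_inr]
        rw [← inner_conj, hlθ, map_zero, if_neg (by simp)]
      · simp [hθθ]
      · simp only [Sum.elim_inl, Sum.elim_inr, if_neg Sum.inl_ne_inr]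
        rw [← inner_conj, heθ j (Finset.inr_mem_disjSum.mp hj), map_zero]
      · simp only [Sum.elim_inl, Sum.elim_inr, if_neg Sum.inr_ne_inl]
        exact hlin i (Finset.inr_mem_disjSum.mp hi) l'
      · simp only [Sum.elim_inl, Sum.elim_inr, if_neg Sum.inr_ne_inl]
        exact heθ i (Finset.inr_mem_disjSum.mp hi)
      · simp only [Sum.elim_inr, Sum.inr.injEq]
        exact he i (Finset.inr_mem_disjSum.mp hi) j (Finset.inr_mem_disjSum.mp hj))
    f
  rw [Finset.sum_disjSum, Finset.sum_disjSum] at hB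
  simp only [Sum.elim_inl, Sum.elim_inr, Finset.sum_singleton, div_one, hzc] at hB
  have hterm : ∀ l ∈ A, c.re ^ 2 + (if P.zeta l₀ = P.zeta l then 2 * c.re + 1 else 0) ≤
      ‖classInner f (fun x => (l x : ℂ))‖ ^ 2 := by
    intro l hl
    rw [hc l (Finset.ne_of_mem_erase hl), ← Complex.normSq_eq_norm_sq, Complex.normSq_apply]
    split
    · simp only [Complex.add_re, Complex.one_re, Complex.add_im, Complex.one_im]
      nlinarith [mul_self_nonneg c.im]
    · simp only [add_zero]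
      nlinarith [mul_self_nonneg c.im]
  have hA : A.card + 1 = vT T := by
    rw [Finset.card_erase_add_one (Finset.mem_univ _), Finset.card_univ, P.card_hom_Kd]
  have hfilter : (A.filter fun l => P.zeta l₀ = P.zeta l).card = Nat.card W₂ := by
    rw [← P.card_zeta_fiber hl₀]
    congr 1
    refine Finset.ext fun l => ?_
    simp only [A, Finset.mem_filter, Finset.mem_erase, Finset.mem_univ, and_true, true_and]
    refine ⟨fun h => h.2.symm, fun h => ⟨?_, h.symm⟩⟩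
    rintro rfl
    have h1 := P.inner_indOne_zeta hl₀
    rw [show indOne (Kd T) = P.zeta 1 from rfl, h, P.inner_zeta hl₀ hl₀, if_pos rfl] at h1
    exact one_ne_zero h1
  have hsum := Finset.sum_le_sum hterm
  rw [Finset.sum_add_distrib, Finset.sum_const, nsmul_eq_mul, ← Finset.sum_filter, Finset.sum_const,
    hfilter, nsmul_eq_mul] at hsum
  have hA' : (A.card : ℝ) = (vT T : ℝ) - 1 := by rw [← hA]; push_cast; ring
  rw [hA'] at hsum
  have hθre : ((z : ℝ) + d * c.re) ^ 2 ≤ ‖(z : ℂ) + (d : ℂ) * c‖ ^ 2 := by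
    rw [← Complex.normSq_eq_norm_sq, Complex.normSq_apply]
    simp only [Complex.add_re, Complex.mul_re, Complex.intCast_re, Complex.natCast_re,
      Complex.natCast_im, zero_mul, sub_zero]
    nlinarith [mul_self_nonneg ((z : ℂ) + (d : ℂ) * c).im]
  have := P.fam_fres_le F hl₀
  linarith

/-- The weights of the central subgroup in the Bessel sum. -/
theorem sum_weight [Fintype (Kd T)] {Z : Subgroup G} [Fintype (P.inKd Z)] (C : Central T Z)
    {f : Kd T → ℂ} {s : ℝ} (Ω : Finset (P.inKd Z →* ℂˣ)) (hΩ : ∀ ω ∈ Ω, ω ≠ 1)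
    (h : ∀ ω : P.inKd Z →* ℂˣ, ω ≠ 1 →
      classInner f (cent (P.inKd Z) ω) = ((P.inKd Z).index : ℂ) * (s : ℂ)) :
    ∑ ω ∈ Ω, ‖classInner f (cent (P.inKd Z) ω)‖ ^ 2 / ((P.inKd Z).index : ℝ) =
      (Ω.card : ℝ) * (P.inKd Z).index * s ^ 2 := by
  have hD : ((P.inKd Z).index : ℝ) ≠ 0 := by
    exact_mod_cast index_ne_zero_of_finite (H := P.inKd Z)
  rw [Finset.sum_congr rfl (g := fun _ => ((P.inKd Z).index : ℝ) * s ^ 2) fun ω hω => ?_,
    Finset.sum_const, nsmul_eq_mul, mul_assoc]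
  rw [h ω (hΩ ω hω), norm_mul, Complex.norm_natCast, Complex.norm_real, mul_pow, Real.norm_eq_abs,
    sq_abs]
  field_simp

/-- The row alternative with the weight of a central subgroup. -/
theorem row_weight_false (hq : IsPGroup (Nat.card W₁) ↥(⁅T, T⁆ : Subgroup G))
    (hTI : IsTISubset ((⁅T, T⁆ : Subgroup G) : Set G)) [Fintype (W₂ →* ℂˣ)] (hη : Grid W₁ W₂ η)
    (hrow : P.IsRow η) {l₀ : Kd T →* ℂˣ} (hl₀ : l₀ ≠ 1) {Z : Subgroup G} (C : Central T Z)
    (hconst : ∀ z ∈ Z, ∀ z' ∈ Z, z ≠ 1 → z' ≠ 1 → P.psi η l₀ z = P.psi η l₀ z')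
    (hnum : (Nat.card W₂ : ℝ) ^ 2 * Nat.card W₁ * (2 * Nat.card W₁ + 1) <
      ((Nat.card Z : ℝ) - 1) * (P.inKd Z).index *
        (((Nat.card W₂ : ℝ) - 1) * (2 * Nat.card W₁ + 1) - Nat.card W₂)) : False := by
  classical
  haveI : Fintype (Kd T) := Fintype.ofFinite _
  haveI : Fintype (P.inKd Z) := Fintype.ofFinite _
  haveI : Fintype (P.inKd Z →* ℂˣ) := Fintype.ofFinite _
  obtain ⟨s, hs, j, hj⟩ := P.exists_weight C hq hTI (P.psi_family hη hrow) hl₀ hconst
  set Ω := (Finset.univ : Finset (P.inKd Z →* ℂˣ)).erase 1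
  set D := (P.inKd Z).index
  have hD : (0 : ℝ) < D := Nat.cast_pos.mpr (Nat.pos_of_ne_zero index_ne_zero_of_finite)
  have h := P.row_ineq hη hrow hl₀ Ω (fun ω => cent (P.inKd Z) ω) (fun _ => (D : ℝ))
    (fun _ _ => hD) (fun i _ i' _ => by rw [cent_orth, Complex.ofReal_natCast])
    fun i hi l => cent_linear (Finset.ne_of_mem_erase hi) fun z hz => P.lin_trivial C.le_two l hz
  rw [P.sum_weight C Ω (fun ω hω => Finset.ne_of_mem_erase hω) hs] at h
  have hcard : (Ω.card : ℝ) = (Nat.card Z : ℝ) - 1 := by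
    rw [← P.card_hom_inKd C, ← Finset.card_univ, ← Finset.card_erase_add_one
      (Finset.mem_univ (1 : P.inKd Z →* ℂˣ))]
    push_cast
    ring
  rw [hcard] at h
  have hre : (classInner (P.fres (P.psi η l₀)) fun _ => 1).re = s + j := by
    rw [hj]; simp
  have hZ : (1 : ℝ) < Nat.card Z := by
    exact_mod_cast (Subgroup.one_lt_card_iff_ne_bot Z).mpr C.ne_bot
  have hW : (0 : ℝ) < ((Nat.card Z : ℝ) - 1) * D := mul_pos (by linarith) hD
  obtain ⟨L, -, -, -, hcount, hL2⟩ := P.exists_reps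
  have hv : 2 * (Nat.card W₂ : ℝ) ≤ vT T := by
    have := Nat.mul_le_mul_left (Nat.card W₂) hL2
    exact_mod_cast (show 2 * Nat.card W₂ ≤ vT T by linarith)
  have h2 := weight_deficit (k := (Nat.card W₂ : ℝ)) (v := (vT T : ℝ)) (s := s)
    (c := (classInner (P.fres (P.psi η l₀)) fun _ => 1).re) (j := -j) (Nat.cast_nonneg _) hv hW
    (by rw [hre]; push_cast; ring)
  refine P.outside_false hW hnum ?_
  rw [neg_div] at h2
  linarith

theorem row_false_q_group (hV : IsOfTypeV T) (hlt : Nat.card W₁ < Nat.card W₂)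
    (hq : IsPGroup (Nat.card W₁) ↥(⁅T, T⁆ : Subgroup G)) [Fintype (W₂ →* ℂˣ)]
    (E : Exc T W₁ W₂ μ δ) (hη : Grid W₁ W₂ η) (hrow : P.IsRow η) {l₀ : Kd T →* ℂˣ}
    (hl₀ : l₀ ≠ 1) : False := by
  haveI := Fact.mk P.prime_q
  have hTI := ti_derived_of_lt P hV hlt
  have F := P.psi_family hη hrow
  have hq3 := P.three_le_card_W₁
  have hk2 : Nat.card W₁ + 2 ≤ Nat.card W₂ := by
    obtain ⟨i, hi⟩ := P.odd_card (X := W₁)
    obtain ⟨j, hj⟩ := P.odd_card (X := W₂)
    omega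
  have hv : 2 * Nat.card W₂ + 1 ≤ vT T := by
    obtain ⟨L, -, -, -, hcount, hL2⟩ := P.exists_reps
    have := Nat.mul_le_mul_left (Nat.card W₂) hL2
    omega
  by_cases hc : ∀ w ∈ W₁, ∀ y ∈ (⁅T, T⁆ : Subgroup G), w * y = y * w
  · have C := P.central_W₁ hc
    refine P.row_weight_false hq hTI hη hrow hl₀ C (P.const_W₁ hq hTI F hl₀) ?_
    have hD : vT T ≤ (P.inKd W₁).index := by
      rw [P.index_inKd_mul C]
      exact Nat.le_mul_of_pos_left _ (Nat.pos_of_ne_zero index_ne_zero_of_finite)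
    have hk6 : Nat.card W₂ ≠ 6 := fun h => by
      obtain ⟨i, hi⟩ := P.odd_card (X := W₂)
      omega
    refine lt_of_lt_of_le (row_five_arith hq3 hk2 hv (fun h3 h5 => ?_) hk6) ?_
    · obtain ⟨i, hi⟩ := IsPGroup.iff_card.mp hq
      obtain ⟨e, -, he⟩ := (Nat.dvd_prime_pow P.prime_q).mp
        (hi ▸ (show vT T ∣ Nat.card (⁅T, T⁆ : Subgroup G) from
          Dvd.intro _ (CfsgLib.FT.BG15.relIndex_mul_card_of_le (Subgroup.commutator_le_self _))))
      rw [h3] at he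
      have hmod := (vT_mod P).1
      rw [h5, he] at hmod
      rw [h5, he] at hv
      rw [he]
      rcases Nat.lt_or_ge e 4 with h | h
      · interval_cases e <;> simp_all
      · calc 81 = 3 ^ 4 := by norm_num
          _ ≤ 3 ^ e := Nat.pow_le_pow_right (by norm_num) h
    · refine mul_le_mul_of_nonneg_right (mul_le_mul_of_nonneg_left (by exact_mod_cast hD) ?_) ?_
      · have : (3 : ℝ) ≤ Nat.card W₁ := by exact_mod_cast hq3
        linarith
      · have : (3 : ℝ) ≤ Nat.card W₁ := by exact_mod_cast hq3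
        have : (Nat.card W₁ : ℝ) + 2 ≤ Nat.card W₂ := by exact_mod_cast hk2
        nlinarith
  · have C := P.central_centreZ hV hc
    refine P.row_weight_false hq hTI hη hrow hl₀ C (P.const_centreZ hV hc hTI E hη F hl₀) ?_
    have hZ : (2 * (Nat.card W₂ : ℝ)) ≤ (Nat.card P.centreZ : ℝ) - 1 := by
      have : ((2 * Nat.card W₂ + 1 : ℕ) : ℝ) ≤ Nat.card P.centreZ := by
        exact_mod_cast P.le_card_centreZ hV hc
      push_cast at this
      linarith
    have hD : (Nat.card W₁ : ℝ) * (2 * Nat.card W₂ + 1) ≤ (P.inKd P.centreZ).index := by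
      rw [P.index_inKd_mul C]
      exact_mod_cast Nat.mul_le_mul (P.q_le_relIndex C (P.W₁_inf_centreZ hc)) hv
    have hq' : (3 : ℝ) ≤ Nat.card W₁ := by exact_mod_cast hq3
    have hk' : (Nat.card W₁ : ℝ) + 2 ≤ Nat.card W₂ := by exact_mod_cast hk2
    have hA : (2 * (Nat.card W₁ : ℝ) + 1) ≤
        ((Nat.card W₂ : ℝ) - 1) * (2 * Nat.card W₁ + 1) - Nat.card W₂ := by nlinarith
    have h := mul_le_mul (mul_le_mul hZ hD (by positivity) (by linarith)) hA (by positivity)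
      (mul_nonneg (by linarith) (Nat.cast_nonneg _))
    nlinarith

/-- The degree of `θ_a` is at least `2 k - 1`. -/
theorem two_k_le_deg (E : Exc T W₁ W₂ μ δ) {a : W₁ →* ℂˣ} {d : ℕ} (hd1 : 1 < d) (hodd : Odd d)
    {n : ℤ} (hn : (d : ℂ) - δ a = n * (Nat.card W₂ : ℂ)) : 2 * Nat.card W₂ ≤ d + 1 := by
  obtain ⟨e, he, hen⟩ : ∃ e : ℤ, (e = 1 ∨ e = -1) ∧ (d : ℤ) - e = n * Nat.card W₂ := by
    rcases E.sign a with h | h
    · exact ⟨1, Or.inl rfl, by rw [h] at hn; exact_mod_cast hn⟩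
    · exact ⟨-1, Or.inr rfl, by rw [h] at hn; exact_mod_cast hn⟩
  have hd' : (2 : ℤ) ≤ d := by exact_mod_cast hd1
  have hk : (0 : ℤ) ≤ Nat.card W₂ := Nat.cast_nonneg _
  have hn2 : 2 ≤ n := by
    by_contra hcon
    push Not at hcon
    rcases lt_or_eq_of_le (show n ≤ 1 by omega) with h0 | h0
    · have : n * (Nat.card W₂ : ℤ) ≤ 0 := mul_nonpos_of_nonpos_of_nonneg (by omega) hk
      omega
    · rw [h0, one_mul] at hen
      obtain ⟨i, hi⟩ := hodd
      obtain ⟨i', hi'⟩ := P.odd_card (X := W₂)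
      omega
  have : 2 * (Nat.card W₂ : ℤ) ≤ n * Nat.card W₂ := mul_le_mul_of_nonneg_right hn2 hk
  omega

theorem column_false_five (hV : IsOfTypeV T) (E : Exc T W₁ W₂ μ δ) (hη : Grid W₁ W₂ η)
    {cb : (W₂ →* ℂˣ) → ℤ} (hcol : P.IsColumn η cb) : False := by
  classical
  haveI : Fintype (W₁ →* ℂˣ) := Fintype.ofFinite _
  haveI : Fintype (W₂ →* ℂˣ) := Fintype.ofFinite _
  haveI : Fintype (Kd T) := Fintype.ofFinite _
  obtain ⟨a, ha⟩ : ∃ a : W₁ →* ℂˣ, a ≠ 1 :=
    Fintype.exists_ne_of_one_lt_card (by rw [P.card_hom_W₁]; exact P.prime_q.one_lt) 1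
  obtain ⟨d, hd, hd1, hdodd, n, hn⟩ := P.theta_deg E ha
  set θ := P.theta μ a
  have hθ : IsIrrCharacter (Kd T) θ := P.theta_irr E a
  have hd1' : d ≠ 1 := by omega
  obtain ⟨L, hL1, -, -, hcount, hL2⟩ := P.exists_reps
  obtain ⟨l₀, hr⟩ := Finset.card_pos.mp (by omega : 0 < L.card)
  have hl₀ := hL1 l₀ hr
  by_cases hq : IsPGroup (Nat.card W₁) ↥(⁅T, T⁆ : Subgroup G)
  swap
  · obtain ⟨ν, F, hz⟩ := P.exists_family_z_zero E hη hV hq
    have := (P.column_z E hη F hcol ha hd hd1' ⟨n, hn⟩ (z := 0) fun l₀ l hl₀ hl => by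
      intro _
      rw [hz θ d hθ hd hd1' l₀ l hl₀ hl, Int.cast_zero, zero_sub]).1
    omega
  have hlt := hcol.1
  have hTI := ti_derived_of_lt P hV hlt
  obtain ⟨ν, F⟩ := P.exists_family E hη
  obtain ⟨z, hz⟩ := P.exists_z F hθ hd hd1'
  obtain ⟨hz1, hzd⟩ := P.column_z E hη F hcol ha hd hd1' ⟨n, hn⟩ hz
  obtain ⟨c, hc, hcθ, j, hj⟩ := P.exists_coeff F hl₀
  have hzc := hcθ θ d hθ hd z hz
  have hk3 : (3 : ℝ) ≤ Nat.card W₂ := by exact_mod_cast P.three_le_card_W₂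
  have hd2k : 2 * (Nat.card W₂ : ℝ) ≤ d + 1 := by exact_mod_cast P.two_k_le_deg E hd1 hdodd hn
  have hv : 2 * (Nat.card W₂ : ℝ) ≤ (vT T : ℝ) - 1 := by
    have := Nat.mul_le_mul_left (Nat.card W₂) hL2
    have : ((2 * Nat.card W₂ + 1 : ℕ) : ℝ) ≤ vT T := by exact_mod_cast (by omega)
    push_cast at this
    linarith
  haveI := Fact.mk P.prime_q
  have hQ : IsPGroup (Nat.card W₁) (Kd T) := P.pgroup_Kd hq
  have hcd : charDegree θ = d := by
    have h := CharApps.deg_eq_of_isChar (isCharacter_of_irr hθ)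
    rw [hd] at h
    exact_mod_cast h.symm
  -- the conclusion from a weight
  have finish : ∀ (Z : Subgroup G) [Fintype (P.inKd Z)] (C : Central T Z) (s : ℝ)
      (Ω : Finset (P.inKd Z →* ℂˣ)), (∀ ω ∈ Ω, ω ≠ 1) →
      (∀ ω : P.inKd Z →* ℂˣ, ω ≠ 1 →
        classInner (P.fres (ν l₀)) (cent (P.inKd Z) ω) = ((P.inKd Z).index : ℂ) * (s : ℂ)) →
      (∀ ω ∈ Ω, classInner (cent (P.inKd Z) ω) θ = 0) → (∃ i : ℤ, s - c.re = i) →
      5 * (d : ℝ) * Nat.card W₂ ≤ (Ω.card : ℝ) * (P.inKd Z).index →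
      3 * (Nat.card W₂ : ℝ) ^ 2 < (Ω.card : ℝ) * (P.inKd Z).index → False := by
    intro Z _ C s Ω hΩ hs hΩθ ⟨i, hi⟩ hW1 hW2
    have hD : (0 : ℝ) < (P.inKd Z).index :=
      Nat.cast_pos.mpr (Nat.pos_of_ne_zero index_ne_zero_of_finite)
    have h := P.column_ineq F hl₀ hc hθ hd hd1' hzc Ω (fun ω => cent (P.inKd Z) ω)
      (fun _ => ((P.inKd Z).index : ℝ)) (fun _ _ => hD)
      (fun i _ i' _ => by rw [cent_orth, Complex.ofReal_natCast])
      (fun ω hω l => cent_linear (hΩ ω hω) fun x hx => P.lin_trivial C.le_two l hx) hΩθ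
    rw [P.sum_weight C Ω hΩ hs] at h
    refine column_false (k := (Nat.card W₂ : ℝ)) (v' := (vT T : ℝ) - 1) (c := c.re)
      (W := (Ω.card : ℝ) * (P.inKd Z).index) (s := s) (d := (d : ℝ)) (z := z) (j := i)
      (by linarith) hv ?_ (by exact_mod_cast hd1.le) hz1 ?_ hi hW1 hW2 (by linarith)
    · nlinarith
    · have : z ≤ (d : ℤ) - 1 := by omega
      exact_mod_cast this
  have hint : ∀ (s : ℝ) (j' : ℤ), classInner (P.fres (ν l₀)) (fun _ => 1) = (s : ℂ) + (j' : ℂ) →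
      (s : ℂ) - c = ((j - j' : ℤ) : ℂ) ∧ s - c.re = ((j - j' : ℤ) : ℝ) := by
    intro s j' h
    have e : (s : ℂ) - c = ((j - j' : ℤ) : ℂ) := by
      push_cast
      rw [← hj, h]
      ring
    refine ⟨e, ?_⟩
    have := congrArg Complex.re e
    simpa using this
  have hdd : ∀ {Z : Subgroup G}, Central T Z → d ^ 2 ∣ (P.inKd Z).index := fun {Z} C =>
    hcd ▸ degree_sq_dvd_index P.prime_q hQ (P.inKd_le_center C) ⟨θ, hθ⟩
  by_cases hcent : ∀ w ∈ W₁, ∀ y ∈ (⁅T, T⁆ : Subgroup G), w * y = y * w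
  · have C := P.central_W₁ hcent
    haveI : Fintype (P.inKd W₁) := Fintype.ofFinite _
    haveI : Fintype (P.inKd W₁ →* ℂˣ) := Fintype.ofFinite _
    obtain ⟨s, hs, j', hj'⟩ := P.exists_weight C hq hTI F hl₀ (P.const_W₁ hq hTI F hl₀)
    obtain ⟨hsc, hscr⟩ := hint s j' hj'
    obtain ⟨ω₀, hω₀⟩ := exists_central_char (P.inKd_le_center C) hθ
    set D := (P.inKd W₁).index
    by_cases hdD : d ^ 2 = D
    · have hcω := cent_eq_smul (P.inKd_le_center C) hθ hd hdD hω₀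
      by_cases hω1 : ω₀ = 1
      · have h1 : classInner (cent (P.inKd W₁) ω₀) (fun _ => (1 : ℂ)) = 1 := by
          rw [hω1, ← inner_conj, inner_cent,
            show (fun _ : P.inKd W₁ => (1 : ℂ)) = fun x => ((1 : P.inKd W₁ →* ℂˣ) x : ℂ) from rfl,
            PF13.inner_lin, if_pos rfl, map_one]
        rw [hcω, Chars.inner_smul_left, inner_irr_of_isIrr hθ isIrrCharacter_one, if_neg fun e => hd1' (by
          have h2 : (1 : ℂ) = d := by rw [← hd, e]
          exact_mod_cast h2.symm), mul_zero] at h1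
        exact zero_ne_one h1
      · have h1 := hs ω₀ hω1
        rw [hcω, Chars.inner_smul_right, Complex.conj_natCast, hzc, ← hdD] at h1
        push_cast at h1
        have hd0 : (d : ℂ) ≠ 0 := Nat.cast_ne_zero.mpr (by omega)
        have h2 : (z : ℂ) + (d : ℂ) * c = (d : ℂ) * s :=
          mul_left_cancel₀ hd0 (h1.trans (by ring))
        have h3 : (z : ℂ) = (d : ℂ) * ((j - j' : ℤ) : ℂ) := by rw [← hsc]; linear_combination h2
        have h4 : z = (d : ℤ) * (j - j') := by exact_mod_cast h3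
        have := Int.le_of_dvd (by omega) (Dvd.intro _ h4.symm)
        omega
    · have hD0 : D ≠ 0 := index_ne_zero_of_finite
      obtain ⟨m, hm⟩ : d ^ 2 ∣ D := hdd C
      obtain ⟨e, -, he⟩ : ∃ e, True ∧ D = Nat.card W₁ ^ e := by
        obtain ⟨i, hi⟩ := IsPGroup.iff_card.mp hQ
        obtain ⟨e, -, he⟩ := (Nat.dvd_prime_pow P.prime_q).mp (hi ▸ (P.inKd W₁).index_dvd_card)
        exact ⟨e, trivial, he⟩
      have hqm : Nat.card W₁ ∣ m := by
        obtain ⟨e', -, he'⟩ := (Nat.dvd_prime_pow P.prime_q).mp (he ▸ Dvd.intro_left _ hm.symm)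
        rcases e' with _ | e'
        · rw [he', pow_zero, mul_one] at hm
          exact absurd hm.symm hdD
        · rw [he']
          exact dvd_pow_self _ (Nat.succ_ne_zero _)
      have hDbig : (d : ℝ) ^ 2 * Nat.card W₁ ≤ (D : ℝ) := by
        have : d ^ 2 * Nat.card W₁ ≤ D :=
          Nat.le_of_dvd (Nat.pos_of_ne_zero hD0) (hm ▸ Nat.mul_dvd_mul_left _ hqm)
        exact_mod_cast this
      set Ω := ((Finset.univ : Finset (P.inKd W₁ →* ℂˣ)).erase 1).erase ω₀ with hΩdef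
      have hΩcard : Nat.card W₁ ≤ Ω.card + 2 := by
        rw [← P.card_hom_inKd C, ← Finset.card_univ, hΩdef]
        have h1 := Finset.pred_card_le_card_erase (s := (Finset.univ : Finset (P.inKd W₁ →* ℂˣ))) (a := 1)
        have h2 := Finset.pred_card_le_card_erase
          (s := (Finset.univ : Finset (P.inKd W₁ →* ℂˣ)).erase 1) (a := ω₀)
        omega
      have hq3 : (3 : ℝ) ≤ Nat.card W₁ := by exact_mod_cast P.three_le_card_W₁
      have hW : 3 * (d : ℝ) ^ 2 ≤ (Ω.card : ℝ) * D := by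
        have h1 : (1 : ℝ) ≤ Ω.card := by
          exact_mod_cast (show 1 ≤ Ω.card by have := P.three_le_card_W₁; omega)
        nlinarith [mul_le_mul h1 hDbig (by positivity) (by positivity)]
      have hk5 : (5 : ℝ) ≤ Nat.card W₂ := by
        have := P.three_le_card_W₁
        obtain ⟨i, hi⟩ := P.odd_card (X := W₁)
        obtain ⟨i', hi'⟩ := P.odd_card (X := W₂)
        exact_mod_cast (show 5 ≤ Nat.card W₂ by omega)
      refine finish W₁ C s Ω (fun ω hω => Finset.ne_of_mem_erase (Finset.mem_of_mem_erase hω)) hs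
        (fun ω hω => ?_) ⟨_, hscr⟩ (by nlinarith) (by nlinarith)
      rw [← inner_conj, inner_cent,
        show (fun x : P.inKd W₁ => θ x) = θ 1 • fun x => (ω₀ x : ℂ) from funext fun x => hω₀ x,
        Chars.inner_smul_left, PF13.inner_lin, if_neg (Finset.ne_of_mem_erase hω).symm, mul_zero,
        map_zero]
  · have C := P.central_centreZ hV hcent
    haveI : Fintype (P.inKd P.centreZ) := Fintype.ofFinite _
    haveI : Fintype (P.inKd P.centreZ →* ℂˣ) := Fintype.ofFinite _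
    obtain ⟨s, hs, j', hj'⟩ := P.exists_weight C hq hTI F hl₀
      (P.const_centreZ hV hcent hTI E hη F hl₀)
    obtain ⟨-, hscr⟩ := hint s j' hj'
    set Ω := (Finset.univ : Finset (P.inKd P.centreZ →* ℂˣ)).erase 1 with hΩdef
    have hΩcard : 2 * (Nat.card W₂ : ℝ) ≤ Ω.card := by
      have h1 : 2 * Nat.card W₂ + 1 ≤ Ω.card + 1 := by
        rw [hΩdef, Finset.card_erase_add_one (Finset.mem_univ _), Finset.card_univ, P.card_hom_inKd C]
        exact P.le_card_centreZ hV hcent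
      exact_mod_cast (show 2 * Nat.card W₂ ≤ Ω.card by omega)
    have hD : (d : ℝ) ^ 2 ≤ (P.inKd P.centreZ).index := by
      exact_mod_cast Nat.le_of_dvd (Nat.pos_of_ne_zero index_ne_zero_of_finite) (hdd C)
    have hW := mul_le_mul hΩcard hD (by positivity) (Nat.cast_nonneg _)
    refine finish P.centreZ C s Ω (fun ω hω => Finset.ne_of_mem_erase hω) hs (fun ω hω => ?_)
      ⟨_, hscr⟩ ?_ ?_
    · exact cent_trivial (Finset.ne_of_mem_erase hω) fun x hx =>
        P.trivial_centreZ hV hcent hθ (P.theta_invariant E a) hx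
    · nlinarith
    · nlinarith

/-- The exceptional case `(k, q) = (3, 5)`, `|T'| = 125`. -/
theorem row_false_125 (E : Exc T W₁ W₂ μ δ) [Fintype (W₂ →* ℂˣ)] (hη : Grid W₁ W₂ η)
    (hrow : P.IsRow η) (hk : Nat.card W₂ = 3) (hq : Nat.card W₁ = 5) (hv : vT T = 25)
    (hcard : Nat.card (⁅T, T⁆ : Subgroup G) = 5 ^ 3) : False := by
  classical
  haveI : Fintype (W₁ →* ℂˣ) := Fintype.ofFinite _
  haveI : Fintype (Kd T) := Fintype.ofFinite _
  haveI : Fact (Nat.Prime 3) := ⟨Nat.prime_three⟩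
  obtain ⟨a, ha⟩ : ∃ a : W₁ →* ℂˣ, a ≠ 1 :=
    Fintype.exists_ne_of_one_lt_card (by rw [P.card_hom_W₁]; exact P.prime_q.one_lt) 1
  obtain ⟨d, hd, hd1, -, n, hn⟩ := P.theta_deg E ha
  set θ := P.theta μ a
  have hθ : IsIrrCharacter (Kd T) θ := P.theta_irr E a
  have hd1' : d ≠ 1 := by omega
  have hcd : charDegree θ = d := by
    have h := CharApps.deg_eq_of_isChar (isCharacter_of_irr hθ)
    rw [hd] at h
    exact_mod_cast h.symm
  have hKcard : Nat.card (Kd T) = 5 ^ 3 := P.card_Kd.trans hcard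
  have hd5 : d = 5 := by
    have h5 : IsPGroup 5 (Kd T) := IsPGroup.of_card hKcard
    have h := degree_sq_dvd_index (p := 5) (by norm_num) h5 (Z := (⊥ : Subgroup (Kd T))) bot_le
      ⟨θ, hθ⟩
    rw [show charDegree ((⟨θ, hθ⟩ : IrrCharacter (Kd T)) : Kd T → ℂ) = d from hcd, index_bot,
      hKcard] at h
    have hd2 : d ∣ 5 ^ 3 := (dvd_pow_self d two_ne_zero).trans h
    obtain ⟨i, hi3, rfl⟩ := (Nat.dvd_prime_pow (by norm_num)).mp hd2
    interval_cases i <;> simp_all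
  have F := P.psi_family hη hrow
  obtain ⟨z, hz⟩ := P.exists_z F hθ hd hd1'
  obtain ⟨L, hL1, hLinj, -, -, hL2⟩ := P.exists_reps
  obtain ⟨l₀, hl₀', l, hl', hll⟩ := Finset.one_lt_card.mp (show 1 < L.card by omega)
  have hl₀ := hL1 l₀ hl₀'
  have hl := hL1 l hl'
  have hne : P.zeta l₀ ≠ P.zeta l := fun e => hll (hLinj hl₀' hl' e)
  have hg := P.phi_gen (d := d) (isCharacter_of_irr hθ) hd l
  choose C hC using fun a' b => inner_int hg (hη.gen a' b)
  have hbeta : classInner (P.beta l₀) (P.Phi θ d l) = 0 := by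
    have h0 : ∀ m : Kd T →* ℂˣ, classInner (P.zeta m) (indFun (Kd T) θ) = 0 := fun m => by
      rw [← inner_conj, P.inner_ind_zeta hθ hd hd1' m, map_zero]
    rw [beta, Phi, P.tau_inner (P.alpha_class l₀) (P.alpha_one l₀) (P.alpha_of_notMem l₀)
      (isClassFunction_of_isGeneralized (P.phi_arg_gen (isCharacter_of_irr hθ) l)), alpha,
      Chars.inner_sub_left, Chars.inner_sub_right, Chars.inner_sub_right, Chars.inner_smul_right,
      Chars.inner_smul_right, h0 l₀, show indOne (Kd T) = P.zeta 1 from rfl, h0 1,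
      show P.zeta 1 = indOne (Kd T) from rfl, P.inner_indOne_zeta hl,
      P.inner_zeta hl₀ hl, if_neg hne]
    ring
  have hzsum : z = ∑ b, C 1 b := by
    have h := hz l₀ l hl₀ hl
    rw [if_neg hne, mul_zero, sub_zero] at h
    have h2 : classInner (P.psi η l₀) (P.Phi θ d l) = ((∑ b, C 1 b : ℤ) : ℂ) := by
      rw [psi, Chars.inner_sub_left, hbeta, sub_zero, inner_sum_left]
      push_cast
      refine Finset.sum_congr rfl fun b _ => ?_
      rw [← inner_conj, hC, map_intCast]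
    rw [h2] at h
    exact_mod_cast h.symm
  have h3z : (3 : ℤ) ∣ z := by
    obtain ⟨e, he⟩ : ∃ e : ℤ, δ a = e := by
      rcases E.sign a with h | h
      · exact ⟨1, by simp [h]⟩
      · exact ⟨-1, by simp [h]⟩
    rw [hzsum]
    refine Finset.dvd_sum fun b _ => ?_
    have h := P.residue E hη ha hd ⟨n, hn⟩ (r := 3) (by rw [hk]) (l := l) b (cb := 1) (Pb := C 1 b)
      (by rw [hrow l hl 1 b, if_pos rfl, Int.cast_one]) (hC 1 b) he
    simpa using h
  have hzb := P.z_bound hη F hθ hd hd1' (P.theta_invariant E a) hz hl C hC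
  rw [hv, hk, hd5] at hzb
  push_cast at hzb
  have hS : (0 : ℤ) ≤ ∑ a', ∑ b, C a' b ^ 2 :=
    Finset.sum_nonneg fun _ _ => Finset.sum_nonneg fun _ _ => sq_nonneg _
  have hz0 : z = 0 := by
    obtain ⟨w, rfl⟩ := h3z
    by_contra hw
    rcases lt_or_gt_of_ne (show w ≠ 0 by rintro rfl; exact hw rfl) with h | h <;> nlinarith
  obtain ⟨c, hc, hcθ, -⟩ := P.exists_coeff F hl₀
  have hceq : c = classInner (P.fres (P.psi η l₀)) fun _ => 1 := by
    have h1 := hc l hl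
    rw [if_neg hne] at h1
    rw [P.fres_psi_lin hη hrow hl₀ hl, if_neg (Ne.symm hne), add_zero, add_zero] at h1
    exact h1.symm
  have hfθ := hcθ θ d hθ hd z hz
  have h := P.row_ineq hη hrow hl₀ ({()} : Finset Unit) (fun _ => θ) (fun _ => 1) (by simp)
    (fun i _ i' _ => by
      rw [inner_irr_of_isIrr hθ hθ, if_pos rfl, if_pos (Subsingleton.elim i i'), Complex.ofReal_one])
    (fun i _ m => by
      rw [inner_irr_of_isIrr hθ (isIrrCharacter_linear m), if_neg]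
      intro e
      have h1 := congrFun e 1
      rw [hd, map_one, Units.val_one] at h1
      exact hd1' (by exact_mod_cast h1))
  rw [Finset.sum_singleton, div_one, hfθ, hz0, Int.cast_zero, zero_add, hd5, hceq, norm_mul,
    mul_pow, hv, hk] at h
  set x := classInner (P.fres (P.psi η l₀)) fun _ => 1
  have hx : x.re ^ 2 ≤ ‖x‖ ^ 2 := sq_le_sq.mpr (by simpa using Complex.abs_re_le_norm x)
  rw [Complex.norm_natCast] at h
  push_cast at h
  unfold outside at h
  rw [hk, hq] at h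
  norm_num at h
  nlinarith [sq_nonneg (50 * x.re + 3)]

end Pair

end CfsgLib.FT.StepA
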