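import Cfsg.Agent.Lib.FT.StepA.Family
import Cfsg.Agent.S1523

/-!
# Step A: a central subgroup of a `q`-group `T'`

When `T'` is a TI Sylow subgroup and the value of `ν l` is constant on the nonidentity elements of a
central subgroup `Z` below `T''`, that value gives `ν l` a common inner product with all the
functions induced from the nontrivial characters of `Z`.
-/

set_option autoImplicit false
set_option linter.style.haveILetI false
set_option linter.unusedSectionVars false

namespace CfsgLib.FT.StepA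

open _root_.Subgroup Cfsg CfsgLib.Chars CfsgLib.CharsMore CfsgLib.FT.PF13
open scoped ComplexConjugate

universe u

section Cent

variable {K : Type*} [Group K] [Fintype K] {Z : Subgroup K}

/-- The function induced from a character of a central subgroup. -/
noncomputable def cent (Z : Subgroup K) (ω : Z →* ℂˣ) : K → ℂ := fun x =>
  haveI := Classical.propDecidable (x ∈ Z)
  if h : x ∈ Z then (Z.index : ℂ) * (ω ⟨x, h⟩ : ℂ) else 0

theorem cent_coe (ω : Z →* ℂˣ) (z : Z) : cent Z ω z = (Z.index : ℂ) * (ω z : ℂ) := by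
  rw [cent, dif_pos z.2]

theorem inner_cent [Fintype Z] (f : K → ℂ) (ω : Z →* ℂˣ) :
    classInner f (cent Z ω) = classInner (fun z : Z => f z) fun z => (ω z : ℂ) := by
  classical
  rw [Chars.inner_def, Chars.inner_def]
  have hsum : ∑ x : K, f x * conj (cent Z ω x) =
      ∑ z : Z, f z * conj (cent Z ω z) := by
    rw [← Finset.sum_subtype (Finset.univ.filter fun x : K => x ∈ Z) (fun x => by simp)
      fun x : K => f x * conj (cent Z ω x)]
    refine (Finset.sum_subset (Finset.subset_univ _) fun x _ hx => ?_).symm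
    rw [cent, dif_neg fun h => hx (Finset.mem_filter.mpr ⟨Finset.mem_univ _, h⟩), map_zero,
      mul_zero]
  rw [hsum, Finset.mul_sum, Finset.mul_sum]
  refine Finset.sum_congr rfl fun z _ => ?_
  rw [cent_coe, map_mul, Complex.conj_natCast]
  have h : (Nat.card K : ℂ) = Nat.card Z * Z.index := by exact_mod_cast Z.card_mul_index.symm
  have h1 : (Nat.card Z : ℂ) ≠ 0 := Chars.card_ne_zero Z
  have h2 : (Z.index : ℂ) ≠ 0 := by exact_mod_cast index_ne_zero_of_finite (H := Z)
  rw [h]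
  field_simp

theorem cent_orth [Fintype Z] (ω ω' : Z →* ℂˣ) [Decidable (ω = ω')] :
    classInner (cent Z ω) (cent Z ω') = if ω = ω' then (Z.index : ℂ) else 0 := by
  rw [inner_cent]
  have e : (fun z : Z => cent Z ω z) = (Z.index : ℂ) • fun z => (ω z : ℂ) :=
    funext fun z => cent_coe ω z
  rw [e, Chars.inner_smul_left, PF13.inner_lin, mul_ite, mul_one, mul_zero]

theorem cent_linear [Fintype Z] {ω : Z →* ℂˣ} (hω : ω ≠ 1) {l : K →* ℂˣ}
    (hl : ∀ z ∈ Z, l z = 1) : classInner (cent Z ω) (fun x => (l x : ℂ)) = 0 := by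
  classical
  rw [← inner_conj, inner_cent,
    show (fun z : Z => (l z : ℂ)) = fun z => ((1 : Z →* ℂˣ) z : ℂ) from
      funext fun z => by rw [hl z z.2]; rfl,
    PF13.inner_lin, if_neg (Ne.symm hω), map_zero]

/-- An irreducible character is a multiple of a linear one on a central subgroup. -/
theorem exists_central_char [Fintype Z] (hZ : Z ≤ center K) {θ : K → ℂ}
    (hθ : IsIrrCharacter K θ) : ∃ ω : Z →* ℂˣ, ∀ z : Z, θ z = θ 1 * (ω z : ℂ) := by
  classical
  haveI : Fintype (Z →* ℂˣ) := Fintype.ofFinite _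
  haveI : Z.Normal := ⟨fun n hn g => by
    rwa [Subgroup.mem_center_iff.mp (hZ hn) g, mul_inv_cancel_right]⟩
  have hc : ∀ a b : Z, a * b = b * a := fun a b =>
    Subtype.ext (Subgroup.mem_center_iff.mp (hZ b.2) a)
  obtain ⟨ω, hω⟩ : ∃ ω : Z →* ℂˣ, classInner (fun z : Z => θ z) (fun z => (ω z : ℂ)) ≠ 0 := by
    by_contra h
    push Not at h
    have h1 := fourier hc (fun z : Z => θ z) 1
    simp only [h, zero_mul, Finset.sum_const_zero] at h1
    exact gen_one_ne_zero_of_norm_one (genChar_of_irr hθ) (by rw [inner_irr_of_isIrr hθ hθ, if_pos rfl]) h1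
  refine ⟨ω, fun z => ?_⟩
  have h := restrict_eq_mul_of_invariant Z hθ (isIrrCharacter_linear ω) (fun g n => by
    rw [show conjBy Z g n = n from Subtype.ext (by
      simp [Subgroup.mem_center_iff.mp (hZ n.2) g])]) hω
  have h1 := h 1
  rw [OneMemClass.coe_one, map_one, Units.val_one, mul_one] at h1
  rw [h z, ← h1]

theorem cent_eq_smul [Fintype Z] (hZ : Z ≤ center K) {θ : K → ℂ} (hθ : IsIrrCharacter K θ) {d : ℕ}
    (hd : θ 1 = d) (hdD : d ^ 2 = Z.index) {ω : Z →* ℂˣ} (hω : ∀ z : Z, θ z = θ 1 * (ω z : ℂ)) :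
    cent Z ω = (d : ℂ) • θ := by
  classical
  have h1 : classInner θ (cent Z ω) = d := by
    rw [inner_cent, show (fun z : Z => θ z) = (d : ℂ) • fun z => (ω z : ℂ) from
      funext fun z => by rw [hω z, hd]; rfl, Chars.inner_smul_left, PF13.inner_lin, if_pos rfl,
      mul_one]
  have h2 : classInner (cent Z ω) θ = d := by rw [← inner_conj, h1, Complex.conj_natCast]
  have h3 : classInner (cent Z ω - (d : ℂ) • θ) (cent Z ω - (d : ℂ) • θ) = 0 := by
    rw [Chars.inner_sub_left, Chars.inner_sub_right, Chars.inner_sub_right, Chars.inner_smul_left,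
      Chars.inner_smul_left, Chars.inner_smul_right, Chars.inner_smul_right, cent_orth, if_pos rfl,
      h1, h2, inner_irr_of_isIrr hθ hθ, if_pos rfl, ← hdD, Complex.conj_natCast]
    push_cast
    ring
  funext x
  exact sub_eq_zero.mp (congrFun ((inner_self_eq_zero_iff (φ := _)).mp h3) x)

end Cent

namespace Pair

variable {G : Type u} [Group G] {S T W₁ W₂ : Subgroup G} [Fintype G] (P : Pair S T W₁ W₂)
include P

theorem centralizer_le_of_TI (hTI : IsTISubset ((⁅T, T⁆ : Subgroup G) : Set G)) {x : G}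
    (hx : x ∈ (⁅T, T⁆ : Subgroup G)) (hx1 : x ≠ 1) : centralizer ({x} : Set G) ≤ T := by
  intro g hg
  by_contra hgT
  refine hx1 (hTI g (by rw [normalizer_derived P]; exact hgT) x hx ?_)
  rw [mem_centralizer_singleton_iff.mp hg, mul_inv_cancel_right]
  exact hx

variable [Fintype T]

/-- For a TI `T'` the average is the value. -/
theorem fres_of_TI (hTI : IsTISubset ((⁅T, T⁆ : Subgroup G) : Set G)) (θ : G → ℂ) {x : Kd T}
    (hx : x ≠ 1) : P.fres θ x = θ ((x : T) : G) := by
  have hx1 : ((x : T) : G) ≠ 1 := fun e => hx (Subtype.ext (Subtype.ext e))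
  show invDade (derA T) T (supportR T) θ (x : T) = _
  rw [invDade_of_mem (mem_derA_iff.mpr ⟨x.2, fun e => hx (Subtype.ext e)⟩),
    show supportR T ((x : T) : G) = ⊥ from
      supportR_of_le (P.centralizer_le_of_TI hTI x.2 hx1)]
  simp

/-- `Z` inside `T'`. -/
def inKd (_P : Pair S T W₁ W₂) (Z : Subgroup G) : Subgroup (Kd T) :=
  Z.comap (T.subtype.comp (Kd T).subtype)

theorem mem_inKd {Z : Subgroup G} {x : Kd T} : x ∈ P.inKd Z ↔ ((x : T) : G) ∈ Z := Iff.rfl

theorem index_inKd {Z : Subgroup G} (hZ : Z ≤ ⁅T, T⁆) :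
    (P.inKd Z).index = Z.relIndex ⁅T, T⁆ := by
  rw [inKd, Subgroup.index_comap, MonoidHom.range_comp, Subgroup.range_subtype]
  congr 1
  exact map_subgroupOf_eq_of_le P.derived_le

theorem card_inKd {Z : Subgroup G} (hZ : Z ≤ ⁅T, T⁆) : Nat.card (P.inKd Z) = Nat.card Z := by
  have h1 := (P.inKd Z).card_mul_index
  rw [P.index_inKd hZ, P.card_Kd, ← CfsgLib.FT.BG15.relIndex_mul_card_of_le hZ, mul_comm (Z.relIndex _)] at h1
  exact Nat.eq_of_mul_eq_mul_right (Nat.pos_of_ne_zero fun e => by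
    have := CfsgLib.FT.BG15.relIndex_mul_card_of_le hZ
    rw [e, zero_mul] at this
    exact Nat.card_pos.ne' this.symm) h1

/-- A linear character of `T'` is trivial on `T''`. -/
theorem lin_trivial {Z : Subgroup G} (hZ : Z ≤ ⁅⁅T, T⁆, ⁅T, T⁆⁆) (l : Kd T →* ℂˣ) {x : Kd T}
    (hx : x ∈ P.inKd Z) : l x = 1 := by
  have h := hZ hx
  rw [P.derived_two_eq_map] at h
  obtain ⟨y, hy, e⟩ := h
  rw [← (show y = x from Subtype.ext (Subtype.ext e))]
  exact Abelianization.commutator_subset_ker l hy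

/-- The properties of the central subgroup. -/
structure Central (T : Subgroup G) (Z : Subgroup G) : Prop where
  le_two : Z ≤ ⁅⁅T, T⁆, ⁅T, T⁆⁆
  ne_bot : Z ≠ ⊥
  normal : ∀ t ∈ T, ∀ z ∈ Z, t * z * t⁻¹ ∈ Z
  central : ∀ z ∈ Z, ∀ y ∈ (⁅T, T⁆ : Subgroup G), z * y = y * z
  card_centralizer : ∀ z ∈ Z, ∀ z' ∈ Z, z ≠ 1 → z' ≠ 1 →
    Nat.card ↥(T ⊓ centralizer ({z} : Set G)) = Nat.card ↥(T ⊓ centralizer ({z'} : Set G))

theorem inKd_le_center {Z : Subgroup G} (C : Central T Z) : P.inKd Z ≤ center (Kd T) := by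
  intro z hz
  exact Subgroup.mem_center_iff.mpr fun y => Subtype.ext (Subtype.ext (C.central _ hz _ y.2).symm)

variable {ν : (Kd T →* ℂˣ) → G → ℂ}

/-- The common coefficient at the characters induced from `Z`. -/
theorem exists_weight [Fintype (Kd T)] {Z : Subgroup G} [Fintype (P.inKd Z)] (C : Central T Z)
    (hq : IsPGroup (Nat.card W₁) ↥(⁅T, T⁆ : Subgroup G))
    (hTI : IsTISubset ((⁅T, T⁆ : Subgroup G) : Set G)) (F : LinFamily P ν) {l₀ : Kd T →* ℂˣ}
    (hl₀ : l₀ ≠ 1) (hconst : ∀ z ∈ Z, ∀ z' ∈ Z, z ≠ 1 → z' ≠ 1 → ν l₀ z = ν l₀ z') :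
    ∃ s : ℝ, (∀ ω : P.inKd Z →* ℂˣ, ω ≠ 1 → classInner (P.fres (ν l₀)) (cent (P.inKd Z) ω) =
        ((P.inKd Z).index : ℂ) * (s : ℂ)) ∧
      ∃ j : ℤ, classInner (P.fres (ν l₀)) (fun _ => 1) = (s : ℂ) + (j : ℂ) := by
  classical
  haveI := Fact.mk P.prime_q
  have hZle : Z ≤ ⁅T, T⁆ := C.le_two.trans (Subgroup.commutator_le_self _)
  obtain ⟨Q, hQ⟩ := exists_sylow_derived P hq
  have hN : normalizer ((Q : Subgroup G) : Set G) = T := by rw [hQ, normalizer_derived P]
  obtain ⟨w, hw, hw1⟩ := (Subgroup.bot_or_exists_ne_one Z).resolve_left C.ne_bot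
  obtain ⟨n, e, hn, he, hdvd⟩ : ∃ n e : ℤ, ν l₀ w = n ∧ ν l₀ 1 = e ∧
      (Nat.card (⁅T, T⁆ : Subgroup G) : ℤ) ∣ e - n := by
    have happ : ∀ ψ : G → ℂ, IsIrrCharacter G ψ →
        (∀ z ∈ Z, ∀ z' ∈ Z, z ≠ 1 → z' ≠ 1 → ψ z = ψ z') →
        ∃ n e : ℤ, ψ w = n ∧ ψ 1 = e ∧ (Nat.card (⁅T, T⁆ : Subgroup G) : ℤ) ∣ e - n := by
      intro ψ hψ hc
      have h := Cfsg.Agent.S1523.result (Nat.card W₁) Q (by rw [hQ]; exact hTI)
        (by rw [hN]; exact P.odd_card) Z C.ne_bot (by rw [hQ]; exact hZle)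
        (by rw [hN]; exact C.normal) (by rw [hQ]; exact C.central)
        (by rw [hN]; exact C.card_centralizer) ψ hψ hc w hw hw1
      rwa [hQ] at h
    rcases P.fam_irr F hl₀ with h | h
    · exact happ _ h hconst
    · obtain ⟨n, e, h1, h2, h3⟩ := happ _ h fun z hz z' hz' a b => by
        rw [Pi.neg_apply, Pi.neg_apply, hconst z hz z' hz' a b]
      refine ⟨-n, -e, ?_, ?_, by rw [← neg_sub_neg, neg_neg, neg_neg, dvd_sub_comm]; exact h3⟩
      · rw [Pi.neg_apply] at h1
        rw [Int.cast_neg, ← h1, neg_neg]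
      · rw [Pi.neg_apply] at h2
        rw [Int.cast_neg, ← h2, neg_neg]
  obtain ⟨j, hj⟩ := hdvd
  set f := P.fres (ν l₀) with hf
  set N := Nat.card (Kd T) with hNdef
  have hN0 : (N : ℂ) ≠ 0 := Chars.card_ne_zero (Kd T)
  refine ⟨-(n : ℝ) / N, fun ω hω => ?_, ?_⟩
  · have hval : ∀ z : P.inKd Z, f z = if z = 1 then 0 else (n : ℂ) := fun z => by
      by_cases hz : z = 1
      · rw [if_pos hz, hz, OneMemClass.coe_one, hf, P.fres_one]
      · have hz' : (z : Kd T) ≠ 1 := fun h => hz (Subtype.ext h)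
        rw [if_neg hz, hf, P.fres_of_TI hTI _ hz', ← hn]
        exact hconst _ z.2 _ hw (fun h => hz' (Subtype.ext (Subtype.ext h))) hw1
    have horth : classInner (fun _ : P.inKd Z => (1 : ℂ)) (fun z => (ω z : ℂ)) = 0 := by
      rw [show (fun _ : P.inKd Z => (1 : ℂ)) = fun z => ((1 : P.inKd Z →* ℂˣ) z : ℂ) from rfl,
        PF13.inner_lin, if_neg (Ne.symm hω)]
    rw [inner_cent, show (fun z : P.inKd Z => f z) =
        (n : ℂ) • (fun _ : P.inKd Z => (1 : ℂ)) - fun z => if z = 1 then (n : ℂ) else 0 from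
      funext fun z => by rw [hval]; by_cases hz : z = 1 <;> simp [hz],
      Chars.inner_sub_left, Chars.inner_smul_left, horth, mul_zero, zero_sub, Chars.inner_def,
      Finset.sum_eq_single 1 (fun z _ hz => by rw [if_neg hz, zero_mul]) (by simp), if_pos rfl,
      map_one, Units.val_one, map_one, mul_one]
    have h : (N : ℂ) = Nat.card (P.inKd Z) * ((P.inKd Z).index : ℂ) := by
      rw [hNdef]; exact_mod_cast (P.inKd Z).card_mul_index.symm
    have h1 : (Nat.card (P.inKd Z) : ℂ) ≠ 0 := Chars.card_ne_zero _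
    have h2 : ((P.inKd Z).index : ℂ) ≠ 0 := by
      exact_mod_cast index_ne_zero_of_finite (H := P.inKd Z)
    push_cast
    rw [h]
    field_simp
  · obtain ⟨m, hm⟩ := inner_int
      (show IsGeneralizedCharacter (Kd T)
        (fun x => ν l₀ (T.subtype.comp (Kd T).subtype x)) by
          obtain ⟨a, b, ha, hb, e⟩ := F.gen l₀ hl₀
          exact ⟨_, _, isCharacter_comp _ ha, isCharacter_comp _ hb, funext fun x => congrFun e _⟩)
      (mem_genChar.mp (genChar_of_isCharacter (isCharacter_one (G := Kd T))))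
    refine ⟨m - j, ?_⟩
    have hval : f = (fun x : Kd T => ν l₀ (T.subtype.comp (Kd T).subtype x)) -
        fun x => if x = 1 then (e : ℂ) else 0 := funext fun x => by
      by_cases hx : x = 1
      · rw [Pi.sub_apply, if_pos hx, hx, hf, P.fres_one, map_one, he, sub_self]
      · rw [Pi.sub_apply, if_neg hx, sub_zero, hf, P.fres_of_TI hTI _ hx]
        rfl
    rw [hval, Chars.inner_sub_left, hm, Chars.inner_def,
      Finset.sum_eq_single 1 (fun z _ hz => by rw [if_neg hz, zero_mul]) (by simp), if_pos rfl,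
      map_one, mul_one]
    have hj' : (e : ℂ) - n = (N : ℂ) * j := by
      rw [hNdef, P.card_Kd]; exact_mod_cast hj
    push_cast
    rw [← hNdef]
    field_simp
    linear_combination -hj'

end Pair

end CfsgLib.FT.StepA
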