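import Cfsg.Agent.Lib.FT.StepA.Basic
import Cfsg.Agent.Lib.FT.StepA.Generic
import Cfsg.Agent.Lib.FT.TypeICoherence
import Cfsg.Agent.Lib.CharsMore.Clifford

/-!
# Step A: the characters of `T` over `T'`

The functions induced from `T'`, the Dade map of `T'` without the identity, reciprocity, and the
linear characters of `T'`.
-/

set_option autoImplicit false
set_option linter.style.haveILetI false
set_option linter.unusedSectionVars false

namespace CfsgLib.FT.StepA

open _root_.Subgroup Cfsg CfsgLib.Chars CfsgLib.CharsMore CfsgLib.FT.PF13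
open scoped ComplexConjugate

universe u

variable {G : Type u} [Group G] {S T W₁ W₂ : Subgroup G}

/-- `T'` inside `T`. -/
def Kd (T : Subgroup G) : Subgroup T := (⁅T, T⁆ : Subgroup G).subgroupOf T

theorem mem_Kd {x : T} : x ∈ Kd T ↔ (x : G) ∈ (⁅T, T⁆ : Subgroup G) := Iff.rfl

instance Kd_normal (T : Subgroup G) : (Kd T).Normal :=
  normal_subgroupOf_of_le_normalizer
    (CfsgLib.OddOrder.le_normalizer_commutator Subgroup.le_normalizer Subgroup.le_normalizer)

theorem mem_derA_iff {x : T} : (x : G) ∈ derA T ↔ x ∈ Kd T ∧ x ≠ 1 := by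
  rw [derA, Set.mem_sdiff, Set.mem_singleton_iff, mem_Kd, OneMemClass.coe_eq_one]
  rfl

namespace Pair

variable [Fintype G] (P : Pair S T W₁ W₂)
include P

theorem card_Kd : Nat.card (Kd T) = Nat.card (⁅T, T⁆ : Subgroup G) :=
  Nat.card_congr (Subgroup.subgroupOfEquivOfLe P.derived_le).toEquiv

theorem index_Kd : (Kd T).index = Nat.card W₂ := by
  have h1 := (Kd T).card_mul_index
  rw [P.card_Kd, ← CfsgLib.FT.BG15.card_mul_card_of_isComplIn P.complT] at h1
  exact Nat.eq_of_mul_eq_mul_left Nat.card_pos h1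

theorem card_T : Nat.card T = Nat.card (⁅T, T⁆ : Subgroup G) * Nat.card W₂ :=
  (CfsgLib.FT.BG15.card_mul_card_of_isComplIn P.complT).symm

theorem odd_T : Odd (Nat.card T) := P.odd_card

theorem exists_decomp (x : T) : ∃ a ∈ Kd T, ∃ y : T, (y : G) ∈ W₂ ∧ x = a * y := by
  obtain ⟨a, ha, y, hy, e⟩ := P.complT.2.2.2 (x : G) x.2
  exact ⟨⟨a, P.derived_le ha⟩, ha, ⟨y, P.W₂_le_T hy⟩, hy, Subtype.ext e⟩

/-- The image under the Dade map of `(T' - {1}, T)`. -/
noncomputable abbrev tau (_P : Pair S T W₁ W₂) (α : T → ℂ) : G → ℂ :=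
  dadeIsometry (derA T) T (supportR T) α

variable [Fintype T]

/-- A class function on `T` vanishing off `T'` and at the identity is supported in `derA T`. -/
theorem supported_of {α : T → ℂ} (h1 : α 1 = 0) (h : ∀ x, x ∉ Kd T → α x = 0) (x : T)
    (hx : (x : G) ∉ derA T) : α x = 0 := by
  by_cases hK : x ∈ Kd T
  · have : x = 1 := by
      by_contra hne
      exact hx (mem_derA_iff.mpr ⟨hK, hne⟩)
    rw [this, h1]
  · exact h x hK

theorem tau_gen {α : T → ℂ} (hα : IsGeneralizedCharacter T α) (h1 : α 1 = 0)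
    (h : ∀ x, x ∉ Kd T → α x = 0) : IsGeneralizedCharacter G (P.tau α) :=
  isGeneralized_dadeIsometry P.dade_T hα (P.supported_of h1 h)

theorem tau_inner {α β : T → ℂ} (hα : IsClassFunction T α) (h1 : α 1 = 0)
    (h : ∀ x, x ∉ Kd T → α x = 0) (hβ : IsClassFunction T β) :
    classInner (P.tau α) (P.tau β) = classInner α β :=
  inner_dadeIsometry_dadeIsometry P.dade_T hα (P.supported_of h1 h) hβ

theorem tau_inner_one {α : T → ℂ} (hα : IsClassFunction T α) (h1 : α 1 = 0)
    (h : ∀ x, x ∉ Kd T → α x = 0) :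
    classInner (P.tau α) (fun _ => 1) = classInner α (fun _ => 1) := by
  rw [Pair.tau, inner_dade P.dade_T hα (P.supported_of h1 h) (fun _ _ => rfl),
    Chars.inner_def, Chars.inner_def]
  congr 1
  refine Finset.sum_congr rfl fun x _ => ?_
  by_cases hx : (x : G) ∈ derA T
  · rw [invDade_one hx]
  · rw [P.supported_of h1 h x hx, zero_mul, zero_mul]

/-- The restriction to `T'` of the average over the cosets `a R(a)`. -/
noncomputable def fres (_P : Pair S T W₁ W₂) (θ : G → ℂ) : Kd T → ℂ :=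
  fun x => invDade (derA T) T (supportR T) θ (x : T)

theorem fres_one (θ : G → ℂ) : P.fres θ 1 = 0 :=
  invDade_of_notMem (fun h => h.2 rfl) θ

theorem fres_class {θ : G → ℂ} (hθ : IsClassFunction G θ) : IsClassFunction (Kd T) (P.fres θ) :=
  fun a b => isClassFunction_invDade P.dade_T hθ (a : T) (b : T)

theorem fres_invariant {θ : G → ℂ} (hθ : IsClassFunction G θ) (y : T) (x : Kd T) :
    P.fres θ (conjBy (Kd T) y x) = P.fres θ x := by
  show invDade _ _ _ θ ((conjBy (Kd T) y x : Kd T) : T) = _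
  rw [coe_conjBy]
  exact isClassFunction_invDade P.dade_T hθ (x : T) y

/-- Reciprocity for a function induced from `T'`. -/
theorem inner_tau_ind [Fintype (Kd T)] {φ : Kd T → ℂ} (hφ : IsClassFunction (Kd T) φ)
    (h1 : φ 1 = 0) {θ : G → ℂ} (hθ : IsClassFunction G θ) :
    classInner θ (P.tau (indFun (Kd T) φ)) = classInner (P.fres θ) φ := by
  have hI : indFun (Kd T) φ 1 = 0 := by
    rw [indFun_one_apply, h1, mul_zero]
  rw [← inner_conj, Pair.tau, inner_dade P.dade_T (isClassFunction_indFun _ φ)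
    (P.supported_of hI fun x hx => indFun_eq_zero_of_notMem _ _ hx) hθ,
    inner_indFun (Kd T) φ (isClassFunction_invDade P.dade_T hθ), inner_conj]
  rfl

omit [Fintype T] in
/-- A Dade image from `T'` vanishes on the regular elements of `W₁ W₂`. -/
theorem tau_regular [Fintype T] {α : T → ℂ} (hα : IsClassFunction T α) (h1 : α 1 = 0)
    (h : ∀ x, x ∉ Kd T → α x = 0) (x y : G) (hx : x ∈ W₁) (hy : y ∈ W₂) (hx1 : x ≠ 1)
    (hy1 : y ≠ 1) : P.tau α (x * y) = 0 := by
  obtain ⟨V, hV⟩ := P.exists_typeP_T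
  have hmem : x * y ∈ T := T.mul_mem (P.W₁_le_T hx) (P.W₂_le_T hy)
  have hnd : x * y ∉ (⁅T, T⁆ : Subgroup G) := fun hd => hy1 (by
    have h2 : y ∈ W₂ ⊓ ⁅T, T⁆ := ⟨hy, by
      simpa using mul_mem (inv_mem (P.W₁_le_derived hx)) hd⟩
    rwa [P.W₂_inf_derived, mem_bot] at h2)
  have hA0 : x * y ∈ typeA0 T := by
    refine Or.inr ⟨fun hI => BG16.not_typeF_of_typeP hV hI.1, W₂, V, W₁, hV, 1, T.one_mem, x * y,
      sup_comm W₁ W₂ ▸ mul_mem_sup hx hy, fun hc => hnd ?_, fun hc => hnd (P.W₁_le_derived hc),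
      by group⟩
    have h2 : x ∈ W₂ ⊓ W₁ := ⟨by simpa using W₂.mul_mem hc (W₂.inv_mem hy), hx⟩
    rw [inf_comm, P.selfNorm.2.2.1, mem_bot] at h2
    exact absurd h2 hx1
  exact dade_apply_eq_zero_of_mem P.dade_T0 P.dade_T P.derA_subset_typeA0 hα (P.supported_of h1 h)
    (a := ⟨x * y, hmem⟩) hA0 fun hd => hnd hd.1

theorem three_le_card_W₁ : 3 ≤ Nat.card W₁ := by
  have h1 := P.prime_q.two_le
  have h2 : Odd (Nat.card W₁) := P.odd_card
  rcases h2 with ⟨j, hj⟩
  omega

theorem three_le_card_W₂ : 3 ≤ Nat.card W₂ := by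
  have h1 : Nat.card W₂ ≠ 1 := fun h => P.selfNorm.2.1 (Subgroup.eq_bot_of_card_eq _ h)
  have h0 : 0 < Nat.card W₂ := Nat.card_pos
  have h2 : Odd (Nat.card W₂) := P.odd_card
  rcases h2 with ⟨j, hj⟩
  omega

theorem isCyclic_W₁ : IsCyclic W₁ := by
  haveI := Fact.mk P.prime_q
  exact isCyclic_of_prime_card rfl

theorem isCyclic_W₂ : IsCyclic W₂ := P.decompT.cyclic

theorem card_hom_W₁ [Fintype (W₁ →* ℂˣ)] : Fintype.card (W₁ →* ℂˣ) = Nat.card W₁ := by
  classical
  haveI : Fintype W₁ := Fintype.ofFinite _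
  haveI := P.isCyclic_W₁
  rw [card_hom_of_comm fun a b => mul_comm' a b, Nat.card_eq_fintype_card]

theorem card_hom_W₂ [Fintype (W₂ →* ℂˣ)] : Fintype.card (W₂ →* ℂˣ) = Nat.card W₂ := by
  classical
  haveI : Fintype W₂ := Fintype.ofFinite _
  haveI := P.isCyclic_W₂
  rw [card_hom_of_comm fun a b => mul_comm' a b, Nat.card_eq_fintype_card]

/-! ### Linear characters of `T'` -/

theorem derived_two_eq_map :
    (⁅⁅T, T⁆, ⁅T, T⁆⁆ : Subgroup G) =
      (commutator (Kd T)).map ((T.subtype).comp (Kd T).subtype) := by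
  rw [commutator_def, Subgroup.map_commutator]
  congr 1 <;>
  · rw [← MonoidHom.range_eq_map, MonoidHom.range_comp, Subgroup.range_subtype]
    exact (map_subgroupOf_eq_of_le P.derived_le).symm

/-- A linear character of `T'` fixed by `x ∉ T'` is trivial. -/
theorem lin_fixed_eq_one {l : Kd T →* ℂˣ} {x : T} (hx : x ∉ Kd T)
    (h : ∀ b : Kd T, l (conjBy (Kd T) x b) = l b) : l = 1 := by
  obtain ⟨a, ha, y, hy, rfl⟩ := P.exists_decomp x
  have hy1 : (y : G) ≠ 1 := by
    intro e
    rw [show y = 1 from Subtype.ext e, mul_one] at hx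
    exact hx ha
  have hcy : ∀ b : Kd T, l (conjBy (Kd T) y b) = l b := by
    intro b
    have e : conjBy (Kd T) (a * y) b = ⟨a, ha⟩ * conjBy (Kd T) y b * ⟨a, ha⟩⁻¹ := by
      ext
      simp [mul_assoc]
    rw [← h b, e, map_mul, map_mul, mul_comm (l _) (l _), map_inv, mul_inv_cancel_right]
  let c : Kd T →* Kd T :=
    { toFun := conjBy (Kd T) y
      map_one' := by ext; simp
      map_mul' := fun u v => by ext; simp [mul_assoc] }
  let ψ : Abelianization (Kd T) →* Abelianization (Kd T) :=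
    Abelianization.map c / MonoidHom.id _
  have hψ : ∀ b : Kd T, ψ (Abelianization.of b) = Abelianization.of (conjBy (Kd T) y b * b⁻¹) :=
    fun b => by
      rw [map_mul, map_inv]
      exact div_eq_mul_inv _ _
  have hinj : Function.Injective ψ := by
    rw [injective_iff_map_eq_one]
    intro q hq
    obtain ⟨b, rfl⟩ := QuotientGroup.mk_surjective q
    change ψ (Abelianization.of b) = 1 at hq
    rw [hψ] at hq
    have h1 : conjBy (Kd T) y b * b⁻¹ ∈ commutator (Kd T) := (QuotientGroup.eq_one_iff _).mp hq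
    have h2 := mem_map_of_mem ((T.subtype).comp (Kd T).subtype) h1
    rw [← P.derived_two_eq_map] at h2
    have h3 := P.fixed_mem (Subgroup.commutator_le_self ⁅T, T⁆) P.W₁_le_derived_two
      (CfsgLib.OddOrder.le_normalizer_commutator P.le_normalizer_derived P.le_normalizer_derived)
      hy hy1 b.2 (by simpa using h2)
    rw [P.derived_two_eq_map] at h3
    obtain ⟨b', hb', e⟩ := h3
    exact (QuotientGroup.eq_one_iff b).mpr ((show b' = b from Subtype.ext (Subtype.ext e)) ▸ hb')
  refine MonoidHom.ext fun b => ?_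
  obtain ⟨q, hq⟩ := (Finite.injective_iff_surjective.mp hinj) (Abelianization.of b)
  obtain ⟨b₀, rfl⟩ := QuotientGroup.mk_surjective q
  change ψ (Abelianization.of b₀) = _ at hq
  rw [hψ] at hq
  have h4 := congrArg (Abelianization.lift l) hq
  rw [Abelianization.lift_apply_of, Abelianization.lift_apply_of, map_mul, hcy, map_inv,
    mul_inv_cancel] at h4
  exact h4.symm

end Pair

end CfsgLib.FT.StepA
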