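import Cfsg.Agent.Lib.FT.StepA.Constant
import Cfsg.Agent.S1517
import Cfsg.Agent.S1521

/-!
# Step A: families from coherence
-/

set_option autoImplicit false
set_option linter.style.haveILetI false
set_option linter.unusedSectionVars false

namespace CfsgLib.FT.StepA

open _root_.Subgroup Cfsg CfsgLib.Chars CfsgLib.CharsMore CfsgLib.FT.PF13
open scoped ComplexConjugate

universe u

namespace Pair

variable {G : Type u} [Group G] {S T W₁ W₂ : Subgroup G} [Fintype G] (P : Pair S T W₁ W₂)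
include P

variable [Fintype T] {μ : (W₁ →* ℂˣ) → (W₂ →* ℂˣ) → T → ℂ} {δ : (W₁ →* ℂˣ) → ℂ}
  {η : (W₁ →* ℂˣ) → (W₂ →* ℂˣ) → G → ℂ}

/-- A family from the coherence of the linear members. -/
theorem exists_family (E : Exc T W₁ W₂ μ δ) (hη : Grid W₁ W₂ η) :
    ∃ ν : (Kd T →* ℂˣ) → G → ℂ, LinFamily P ν := by
  classical
  obtain ⟨R, hR⟩ := P.exists_rsystem E hη
  obtain ⟨L, hL1, -, -, -, hL2⟩ := P.exists_reps
  obtain ⟨r, hr⟩ := Finset.card_pos.mp (by omega : 0 < L.card)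
  set Z : Set (T → ℂ) := {φ | ∃ l : Kd T →* ℂˣ, l ≠ 1 ∧ P.zeta l = φ} with hZ
  have hsys : IsCoherenceSystem Z P.tau R := coh_system_mono hR
    (by rintro _ ⟨l, hl, rfl⟩; exact P.zeta_mem hl) ⟨_, r, hL1 r hr, rfl⟩
    (by rintro _ ⟨l, hl, rfl⟩; exact ⟨l⁻¹, P.inv_ne_one hl, P.zeta_inv l⟩)
  obtain ⟨-, τ₁, h1, h2⟩ := Cfsg.Agent.S1517.result Z P.tau R hsys (by
    rintro _ ⟨l, -, rfl⟩ _ ⟨l', -, rfl⟩
    rw [P.zeta_one, P.zeta_one])
  exact ⟨_, P.coherent_family (E := Z) (fun l hl => ⟨l, hl, rfl⟩) h1 h2⟩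

/-- With `T'` nilpotent and not of prime power order the constant `z` is zero. -/
theorem exists_family_z_zero (E : Exc T W₁ W₂ μ δ) (hη : Grid W₁ W₂ η) (hV : IsOfTypeV T)
    (hq : ¬ IsPGroup (Nat.card W₁) ↥(⁅T, T⁆ : Subgroup G)) :
    ∃ ν : (Kd T →* ℂˣ) → G → ℂ, LinFamily P ν ∧
      ∀ (θ : Kd T → ℂ) (d : ℕ), IsIrrCharacter (Kd T) θ → θ 1 = d → d ≠ 1 →
        ∀ l₀ l : Kd T →* ℂˣ, l₀ ≠ 1 → l ≠ 1 → [Decidable (P.zeta l₀ = P.zeta l)] →
          classInner (ν l₀) (P.Phi θ d l) =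
            -((d : ℂ) * if P.zeta l₀ = P.zeta l then 1 else 0) := by
  classical
  obtain ⟨R, hR⟩ := P.exists_rsystem E hη
  haveI := P.nilpotent_Kd hV
  haveI : ((⊥ : Subgroup T).subgroupOf (Kd T)).Normal := ⟨fun n hn g => by
    simp only [mem_subgroupOf, mem_bot, OneMemClass.coe_eq_one] at hn
    simp [hn]⟩
  obtain ⟨-, τ₁, h1, h2⟩ := Cfsg.Agent.S1521.result (Kd T) P.solvable_Kd P.tau R hR P.odd_T ⊥ bot_le
    inferInstance _ rfl (by rw [sup_bot_eq]; exact P.derived_Kd_lt) P.Kd_lt_top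
    (by rw [sup_bot_eq]; exact P.frob_Kd) (Or.inr (Or.inr (Or.inl (by
      rintro ⟨p, m, hp, hm⟩
      rw [relIndex_bot_left, P.card_Kd] at hm
      have hdvd : Nat.card W₁ ∣ p ^ m := hm ▸ card_dvd_of_le P.W₁_le_derived
      have e := (Nat.prime_dvd_prime_iff_eq P.prime_q hp).mp (P.prime_q.dvd_of_dvd_pow hdvd)
      exact hq (IsPGroup.of_card (n := m) (by rw [hm, e]))))))
  set Sset := inducedIrrAbove (Kd T) ⊥
  refine ⟨_, P.coherent_family (E := Sset) (fun l hl => P.zeta_mem hl) h1 h2,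
    fun θ d hθ hd hd1 l₀ l hl₀ hl => ?_⟩
  intro _
  have hθ1 : θ ≠ fun _ => 1 := fun e => hd1 (by
    have hd' : (1 : ℂ) = d := by rw [e] at hd; exact hd
    exact_mod_cast hd'.symm)
  have hθS : indFun (Kd T) θ ∈ zspan Sset :=
    Submodule.subset_span ((mem_inducedIrrAbove_bot (Kd T) hθ).mpr hθ1)
  have hlS : ∀ m : Kd T →* ℂˣ, m ≠ 1 → P.zeta m ∈ zspan Sset := fun m hm =>
    Submodule.subset_span (P.zeta_mem hm)
  have harg : indFun (Kd T) θ - (d : ℂ) • P.zeta l ∈ zspan Sset := by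
    refine (Submodule.span ℤ Sset).sub_mem hθS ?_
    rw [show (d : ℂ) • P.zeta l = (d : ℤ) • P.zeta l by rw [zsmul_eq_cast]; norm_cast]
    exact (Submodule.span ℤ Sset).smul_mem _ (hlS l hl)
  show classInner (τ₁ (P.zeta l₀)) _ = _
  rw [Phi, ← h2 _ ⟨harg, fun x hx => by
    rw [show x = 1 by simpa using hx]; exact P.phi_arg_one hd l⟩,
    h1.2.2.1 _ (hlS l₀ hl₀) _ harg, Chars.inner_sub_right, Chars.inner_smul_right,
    ← inner_conj (φ := indFun (Kd T) θ), P.inner_ind_zeta hθ hd hd1 l₀, map_zero,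
    P.inner_zeta hl₀ hl, Complex.conj_natCast]
  ring

end Pair

end CfsgLib.FT.StepA
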