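import Cfsg.Agent.Lib.FT.StepA.TypeThreeFour
import Cfsg.Agent.Lib.FT.Route.FactsII
import Cfsg.Agent.Lib.FT.Route.StepB
import Cfsg.Agent.Lib.FT.TypeOne.Congr

/-!
# The mass of `B` in Types III and IV: `(q ^ k - 1)/(q - 1) ≤ |T' : T''|`

The coefficients of the averages of `η a 1 + η 1 b` on `B` over the characters of `B/B₀` are, up to
a common shift, integers constant on the orbits of `T'` and different on two orbits of size
`d = |T' : B|`.  With the side of Type II this contradicts the pair inequality unless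
`d = (q ^ k - 1)/(q - 1)`.
-/

set_option autoImplicit false
set_option linter.style.haveILetI false
set_option linter.unusedSectionVars false

namespace CfsgLib.FT.StepA

open _root_.Subgroup Cfsg CfsgLib.Chars CfsgLib.CharsMore CfsgLib.FT.PF13 CfsgLib.FT.Route
open CfsgLib.Blocks CfsgLib.BlockOrth
open scoped ComplexConjugate

universe u

/-- Bessel's inequality for the real parts. -/
theorem bessel_re {X : Type*} [Group X] [Fintype X] {ι : Type*} [Fintype ι] [DecidableEq ι]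
    (e : ι → X → ℂ) (he : ∀ i j, classInner (e i) (e j) = if i = j then 1 else 0) (f : X → ℂ) :
    ∑ i, (classInner f (e i)).re ^ 2 ≤ (classInner f f).re := by
  set c : ι → ℂ := fun i => classInner f (e i) with hc
  have h := inner_self_re_nonneg (f - ∑ i, c i • e i)
  have h1 : classInner f (∑ i, c i • e i) = ∑ i, c i * conj (c i) := by
    rw [inner_sum_right]
    refine Finset.sum_congr rfl fun i _ => ?_
    rw [Chars.inner_smul_right, mul_comm]
  have h2 : classInner (∑ i, c i • e i) f = ∑ i, c i * conj (c i) := by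
    rw [← inner_conj, h1, map_sum]
    refine Finset.sum_congr rfl fun i _ => ?_
    rw [map_mul, Complex.conj_conj, mul_comm]
  have h3 : classInner (∑ i, c i • e i) (∑ i, c i • e i) = ∑ i, c i * conj (c i) := by
    rw [inner_sum_left]
    refine Finset.sum_congr rfl fun i _ => ?_
    rw [Chars.inner_smul_left, inner_sum_right,
      Finset.sum_eq_single_of_mem i (Finset.mem_univ _) fun j _ hji => by
        rw [Chars.inner_smul_right, he, if_neg hji.symm, mul_zero],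
      Chars.inner_smul_right, he, if_pos rfl, mul_one]
  rw [Chars.inner_sub_left, Chars.inner_sub_right, Chars.inner_sub_right, h1, h2, h3] at h
  simp only [sub_self, sub_zero, Complex.sub_re, Complex.re_sum] at h
  refine le_trans (Finset.sum_le_sum fun i _ => ?_) (sub_nonneg.mp h)
  rw [Complex.mul_conj, Complex.ofReal_re, Complex.normSq_apply, sq]
  nlinarith [mul_self_nonneg (classInner f (e i)).im]

/-- The side of `T`: `q ((2 d + 1) ^ 2 + 1) ≤ 4 d M (r / 3 + 13 / 12 e)`. -/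
theorem side_arith_third {q d M e r : ℝ} (hq : 3 ≤ q) (hd : 6 ≤ d) (hM : 0 < M)
    (hr : q / (q - 1) ≤ r) (hdM : 3 * (d * (q - 1)) ≤ M) (he : q ≤ e * M) :
    q * ((2 * d + 1) ^ 2 + 1) ≤ 4 * d * M * (1 / 3 * r + 13 / 12 * e) := by
  have h1 : (2 * d + 1) ^ 2 + 1 ≤ 4 * d * (d + 13 / 12) := by nlinarith
  have hr' : q ≤ r * (q - 1) := (div_le_iff₀ (by linarith)).mp hr
  have hr0 : 0 ≤ r := le_trans (div_nonneg (by linarith) (by linarith)) hr
  have h2 : q * d ≤ 1 / 3 * r * M := by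
    nlinarith [mul_le_mul_of_nonneg_right hr' (show (0 : ℝ) ≤ d by linarith),
      mul_le_mul_of_nonneg_left hdM hr0]
  nlinarith [mul_le_mul_of_nonneg_left h1 (show (0 : ℝ) ≤ q by linarith),
    mul_le_mul_of_nonneg_left (add_le_add h2 (mul_le_mul_of_nonneg_left he
      (show (0 : ℝ) ≤ 13 / 12 by norm_num))) (show (0 : ℝ) ≤ 4 * d by linarith)]

theorem side_arith_one {q d M e r : ℝ} (hq : 3 ≤ q) (hd : 6 ≤ d) (hM : 0 < M)
    (hr : q / (q - 1) ≤ r) (hdM : d * (q - 1) ≤ M) (he : q ≤ e * M) :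
    q * ((2 * d + 1) ^ 2 + 1) ≤ 4 * d * M * (1 * r + 13 / 12 * e) := by
  have h1 : (2 * d + 1) ^ 2 + 1 ≤ 4 * d * (d + 13 / 12) := by nlinarith
  have hr' : q ≤ r * (q - 1) := (div_le_iff₀ (by linarith)).mp hr
  have hr0 : 0 ≤ r := le_trans (div_nonneg (by linarith) (by linarith)) hr
  have h2 : q * d ≤ r * M := by
    nlinarith [mul_le_mul_of_nonneg_right hr' (show (0 : ℝ) ≤ d by linarith),
      mul_le_mul_of_nonneg_left hdM hr0]
  nlinarith [mul_le_mul_of_nonneg_left h1 (show (0 : ℝ) ≤ q by linarith),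
    mul_le_mul_of_nonneg_left (add_le_add h2 (mul_le_mul_of_nonneg_left he
      (show (0 : ℝ) ≤ 13 / 12 by norm_num))) (show (0 : ℝ) ≤ 4 * d by linarith)]

/-- An odd quotient other than `1` is at least `3`, and a small index is small. -/
theorem three_mul_le_of_ne {q k d : ℕ} (hq : 3 ≤ q) (hqo : Odd q) (hk : 3 ≤ k) (hko : Odd k)
    (har : d ∣ (q ^ k - 1) / (q - 1) ∨ d ≤ ((q - 1) / 2) ^ (k - 1))
    (hne : d ≠ (q ^ k - 1) / (q - 1)) : 3 * (d * (q - 1)) ≤ q ^ k := by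
  rcases har with h | h
  · have hN : (q ^ k - 1) / (q - 1) = ∑ i ∈ Finset.range k, q ^ i :=
      (Nat.geomSum_eq (by omega) k).symm
    have hodd : Odd ((q ^ k - 1) / (q - 1)) := by
      rw [hN, Finset.odd_sum_iff_odd_card_odd,
        Finset.filter_true_of_mem (fun i _ => hqo.pow), Finset.card_range]
      exact hko
    obtain ⟨c, hc⟩ := h
    have hc1 : c ≠ 1 := fun e => hne (by rw [hc, e, mul_one])
    have hco : Odd c := hodd.of_dvd_nat (Dvd.intro_left _ hc.symm)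
    have hc3 : 3 ≤ c := by
      obtain ⟨j, hj⟩ := hco
      omega
    calc 3 * (d * (q - 1)) ≤ c * (d * (q - 1)) := Nat.mul_le_mul_right _ hc3
      _ = (q ^ k - 1) / (q - 1) * (q - 1) := by rw [hc]; ring
      _ ≤ q ^ k - 1 := Nat.div_mul_le_self _ _
      _ ≤ q ^ k := Nat.sub_le _ _
  · have h4 : 4 ≤ 2 ^ (k - 1) :=
      le_trans (by norm_num) (Nat.pow_le_pow_right (show 0 < 2 by norm_num) (show 2 ≤ k - 1 by omega))
    have h5 : 2 ^ (k - 1) * ((q - 1) / 2) ^ (k - 1) ≤ (q - 1) ^ (k - 1) := by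
      rw [← mul_pow]
      exact Nat.pow_le_pow_left (Nat.mul_div_le _ _) _
    calc 3 * (d * (q - 1)) ≤ 2 ^ (k - 1) * (((q - 1) / 2) ^ (k - 1) * (q - 1)) :=
          Nat.mul_le_mul (by omega) (Nat.mul_le_mul_right _ h)
      _ ≤ (q - 1) ^ (k - 1) * (q - 1) := by
          rw [← mul_assoc]; exact Nat.mul_le_mul_right _ h5
      _ = (q - 1) ^ k := by rw [← pow_succ, Nat.sub_add_cancel (by omega)]
      _ ≤ q ^ k := Nat.pow_le_pow_left (Nat.sub_le _ _) _

variable {G : Type u} [Group G]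

section Region

variable [Fintype G] {A : Set G} {L : Subgroup G} {R : G → Subgroup G}

/-- The mass on a Dade support is at least the mass of the averages. -/
theorem mass_dade_ge (hD : DadeHypothesis A L R) [Fintype L] {f : G → ℂ} (hf : IsClassFunction G f)
    {RT : Finset G} (hRT : ∀ g, g ∈ RT ↔ g ∈ dadeSupp A R) :
    (Nat.card G : ℝ) * ∑ x : L, (‖invDade A L R f x‖ ^ 2 - (invDade A L R f x).re) ≤
      (Nat.card L : ℝ) * mass f (-1) RT := by
  classical
  set F := invDade A L R f with hF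
  let α : L → ℂ := fun x => if (x : G) ∈ A then 1 else 0
  have hα : IsClassFunction L α := fun x l => if_congr (conj_mem_iff hD) rfl rfl
  have hαA : ∀ x : L, (x : G) ∉ A → α x = 0 := fun x hx => if_neg hx
  have hlin := inner_dade hD hα hαA hf
  have e1 : ∀ g, dadeIsometry A L R α g * conj (f g) = if g ∈ RT then conj (f g) else 0 := by
    intro g
    by_cases hg : g ∈ RT
    · obtain ⟨a, ha, x, u, hu, e⟩ := (hRT g).mp hg
      rw [dadeIsometry_apply hD hα ⟨a, hD.subset ha⟩ ha hu e, if_pos hg,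
        show α ⟨a, hD.subset ha⟩ = 1 from if_pos ha, one_mul]
    · rw [dadeIsometry_eq_zero hD (fun h => hg ((hRT g).mpr h)), zero_mul, if_neg hg]
  have e2 : ∀ x : L, α x * conj (F x) = conj (F x) := by
    intro x
    by_cases hx : (x : G) ∈ A
    · rw [show α x = 1 from if_pos hx, one_mul]
    · rw [hF, invDade_of_notMem hx, map_zero, mul_zero]
  rw [Chars.inner_def, Chars.inner_def, Finset.sum_congr rfl fun g _ => e1 g,
    Finset.sum_congr rfl fun x _ => e2 x] at hlin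
  have hG : (0 : ℝ) < Nat.card G := by exact_mod_cast Nat.card_pos
  have hL : (0 : ℝ) < Nat.card L := by exact_mod_cast Nat.card_pos
  have hlin' : (Nat.card G : ℝ) * ∑ x : L, (F x).re = (Nat.card L : ℝ) * ∑ g ∈ RT, (f g).re := by
    have h := congrArg Complex.re hlin
    rw [← Finset.sum_filter, Finset.filter_mem_eq_inter, Finset.univ_inter] at h
    simp only [show ∀ n : ℕ, ((n : ℂ))⁻¹ = (((n : ℝ)⁻¹ : ℝ) : ℂ) from fun n => by push_cast; rfl,
      Complex.re_ofReal_mul, Complex.re_sum, Complex.conj_re] at h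
    field_simp at h
    linarith
  have hsq := norm_invDade_le hD hf
  rw [inner_self_eq, Complex.ofReal_re, show dadeSupp A R = ↑RT from Set.ext fun g => (hRT g).symm,
    finsum_mem_coe_finset, ← hF] at hsq
  have hsq' : (Nat.card G : ℝ) * ∑ x : L, ‖F x‖ ^ 2 ≤ (Nat.card L : ℝ) * ∑ g ∈ RT, ‖f g‖ ^ 2 := by
    have h := mul_le_mul_of_nonneg_left hsq (mul_pos hG hL).le
    calc (Nat.card G : ℝ) * ∑ x : L, ‖F x‖ ^ 2 =
          (Nat.card G : ℝ) * Nat.card L * ((Nat.card L : ℝ)⁻¹ * ∑ x : L, ‖F x‖ ^ 2) := by field_simp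
      _ ≤ _ := h
      _ = _ := by field_simp
  rw [Finset.sum_sub_distrib, mul_sub, mass, Finset.sum_add_distrib, ← Finset.mul_sum, mul_add]
  linarith

end Region

/-- `R(x)` depends only on the centraliser of `x`. -/
theorem supportR_congr (M : Subgroup G) {x y : G}
    (h : centralizer ({x} : Set G) = centralizer ({y} : Set G)) :
    supportR M x = supportR M y := by
  classical
  have aux : ∀ C D : Subgroup G, C = D →
      (if h : ¬ C ≤ M ∧ ∃! L : Subgroup G, IsCoatom L ∧ C ≤ L then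
        fittingHallOf (Classical.choose h.2.exists) ⊓ C else ⊥) =
      if h : ¬ D ≤ M ∧ ∃! L : Subgroup G, IsCoatom L ∧ D ≤ L then
        fittingHallOf (Classical.choose h.2.exists) ⊓ D else ⊥ := by
    rintro C D rfl
    rfl
  unfold supportR
  exact aux _ _ h

theorem centralizer_pow_eq [Finite G] {a : G} {j : ℕ} (hj : j.Coprime (Nat.card G)) :
    centralizer ({a ^ j} : Set G) = centralizer ({a} : Set G) := by
  ext c
  rw [mem_centralizer_singleton_iff, mem_centralizer_singleton_iff]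
  constructor
  · intro h
    have h' : (c * a * c⁻¹) ^ j = a ^ j := by rw [conj_pow, h, mul_inv_cancel_right]
    exact mul_inv_eq_iff_eq_mul.mp ((powCoprime hj.symm).injective h')
  · exact fun h => ((show Commute c a from h).pow_right j).eq

namespace Pair

variable [Fintype G] {S T W₁ W₂ B B₀ : Subgroup G} (P : Pair S T W₁ W₂)
include P

theorem conj_mem_B (hB : QuotData T W₁ W₂ B B₀) : ∀ x ∈ T, ∀ a ∈ (B : Set G) \ {1},
    x * a * x⁻¹ ∈ (B : Set G) \ {1} := fun x hx a ha =>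
  ⟨(mem_normalizer_iff.mp (hB.normal_B hx) a).mp ha.1, fun e => ha.2 (conj_eq_one_iff.mp e)⟩

theorem dade_B (hB : QuotData T W₁ W₂ B B₀) :
    DadeHypothesis ((B : Set G) \ {1}) T (supportR T) :=
  dadeHypothesis_subset P.dade_T0
    (fun _ ha => P.derA_subset_typeA0 ⟨hB.B_le ha.1, ha.2⟩) (P.conj_mem_B hB)

theorem closed_suppB (hB : QuotData T W₁ W₂ B B₀) {RT : Finset G}
    (hRT : ∀ g, g ∈ RT ↔ g ∈ dadeSupp ((B : Set G) \ {1}) (supportR T)) : Closed RT := by
  intro j hj g hg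
  obtain ⟨a, ha, x, u, hu, e⟩ := (hRT g).mp hg
  have hau : Commute a u := (mem_centralizer_singleton_iff.mp
    ((P.dade_B hB).le_centralizer a ha hu)).symm
  refine (hRT _).mpr ⟨a ^ j, ⟨B.pow_mem ha.1 j, fun h1 => ha.2 ?_⟩, x, u ^ j, ?_, ?_⟩
  · exact (powCoprime hj.symm).injective (show a ^ j = 1 ^ j by rw [one_pow]; exact h1)
  · rw [supportR_congr T (centralizer_pow_eq hj)]
    exact pow_mem hu j
  · rw [← conj_pow, e, hau.mul_pow]

theorem disjoint_suppB_regSet (hB : QuotData T W₁ W₂ B B₀) {RT : Finset G}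
    (hRT : ∀ g, g ∈ RT ↔ g ∈ dadeSupp ((B : Set G) \ {1}) (supportR T)) :
    Disjoint RT (regSet W₁ W₂) := by
  rw [Finset.disjoint_left]
  intro g hg hgW
  obtain ⟨z, hz⟩ := mem_conjSet.mp hgW
  obtain ⟨x, hx, hx1, y, hy, hy1, e⟩ := mem_regFin.mp hz
  obtain ⟨V, hV⟩ := P.exists_typeP_T
  obtain ⟨hm, hn⟩ := regFin_subset P.selfNorm (mem_regFin.mpr ⟨x, hx, hx1, y, hy, hy1, rfl⟩)
  have hA0 : x * y ∈ typeA0 T := Or.inr ⟨fun h => BG16.not_typeF_of_typeP hV h.1, W₂, V, W₁, hV, 1,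
    T.one_mem, x * y, by rwa [sup_comm], fun h => hn (Or.inr h), fun h => hn (Or.inl h), by group⟩
  obtain ⟨b, hb, hw⟩ := (hRT g).mp hg
  obtain ⟨l, hl, hle⟩ := dadeWit_fusion P.dade_T0 (P.derA_subset_typeA0 ⟨hB.B_le hb.1, hb.2⟩) hA0 hw
    ⟨z, 1, one_mem _, by rw [mul_one]; exact e⟩
  have hxy : x * y ∈ B := hle ▸ (P.conj_mem_B hB l hl b hb).1
  have : y ∈ W₂ ⊓ ⁅T, T⁆ := ⟨hy, by
    simpa using mul_mem (inv_mem (P.W₁_le_derived hx)) (hB.B_le hxy)⟩
  rw [P.W₂_inf_derived, mem_bot] at this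
  exact hy1 this

/-- The centraliser of a regular element meets `R(w)` trivially. -/
theorem fix_supportR (hB : QuotData T W₁ W₂ B B₀) {w y u : G} (hw : w ∈ W₁) (hw1 : w ≠ 1)
    (hy : y ∈ W₂) (hy1 : y ≠ 1) (hu : u ∈ supportR T w) (huy : y * u = u * y) : u = 1 := by
  have hwA : w ∈ (B : Set G) \ {1} := ⟨hB.W₁_le hw, hw1⟩
  have hD := P.dade_B hB
  have huw := mem_centralizer_singleton_iff.mp (hD.le_centralizer w hwA hu)
  have hreg := regFin_subset P.selfNorm (mem_regFin.mpr ⟨w, hw, hw1, y, hy, hy1, rfl⟩)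
  have huW : u ∈ W₁ ⊔ W₂ := by
    by_contra hc
    refine regularPart_TI P.selfNorm u hc _ hreg ?_
    rwa [show u * (w * y) * u⁻¹ = w * y by
      rw [← mul_assoc, huw, mul_assoc w u y, ← huy, ← mul_assoc, mul_inv_cancel_right]]
  have h : u ∈ supportR T w ⊓ (T ⊓ centralizer ({w} : Set G)) :=
    ⟨hu, sup_le P.W₁_le_T P.W₂_le_T huW, hD.le_centralizer w hwA hu⟩
  rwa [hD.inf_eq_bot w hwA, mem_bot] at h

end Pair

section Coefficients

variable {T : Subgroup G}

/-- Conjugation of a character of a normal subgroup. -/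
noncomputable def cnjChar {N : Subgroup T} [N.Normal] (t : T) (μ : N →* ℂˣ) : N →* ℂˣ :=
  μ.comp (MulAut.conjNormal t).toMonoidHom

theorem cnjChar_apply {N : Subgroup T} [N.Normal] (t : T) (μ : N →* ℂˣ) (b : N) :
    cnjChar t μ b = μ (MulAut.conjNormal t b) := rfl

theorem cnjChar_cnjChar {N : Subgroup T} [N.Normal] (s t : T) (μ : N →* ℂˣ) :
    cnjChar t (cnjChar s μ) = cnjChar (s * t) μ :=
  MonoidHom.ext fun b => by
    rw [cnjChar_apply, cnjChar_apply, cnjChar_apply, map_mul, MulAut.mul_apply]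

theorem cnjChar_one {N : Subgroup T} [N.Normal] (μ : N →* ℂˣ) : cnjChar (1 : T) μ = μ :=
  MonoidHom.ext fun b => by rw [cnjChar_apply, map_one, MulAut.one_apply]

variable [Fintype G] {S W₁ W₂ B B₀ : Subgroup G} (P : Pair S T W₁ W₂)
  (hB : QuotData T W₁ W₂ B B₀)

/-- Trivial on `B₀`. -/
def OffB₀ (B₀ : Subgroup G) {N : Subgroup T} (μ : N →* ℂˣ) : Prop :=
  ∀ b : N, ((b : T) : G) ∈ B₀ → μ b = 1

include hB in
theorem offB₀_cnj [(B.subgroupOf T).Normal] {μ : B.subgroupOf T →* ℂˣ} (hμ : OffB₀ B₀ μ) (t : T) :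
    OffB₀ B₀ (cnjChar t μ) := fun b hb => by
  refine hμ _ ?_
  show ((MulAut.conjNormal t b : T) : G) ∈ B₀
  rw [MulAut.conjNormal_apply]
  exact (mem_normalizer_iff.mp (hB.normal_B₀ t.2) _).mp hb

include hB in
/-- `B/B₀` is abelian. -/
theorem comm_quot [(B.subgroupOf T).Normal] [((B₀.subgroupOf T).subgroupOf (B.subgroupOf T)).Normal]
    (u v : B.subgroupOf T ⧸ (B₀.subgroupOf T).subgroupOf (B.subgroupOf T)) : u * v = v * u := by
  induction u using QuotientGroup.induction_on with | H u =>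
  induction v using QuotientGroup.induction_on with | H v =>
  rw [← QuotientGroup.mk_mul, ← QuotientGroup.mk_mul, QuotientGroup.eq]
  show ((((u * v)⁻¹ * (v * u) : B.subgroupOf T) : T) : G) ∈ B₀
  have := hB.comm _ (inv_mem (mem_subgroupOf.mp v.2)) _ (inv_mem (mem_subgroupOf.mp u.2))
  simpa [mul_assoc] using this

include P hB in
/-- A `W₂`-invariant character of `B/B₀` with a prescribed restriction to `W₁`. -/
theorem exists_invariant [(B.subgroupOf T).Normal] (a₀ : W₁ →* ℂˣ) :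
    ∃ lam : B.subgroupOf T →* ℂˣ, OffB₀ B₀ lam ∧
      (∀ y : T, (y : G) ∈ W₂ → cnjChar y lam = lam) ∧
      ∀ w, ∀ hw : w ∈ W₁, lam ⟨⟨w, P.W₁_le_T hw⟩, hB.W₁_le hw⟩ = a₀ ⟨w, hw⟩ ^ Nat.card W₂ := by
  classical
  set Bs := B.subgroupOf T
  set N : Subgroup Bs := (B₀.subgroupOf T).subgroupOf Bs
  haveI : (B₀.subgroupOf T).Normal := normal_subgroupOf_of_le_normalizer hB.normal_B₀
  haveI : N.Normal := inferInstance
  have hc : ∀ u v : Bs ⧸ N, u * v = v * u := comm_quot hB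
  letI : CommGroup (Bs ⧸ N) := { (inferInstance : Group (Bs ⧸ N)) with mul_comm := hc }
  let ι : W₁ →* Bs :=
    { toFun := fun w => ⟨⟨w, P.W₁_le_T w.2⟩, hB.W₁_le w.2⟩
      map_one' := rfl
      map_mul' := fun _ _ => rfl }
  let ψ : W₁ →* Bs ⧸ N := (QuotientGroup.mk' N).comp ι
  have hψ : Function.Injective ψ := by
    refine (injective_iff_map_eq_one ψ).mpr fun w hw => ?_
    have h : (w : G) ∈ W₁ ⊓ B₀ := ⟨w.2, (QuotientGroup.eq_one_iff (ι w)).mp hw⟩
    rw [hB.W₁_disj, mem_bot] at h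
    exact Subtype.ext h
  obtain ⟨χ, hχ⟩ := MonoidHom.domRestrict_surjective (M := ℂ) ψ.range
    (a₀.comp (MonoidHom.ofInjective hψ).symm.toMonoidHom)
  set lam₀ : Bs →* ℂˣ := χ.comp (QuotientGroup.mk' N) with hlam₀
  have hlam₀w : ∀ w : W₁, lam₀ (ι w) = a₀ w := by
    intro w
    have h := DFunLike.congr_fun hχ (MonoidHom.ofInjective hψ w)
    simpa [hlam₀, ψ, MonoidHom.domRestrictHom, MonoidHom.ofInjective_apply] using h
  have h0 : OffB₀ B₀ lam₀ := fun b hb => by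
    show χ (QuotientGroup.mk' N b) = 1
    rw [QuotientGroup.mk'_apply, (QuotientGroup.eq_one_iff b).mpr hb, map_one]
  haveI : Fintype W₂ := Fintype.ofFinite _
  let yT : W₂ → T := fun y => ⟨y, P.W₂_le_T y.2⟩
  let lam : Bs →* ℂˣ := ∏ y : W₂, cnjChar (yT y) lam₀
  have hlam : ∀ b, lam b = ∏ y : W₂, cnjChar (yT y) lam₀ b := fun b =>
    MonoidHom.finsetProd_apply _ _ _
  refine ⟨lam, fun b hb => ?_, fun z hz => ?_, fun w hw => ?_⟩
  · rw [hlam]
    exact Finset.prod_eq_one fun y _ => offB₀_cnj hB h0 (yT y) b hb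
  · refine MonoidHom.ext fun b => ?_
    rw [cnjChar_apply, hlam, hlam]
    refine Fintype.prod_equiv (Equiv.mulRight (⟨z, hz⟩ : W₂)) _ _ fun y => ?_
    rw [← cnjChar_apply z (cnjChar (yT y) lam₀), cnjChar_cnjChar]
    rfl
  · rw [hlam, Finset.prod_eq_pow_card fun y _ => ?_, Finset.card_univ, ← Nat.card_eq_fintype_card]
    rw [cnjChar_apply, ← hlam₀w ⟨w, hw⟩]
    refine congrArg lam₀ (Subtype.ext (Subtype.ext ?_))
    rw [MulAut.conjNormal_apply]
    show (y : G) * w * (y : G)⁻¹ = w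
    rw [← P.commute_W hw y.2, mul_inv_cancel_right]

include P hB in
theorem card_offB₀ [(B.subgroupOf T).Normal]
    [Fintype {μ : B.subgroupOf T →* ℂˣ // OffB₀ B₀ μ}] :
    Fintype.card {μ : B.subgroupOf T →* ℂˣ // OffB₀ B₀ μ} = Nat.card W₁ ^ Nat.card W₂ := by
  classical
  set N : Subgroup (B.subgroupOf T) := (B₀.subgroupOf T).subgroupOf (B.subgroupOf T)
  haveI : (B₀.subgroupOf T).Normal := normal_subgroupOf_of_le_normalizer hB.normal_B₀
  haveI : N.Normal := inferInstance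
  have hc : ∀ u v : (B.subgroupOf T) ⧸ N, u * v = v * u := comm_quot hB
  haveI : Fintype ((B.subgroupOf T) ⧸ N) := Fintype.ofFinite _
  haveI : Fintype (((B.subgroupOf T) ⧸ N) →* ℂˣ) := Fintype.ofFinite _
  let e : {μ : (B.subgroupOf T) →* ℂˣ // OffB₀ B₀ μ} ≃ (((B.subgroupOf T) ⧸ N) →* ℂˣ) :=
    { toFun := fun μ => QuotientGroup.lift N μ.1 fun b hb => μ.2 b hb
      invFun := fun χ => ⟨χ.comp (QuotientGroup.mk' N), fun b hb => by
        rw [MonoidHom.comp_apply, QuotientGroup.mk'_apply, (QuotientGroup.eq_one_iff b).mpr hb,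
          map_one]⟩
      left_inv := fun μ => Subtype.ext (MonoidHom.ext fun b => rfl)
      right_inv := fun χ => MonoidHom.ext fun u => by
        induction u using QuotientGroup.induction_on with | H u => rfl }
  rw [← Nat.card_eq_fintype_card, Nat.card_congr e, Nat.card_eq_fintype_card, card_hom_of_comm hc, ← Nat.card_eq_fintype_card, ← Subgroup.index, ← hB.card_quot]
  exact relIndex_subgroupOf (hB.B_le.trans P.derived_le)

include P hB in
/-- A `W₂`-invariant nontrivial character of `B/B₀` has `d` conjugates under `T'`, and two such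
characters lie in different orbits. -/
theorem exists_orbit [(B.subgroupOf T).Normal]
    (μ : {μ : B.subgroupOf T →* ℂˣ // OffB₀ B₀ μ}) (hne : μ.1 ≠ 1)
    (hinv : ∀ y : T, (y : G) ∈ W₂ → cnjChar y μ.1 = μ.1) :
    ∃ O : Finset {μ : B.subgroupOf T →* ℂˣ // OffB₀ B₀ μ},
      O.card = B.relIndex ⁅T, T⁆ ∧ (∀ ν ∈ O, ∃ t : T, cnjChar t μ.1 = ν.1) ∧
      (∀ t : T, (t : G) ∈ (⁅T, T⁆ : Subgroup G) → ∀ ν : {μ : B.subgroupOf T →* ℂˣ // OffB₀ B₀ μ},
        cnjChar t μ.1 = ν.1 → ν ∈ O) ∧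
      (∀ ν ∈ O, ν.1 ≠ 1) ∧
      ∀ ν ∈ O, (∀ y : T, (y : G) ∈ W₂ → cnjChar y ν.1 = ν.1) → ν = μ := by
  classical
  set K : Subgroup G := ⁅T, T⁆ with hK
  have hKT : K ≤ T := P.derived_le
  let e := subgroupOfEquivOfLe (hB.B_le.trans hKT)
  have hstab : ∀ x, ∀ hx : x ∈ K, cnjChar (⟨x, hKT hx⟩ : T) μ.1 = μ.1 → x ∈ B := by
    intro x hx h
    refine hB.stab (μ.1.comp e.symm.toMonoidHom) (fun b hb => μ.2 _ hb) (fun h1 => hne ?_) ?_ x hx ?_
    · refine MonoidHom.ext fun b => ?_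
      have := DFunLike.congr_fun h1 (e b)
      simpa using this
    · intro y hy b c hc
      have h' := DFunLike.congr_fun (hinv ⟨y, P.W₂_le_T hy⟩ hy) (e.symm b)
      rw [cnjChar_apply] at h'
      refine Eq.trans (congrArg μ.1 (Subtype.ext (Subtype.ext ?_))) h'
      show (c : G) = _
      rw [MulAut.conjNormal_apply]
      exact hc
    · intro b c hc
      have h' := DFunLike.congr_fun h (e.symm b)
      rw [cnjChar_apply] at h'
      refine Eq.trans (congrArg μ.1 (Subtype.ext (Subtype.ext ?_))) h'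
      show (c : G) = _
      rw [MulAut.conjNormal_apply]
      exact hc
  have hfix : ∀ b, ∀ hb : b ∈ B, cnjChar (⟨b, hB.B_le.trans hKT hb⟩ : T) μ.1 = μ.1 := by
    intro b hb
    refine MonoidHom.ext fun z => ?_
    rw [cnjChar_apply, show MulAut.conjNormal (⟨b, hB.B_le.trans hKT hb⟩ : T) z =
      (⟨⟨b, hB.B_le.trans hKT hb⟩, hb⟩ : B.subgroupOf T) * z * (⟨⟨b, hB.B_le.trans hKT hb⟩, hb⟩)⁻¹
        from Subtype.ext (by rw [MulAut.conjNormal_apply]; rfl),
      map_mul, map_mul, map_inv, mul_comm (μ.1 _), mul_inv_cancel_right]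
  let toT : K → T := fun x => ⟨x, hKT x.2⟩
  have hkey : ∀ x y : K, cnjChar (toT x)⁻¹ μ.1 = cnjChar (toT y)⁻¹ μ.1 ↔
      x⁻¹ * y ∈ B.subgroupOf K := by
    intro x y
    constructor
    · intro h
      refine hstab _ (x⁻¹ * y).2 ?_
      have h' := congrArg (cnjChar (toT y)) h
      rw [cnjChar_cnjChar, cnjChar_cnjChar, inv_mul_cancel, cnjChar_one] at h'
      exact h'
    · intro h
      have h' := congrArg (cnjChar (toT y)⁻¹) (hfix _ h)
      rw [cnjChar_cnjChar] at h'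
      refine Eq.trans ?_ h'
      congr 1
      exact Subtype.ext (by simp [toT])
  let g : K ⧸ B.subgroupOf K → {μ : B.subgroupOf T →* ℂˣ // OffB₀ B₀ μ} :=
    Quotient.lift (fun x => ⟨cnjChar (toT x)⁻¹ μ.1, offB₀_cnj hB μ.2 _⟩) fun x y h =>
      Subtype.ext ((hkey x y).mpr (QuotientGroup.leftRel_apply.mp h))
  have hg : Function.Injective g := by
    intro u v
    induction u using QuotientGroup.induction_on with | H u =>
    induction v using QuotientGroup.induction_on with | H v =>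
    intro h
    exact QuotientGroup.eq.mpr ((hkey u v).mp (congrArg Subtype.val h))
  haveI : Fintype (K ⧸ B.subgroupOf K) := Fintype.ofFinite _
  refine ⟨Finset.univ.image g, ?_, fun ν hν => ?_, fun t ht ν e => ?_, fun ν hν => ?_,
    fun ν hν hνinv => ?_⟩
  · rw [Finset.card_image_of_injective _ hg, Finset.card_univ, ← Nat.card_eq_fintype_card]
    rfl
  · obtain ⟨u, -, rfl⟩ := Finset.mem_image.mp hν
    induction u using QuotientGroup.induction_on with | H u =>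
    exact ⟨(toT u)⁻¹, rfl⟩
  · refine Finset.mem_image.mpr ⟨QuotientGroup.mk (⟨t, ht⟩ : K)⁻¹, Finset.mem_univ _, Subtype.ext ?_⟩
    show cnjChar (toT (⟨t, ht⟩ : K)⁻¹)⁻¹ μ.1 = ν.1
    rw [← e]
    congr 1
    exact Subtype.ext (by simp [toT])
  · obtain ⟨u, -, rfl⟩ := Finset.mem_image.mp hν
    induction u using QuotientGroup.induction_on with | H u =>
    intro h
    apply hne
    have h' := congrArg (cnjChar (toT u)) (show cnjChar (toT u)⁻¹ μ.1 = 1 from h)
    rw [cnjChar_cnjChar, inv_mul_cancel, cnjChar_one] at h'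
    rw [h']
    exact MonoidHom.ext fun b => rfl
  · obtain ⟨u, -, rfl⟩ := Finset.mem_image.mp hν
    induction u using QuotientGroup.induction_on with | H u =>
    refine Subtype.ext ?_
    show cnjChar (toT u)⁻¹ μ.1 = μ.1
    set x : T := (toT u)⁻¹ with hx
    have hxK : (x : G) ∈ K := K.inv_mem u.2
    obtain ⟨y, hy, hy1⟩ := (Subgroup.bot_or_exists_ne_one W₂).resolve_left P.selfNorm.2.1
    set yT : T := ⟨y, P.W₂_le_T hy⟩
    have hyi : cnjChar yT⁻¹ μ.1 = μ.1 := hinv _ (by simpa [yT] using W₂.inv_mem hy)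
    have h1 : cnjChar (yT⁻¹ * x * yT * x⁻¹) μ.1 = μ.1 := by
      rw [← cnjChar_cnjChar, ← cnjChar_cnjChar, ← cnjChar_cnjChar, hyi,
        show cnjChar yT (cnjChar x μ.1) = cnjChar x μ.1 from hνinv yT hy, cnjChar_cnjChar,
        mul_inv_cancel, cnjChar_one]
    have hmem : y⁻¹ * (x : G) * y * (x : G)⁻¹ ∈ B := by
      have hK' : y⁻¹ * (x : G) * y * (x : G)⁻¹ ∈ K := mul_mem (by
        simpa using (mem_normalizer_iff.mp (P.le_normalizer_derived (T.inv_mem (P.W₂_le_T hy))) _).mp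
          hxK) (inv_mem hxK)
      refine hstab _ hK' (Eq.trans ?_ h1)
      rfl
    have hxB : (x : G) ∈ B := P.fixed_mem hB.B_le hB.W₁_le hB.normal_B (W₂.inv_mem hy)
      (inv_ne_one.mpr hy1) hxK (by simpa using hmem)
    exact hfix _ hxB

end Coefficients

section Main

variable [Fintype G] {S T W₁ W₂ B B₀ : Subgroup G}

/-- Modulo `k` the average at `w ∈ W₁#` is `a w + 1`. -/
theorem invDade_congr (P : Pair S T W₁ W₂) (hB : QuotData T W₁ W₂ B B₀)
    [Fact (Nat.card W₂).Prime] {M : Ideal AlgInt} [M.IsPrime]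
    (hpM : (Nat.card W₂ : AlgInt) ∈ M) {f : G → ℂ} (hf : IsGeneralizedCharacter G f)
    {a : W₁ →* ℂˣ} {b : W₂ →* ℂˣ}
    (hfW : ∀ x y, ∀ hx : x ∈ W₁, ∀ hy : y ∈ W₂, x ≠ 1 → y ≠ 1 →
      f (x * y) = (a ⟨x, hx⟩ : ℂ) + (b ⟨y, hy⟩ : ℂ))
    {w : T} (hw : (w : G) ∈ W₁) (hw1 : (w : G) ≠ 1) :
    MemLocalIdeal M
      (invDade ((B : Set G) \ {1}) T (supportR T) f w - ((a ⟨w, hw⟩ : ℂ) + 1)) := by
  classical
  obtain ⟨y, hy, hy1⟩ := (Subgroup.bot_or_exists_ne_one W₂).resolve_left P.selfNorm.2.1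
  have hD := P.dade_B hB
  have hwA : (w : G) ∈ (B : Set G) \ {1} := ⟨hB.W₁_le hw, hw1⟩
  have hyk : y ^ Nat.card W₂ = 1 :=
    congrArg Subtype.val (pow_card_eq_one' (x := (⟨y, hy⟩ : W₂)))
  have hcomm : y * (w : G) = (w : G) * y := (P.commute_W hw hy).symm
  have hyc : y ∈ centralizer ({(w : G)} : Set G) := mem_centralizer_singleton_iff.mpr hcomm
  have hyn : y ∈ normalizer (supportR T (w : G) : Set G) := mem_normalizer_iff.mpr fun u =>
    ⟨fun hu => hD.conj_mem_H _ hwA y hyc u hu, fun hu => by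
      simpa [mul_assoc] using hD.conj_mem_H _ hwA y⁻¹ (inv_mem hyc) _ hu⟩
  have h1 := TypeOne.memLocalIdeal_avg_sub hpM (supportR T (w : G)) hyk hyn hcomm
    (fun u hu h => P.fix_supportR hB hw hw1 hy hy1 hu h) (isClassFunction_of_isGeneralized hf)
    (TypeOne.gen_mem_loc hf)
  rw [← invDade_of_mem hwA] at h1
  have hwq : orderOf (w : G) ∣ Nat.card W₁ := Subgroup.orderOf_dvd_natCard _ hw
  have hne : Nat.card W₂ ≠ Nat.card W₁ := fun e => by
    have h1' : (Nat.card W₂).Coprime (Nat.card W₁) :=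
      P.coprime_k.coprime_dvd_right (card_dvd_of_le P.W₁_le_derived)
    rw [← e, Nat.coprime_self] at h1'
    exact (Fact.out : (Nat.card W₂).Prime).one_lt.ne' h1'
  have hndvd : ¬ Nat.card W₂ ∣ orderOf (w : G) := fun h =>
    hne ((Nat.prime_dvd_prime_iff_eq Fact.out P.prime_q).mp (h.trans hwq))
  have hyord : ∃ j, orderOf y = Nat.card W₂ ^ j :=
    ⟨1, by rw [pow_one]; exact orderOf_eq_prime hyk hy1⟩
  have h2 := TypeOne.memLocalIdeal_gen_sub hpM hf (y * (w : G))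
  rw [pPrimePart_mul hcomm hyord hndvd, hcomm, hfW _ _ hw hy hw1 hy1] at h2
  have h3 := TypeOne.memLocalIdeal_gen_sub hpM
    (mem_genChar.mp (genChar_of_isCharacter (isCharacter_of_irr (isIrrCharacter_linear b))))
    (⟨y, hy⟩ : W₂)
  rw [show pPrimePart (Nat.card W₂) (⟨y, hy⟩ : W₂) = 1 from
    (IsPPrimePart.eq_pPrimePart ⟨⟨y, hy⟩, mul_one _, Commute.one_right _,
      ⟨1, by rw [pow_one, ← orderOf_coe]; exact orderOf_eq_prime hyk hy1⟩,
      by rw [orderOf_one, Nat.dvd_one]; exact (Fact.out : (Nat.card W₂).Prime).ne_one⟩), map_one,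
    Units.val_one] at h3
  have h := MemLocalIdeal.add' (MemLocalIdeal.sub' h1 h2) h3
  convert h using 1
  ring

theorem mass_B_ge (P : Pair S T W₁ W₂) (hB : QuotData T W₁ W₂ B B₀) [Fintype T]
    {f : G → ℂ} (hf : IsGeneralizedCharacter G f) {a₀ : W₁ →* ℂˣ} (ha₀ : a₀ ≠ 1) {b : W₂ →* ℂˣ}
    (hfW : ∀ x y, ∀ hx : x ∈ W₁, ∀ hy : y ∈ W₂, x ≠ 1 → y ≠ 1 →
      f (x * y) = ((a₀ ^ Nat.card W₂) ⟨x, hx⟩ : ℂ) + (b ⟨y, hy⟩ : ℂ))
    {RT : Finset G} (hRT : ∀ g, g ∈ RT ↔ g ∈ dadeSupp ((B : Set G) \ {1}) (supportR T)) :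
    (Nat.card G : ℝ) * (4 * ((Nat.card W₁ ^ Nat.card W₂ : ℕ) : ℝ) * B.relIndex ⁅T, T⁆ -
        ((2 * (B.relIndex ⁅T, T⁆ : ℝ) + 1) ^ 2 + 1)) ≤
      4 * Nat.card W₂ * B.relIndex ⁅T, T⁆ * ((Nat.card W₁ ^ Nat.card W₂ : ℕ) : ℝ) *
        mass f (-1) RT := by
  classical
  haveI := Fact.mk hB.prime_k
  haveI hBn : (B.subgroupOf T).Normal := normal_subgroupOf_of_le_normalizer hB.normal_B
  set Bs := B.subgroupOf T with hBs
  haveI : Fintype Bs := Fintype.ofFinite _
  haveI : Fintype {μ : Bs →* ℂˣ // OffB₀ B₀ μ} := Fintype.ofFinite _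
  haveI : Fintype W₁ := Fintype.ofFinite _
  have hD := P.dade_B hB
  have hfc := isClassFunction_of_isGeneralized hf
  set F := invDade ((B : Set G) \ {1}) T (supportR T) f with hF
  have hFcl : IsClassFunction T F := isClassFunction_invDade hD hfc
  set E : Bs → ℂ := fun x => F x with hE
  set a := a₀ ^ Nat.card W₂ with ha_def
  -- the region
  have hreg := mass_dade_ge hD hfc hRT
  have hsum : ∑ x : T, (‖F x‖ ^ 2 - (F x).re) = ∑ x : Bs, (‖E x‖ ^ 2 - (E x).re) := by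
    have h0 : ∀ x : T, x ∉ Bs → ‖F x‖ ^ 2 - (F x).re = 0 := fun x hx => by
      rw [hF, invDade_of_notMem (fun h => hx (mem_subgroupOf.mpr h.1))]; simp
    rw [← Finset.sum_subset (Finset.subset_univ (Finset.univ.filter fun x : T => x ∈ Bs))
      fun x _ hx => h0 x (by simpa using hx)]
    exact Finset.sum_subtype _ (fun x => by simp) _
  rw [← hF, hsum] at hreg
  -- the coefficients
  set c : {μ : Bs →* ℂˣ // OffB₀ B₀ μ} → ℂ :=
    fun μ => classInner E fun x => (μ.1 x : ℂ) with hc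
  set one' : {μ : Bs →* ℂˣ // OffB₀ B₀ μ} := ⟨1, fun _ _ => rfl⟩ with hone'
  have hbes := bessel_re (fun (μ : {μ : Bs →* ℂˣ // OffB₀ B₀ μ}) (x : Bs) => (μ.1 x : ℂ))
    (fun μ ν => by rw [inner_lin]; exact if_congr Subtype.ext_iff.symm rfl rfl) E
  have hint : ∀ μ, ∃ z : ℤ, c μ - c one' = z := by
    intro μ
    set θ : Bs → ℂ := (fun x => (μ.1 x : ℂ)) - fun _ => 1 with hθ
    have hθgen : IsGeneralizedCharacter Bs θ := isGeneralized_sub
      (mem_genChar.mp (genChar_of_isCharacter (isCharacter_of_irr (isIrrCharacter_linear μ.1))))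
      (mem_genChar.mp (genChar_of_isCharacter isCharacter_one))
    have hβA : ∀ x : T, (x : G) ∉ (B : Set G) \ {1} → indFun Bs θ x = 0 := by
      intro x hx
      rw [indFun_apply, Finset.sum_eq_zero fun y _ => ?_, mul_zero]
      by_cases hx1 : x = 1
      · rw [hx1, mul_one, inv_mul_cancel, extendByZero_of_mem _ _ Bs.one_mem,
          show (⟨1, Bs.one_mem⟩ : Bs) = 1 from rfl, hθ, Pi.sub_apply, map_one, Units.val_one,
          sub_self]
      · refine extendByZero_of_not_mem _ _ fun hm => hx ⟨?_, fun e => hx1 (Subtype.ext e)⟩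
        have := hBn.conj_mem _ hm y
        simpa [mul_assoc, hBs, mem_subgroupOf] using this
    have hgen := isGeneralized_indFun Bs hθgen
    obtain ⟨z, hz⟩ := inner_int (isGeneralized_dadeIsometry hD hgen hβA) hf
    refine ⟨z, ?_⟩
    rw [inner_dade hD (isClassFunction_indFun Bs θ) hβA hfc, inner_indFun Bs θ hFcl,
      ← inner_conj] at hz
    have hz' := congrArg conj hz
    rw [Complex.conj_conj, map_intCast] at hz'
    rw [← hz']
    show c μ - c one' = classInner E θ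
    rw [hθ, Chars.inner_sub_right]
    rfl
  choose n hn using hint
  have hn1 : n one' = 0 := by
    have h := hn one'
    rw [sub_self] at h
    exact_mod_cast h.symm
  have horb : ∀ μ ν : {μ : Bs →* ℂˣ // OffB₀ B₀ μ}, (∃ t : T, cnjChar t μ.1 = ν.1) → n ν = n μ := by
    rintro μ ν ⟨t, ht⟩
    have hcc : c ν = c μ := by
      simp only [hc, Chars.inner_def, ← ht, cnjChar_apply]
      congr 1
      refine Fintype.sum_equiv (MulAut.conjNormal t).toEquiv _ _ fun x => ?_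
      congr 1
      show F x = F (MulAut.conjNormal t x : Bs)
      rw [MulAut.conjNormal_apply]
      exact (hFcl x t).symm
    have h := hn ν
    rw [hcc, hn μ] at h
    exact_mod_cast h.symm
  -- the congruences
  obtain ⟨y, hy, hy1⟩ := (Subgroup.bot_or_exists_ne_one W₂).resolve_left P.selfNorm.2.1
  obtain ⟨M, hM, hpM⟩ := exists_maximal_above (Nat.card W₂)
  haveI := hM.isPrime
  let yT : T := ⟨y, P.W₂_le_T hy⟩
  have hyn : yT ∈ normalizer (Bs : Set T) := by rw [normalizer_eq_top]; exact mem_top _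
  have hyk : yT ^ Nat.card W₂ = 1 :=
    Subtype.ext (congrArg Subtype.val (pow_card_eq_one' (x := (⟨y, hy⟩ : W₂))) :)
  set σ := TypeOne.conjPerm Bs yT hyn
  have hσ := TypeOne.conjPerm_pow_eq_one Bs hyn hyk
  let ι : W₁ → Bs := fun w => ⟨⟨w, P.W₁_le_T w.2⟩, hB.W₁_le w.2⟩
  have hloc1 : ∀ {X : Type u} [Group X] [Fintype X] (μ : X →* ℂˣ) (x : X),
      (μ x : ℂ) ∈ loc M := fun μ x => TypeOne.gen_mem_loc
    (mem_genChar.mp (genChar_of_isCharacter (isCharacter_of_irr (isIrrCharacter_linear μ)))) x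
  have conj_lin_mem : ∀ {X : Type u} [Group X] [Fintype X] (μ : X →* ℂˣ) (x : X),
      conj (μ x : ℂ) ∈ loc M := fun μ x => by
    rw [← char_inv (isCharacter_of_irr (isIrrCharacter_linear μ))]
    exact hloc1 μ _
  have hres : ∀ μ : {μ : Bs →* ℂˣ // OffB₀ B₀ μ},
      (∀ z : T, (z : G) ∈ W₂ → cnjChar z μ.1 = μ.1) →
      ∀ ε : W₁ →* ℂˣ, ε ≠ 1 → (∀ w, μ.1 (ι w) = ε w) →
      MemLocalIdeal M ((Nat.card Bs : ℂ) * (n μ : ℂ) -
        ((if a = ε then (Nat.card W₁ : ℂ) else 0) - Nat.card W₁)) := by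
    intro μ hinv ε hε hμε
    have hloc : ∀ x : Bs, E x * (conj (μ.1 x : ℂ) - 1) ∈ loc M := fun x =>
      (loc M).mul_mem (TypeOne.invDade_mem_loc hD hf x)
        ((loc M).sub_mem (conj_lin_mem μ.1 x) (loc M).one_mem)
    have hmove : ∀ x : Bs, (σ x : T) = yT * x * yT⁻¹ := fun _ => rfl
    have h1 := TypeOne.memLocalIdeal_sum_sub_fixed hpM σ hσ _ hloc fun x => by
      have e1 : E (σ x) = E x := by
        show F (σ x : T) = F x
        rw [hmove]
        exact hFcl x yT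
      have e2 : μ.1 (σ x) = μ.1 x := by
        have h := DFunLike.congr_fun (hinv yT hy) x
        rw [cnjChar_apply] at h
        refine Eq.trans (congrArg μ.1 (Subtype.ext ?_)) h
        rw [hmove, MulAut.conjNormal_apply]
      rw [e1, e2]
    have htot : ∑ x : Bs, E x * (conj (μ.1 x : ℂ) - 1) = (Nat.card Bs : ℂ) * (n μ : ℂ) := by
      rw [← hn μ]
      simp only [hc, hone', Chars.inner_def, ← mul_sub, ← Finset.sum_sub_distrib,
        MonoidHom.one_apply, Units.val_one, map_one]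
      rw [← mul_assoc, mul_inv_cancel₀ (Nat.cast_ne_zero.mpr Nat.card_pos.ne'), one_mul]
    have hfixed : ∑ x ∈ Finset.univ.filter (fun x => σ x = x), E x * (conj (μ.1 x : ℂ) - 1) =
        ∑ w : W₁, E (ι w) * (conj (ε w : ℂ) - 1) := by
      refine (Finset.sum_bij (fun w _ => ι w) (fun w _ => ?_)
        (fun u _ v _ e => Subtype.ext (congrArg (fun x : Bs => ((x : T) : G)) e))
        (fun x hx => ?_) fun w _ => by rw [hμε]).symm
      · refine Finset.mem_filter.mpr ⟨Finset.mem_univ _, Subtype.ext (Subtype.ext ?_)⟩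
        show y * (w : G) * y⁻¹ = w
        rw [← P.commute_W w.2 hy, mul_inv_cancel_right]
      · have he : y * ((x : T) : G) * y⁻¹ = ((x : T) : G) :=
          congrArg (fun z : Bs => ((z : T) : G)) (Finset.mem_filter.mp hx).2
        have hm : ((x : T) : G) ∈ W₁ := by
          rw [← P.centralizer_W₂ hy hy1]
          exact ⟨hB.B_le (mem_subgroupOf.mp x.2), mem_centralizer_singleton_iff.mpr
            (mul_inv_eq_iff_eq_mul.mp he).symm⟩
        exact ⟨⟨_, hm⟩, Finset.mem_univ _, rfl⟩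
    rw [htot, hfixed] at h1
    have h2 : MemLocalIdeal M ((∑ w : W₁, E (ι w) * (conj (ε w : ℂ) - 1)) -
        ∑ w : W₁, ((a w : ℂ) + 1) * (conj (ε w : ℂ) - 1)) := by
      rw [← Finset.sum_sub_distrib]
      refine MemLocalIdeal.sum' fun w _ => ?_
      rw [← sub_mul]
      by_cases hw : w = 1
      · rw [show conj (ε w : ℂ) - 1 = 0 by rw [hw, map_one, Units.val_one, map_one, sub_self],
          mul_zero]
        exact MemLocalIdeal.zero'
      · exact MemLocalIdeal.mul_right'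
          (invDade_congr P hB hpM hf hfW w.2 fun e => hw (Subtype.ext e))
          ((loc M).sub_mem (conj_lin_mem ε w) (loc M).one_mem)
    have h3 : ∀ α β : W₁ →* ℂˣ,
        ∑ w : W₁, (α w : ℂ) * conj (β w : ℂ) = if α = β then (Nat.card W₁ : ℂ) else 0 := by
      intro α β
      have h := inner_lin α β
      rw [Chars.inner_def, inv_mul_eq_iff_eq_mul₀ (Nat.cast_ne_zero.mpr Nat.card_pos.ne'), mul_ite,
        mul_one, mul_zero] at h
      exact h
    have h4 : ∑ w : W₁, ((a w : ℂ) + 1) * (conj (ε w : ℂ) - 1) =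
        (if a = ε then (Nat.card W₁ : ℂ) else 0) - Nat.card W₁ := by
      have ha1 : a ≠ 1 := by
        intro e
        refine ha₀ (MonoidHom.ext fun x => orderOf_eq_one_iff.mp (Nat.eq_one_of_dvd_coprimes
          ((P.coprime_k.coprime_dvd_right (card_dvd_of_le P.W₁_le_derived)))
          (orderOf_dvd_of_pow_eq_one (DFunLike.congr_fun e x)) ((orderOf_map_dvd a₀ x).trans
            (orderOf_dvd_natCard x))))
      have ea := h3 a 1
      have eε := h3 1 ε
      rw [if_neg ha1] at ea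
      rw [if_neg fun e => hε e.symm] at eε
      simp only [MonoidHom.one_apply, Units.val_one, map_one, mul_one, one_mul] at ea eε
      simp only [add_mul, mul_sub, one_mul, mul_one, Finset.sum_add_distrib, Finset.sum_sub_distrib,
        Finset.sum_const, Finset.card_univ, nsmul_eq_mul, h3 a ε, ea, eε,
        ← Nat.card_eq_fintype_card]
      ring
    rw [h4] at h2
    have h := MemLocalIdeal.add' h1 h2
    convert h using 1
    ring
  -- two orbits
  obtain ⟨lam, hlam0, hlaminv, hlamw⟩ := exists_invariant P hB a₀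
  have hlamι : ∀ w, lam (ι w) = a w := fun w => hlamw w w.2
  have hcop : (Nat.card W₂).Coprime (Nat.card W₁) :=
    P.coprime_k.coprime_dvd_right (card_dvd_of_le P.W₁_le_derived)
  have hq2 : ¬ Nat.card W₁ ∣ 2 := fun hd => by
    have h2 := (Nat.prime_dvd_prime_iff_eq P.prime_q Nat.prime_two).mp hd
    exact absurd (h2 ▸ P.odd_card (X := W₁)) (by decide)
  have ha1 : a ≠ 1 := by
    intro e
    exact ha₀ (MonoidHom.ext fun x => orderOf_eq_one_iff.mp (Nat.eq_one_of_dvd_coprimes hcop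
      (orderOf_dvd_of_pow_eq_one (DFunLike.congr_fun e x))
      ((orderOf_map_dvd a₀ x).trans (orderOf_dvd_natCard x))))
  have ha2 : a * a ≠ 1 := by
    intro e
    refine ha1 (MonoidHom.ext fun x => ?_)
    have h2 : orderOf (a x) ∣ 2 := orderOf_dvd_of_pow_eq_one (by
      rw [pow_two]; exact DFunLike.congr_fun e x)
    exact orderOf_eq_one_iff.mp (Nat.eq_one_of_dvd_coprimes
      ((P.prime_q.coprime_iff_not_dvd.mpr hq2).symm) h2
      ((orderOf_map_dvd a x).trans (orderOf_dvd_natCard x)))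
  set μ₁ : {μ : Bs →* ℂˣ // OffB₀ B₀ μ} := ⟨lam, hlam0⟩ with hμ₁
  set μ₂ : {μ : Bs →* ℂˣ // OffB₀ B₀ μ} :=
    ⟨lam * lam, fun x hx => by rw [MonoidHom.mul_apply, hlam0 x hx, one_mul]⟩ with hμ₂
  have hinv2 : ∀ z : T, (z : G) ∈ W₂ → cnjChar z μ₂.1 = μ₂.1 := fun z hz => by
    show cnjChar z (lam * lam) = lam * lam
    conv_rhs => rw [← hlaminv z hz]
    rfl
  have hne1 : μ₁.1 ≠ 1 := fun e => ha1 (MonoidHom.ext fun w => by
    rw [← hlamι]; exact DFunLike.congr_fun e _)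
  have hne2 : μ₂.1 ≠ 1 := fun e => ha2 (MonoidHom.ext fun w => by
    rw [MonoidHom.mul_apply, ← hlamι]
    exact DFunLike.congr_fun e (ι w))
  have hne12 : μ₁ ≠ μ₂ := fun e => hne1 (mul_left_cancel (a := lam) (b := lam) (c := 1)
    ((congrArg Subtype.val e).symm.trans (mul_one lam).symm))
  obtain ⟨O₁, hO₁c, hO₁t, hO₁m, hO₁1, hO₁u⟩ := exists_orbit P hB μ₁ hne1 hlaminv
  obtain ⟨O₂, hO₂c, hO₂t, -, hO₂1, -⟩ := exists_orbit P hB μ₂ hne2 hinv2
  have hdisj : Disjoint O₁ O₂ := by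
    rw [Finset.disjoint_left]
    intro ν h1 h2
    obtain ⟨t, ht⟩ := hO₁t ν h1
    obtain ⟨s, hs⟩ := hO₂t ν h2
    obtain ⟨m, hm, z, hz, e⟩ := P.complT.2.2.2 _ (t * s⁻¹).2
    have h12 : cnjChar (t * s⁻¹) lam = μ₂.1 := by
      rw [← cnjChar_cnjChar, show cnjChar t lam = ν.1 from ht, ← hs, cnjChar_cnjChar, mul_inv_cancel,
        cnjChar_one]
    let zT : T := ⟨z, P.W₂_le_T hz⟩
    let mT : T := ⟨m, P.derived_le hm⟩
    have hm' : cnjChar mT lam = μ₂.1 := by
      have h' := congrArg (cnjChar zT⁻¹) h12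
      rw [cnjChar_cnjChar, hinv2 _ (by simpa [zT] using W₂.inv_mem hz),
        show t * s⁻¹ = mT * zT from Subtype.ext e, mul_inv_cancel_right] at h'
      exact h'
    exact hne12 (hO₁u μ₂ (hO₁m mT hm μ₂ hm') hinv2).symm
  have hn12 : n μ₁ ≠ n μ₂ := by
    intro e
    have r1 := hres μ₁ hlaminv a ha1 hlamι
    have r2 := hres μ₂ hinv2 (a * a) ha2 (fun w => by
      show lam (ι w) * lam (ι w) = a w * a w
      rw [hlamι])
    rw [if_pos rfl, sub_self, sub_zero] at r1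
    rw [if_neg (fun e' => ha1 (mul_left_cancel (a := a) (e'.symm.trans (mul_one a).symm))),
      zero_sub, sub_neg_eq_add, ← e] at r2
    have h := MemLocalIdeal.sub' r2 r1
    rw [add_sub_cancel_left] at h
    exact hB.prime_k.coprime_iff_not_dvd.mp hcop
      ((memLocalIdeal_natCast_iff (M := M) hB.prime_k hpM _).mp h)
  have hlat := lattice n one' hn1 O₁ O₂ hdisj (fun h => hO₁1 _ h rfl) (fun h => hO₂1 _ h rfl)
    hO₁c hO₂c (fun ν hν => horb μ₁ ν (hO₁t ν hν)) (fun ν hν => horb μ₂ ν (hO₂t ν hν)) hn12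
  rw [card_offB₀ P hB] at hlat
  -- assembly
  set Mq := Nat.card W₁ ^ Nat.card W₂ with hMq
  set d := B.relIndex ⁅T, T⁆ with hd
  have hcardΛ : Fintype.card {μ : Bs →* ℂˣ // OffB₀ B₀ μ} = Mq := card_offB₀ P hB
  set r := (c one').re with hr
  have hre : ∀ μ, (c μ).re = (n μ : ℝ) + r := fun μ => by
    have h := congrArg Complex.re (hn μ)
    rw [Complex.sub_re, Complex.intCast_re] at h
    linarith
  have hcB : (0 : ℝ) < Nat.card Bs := by exact_mod_cast Nat.card_pos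
  have hb1 : (Nat.card Bs : ℝ) * ∑ μ : {μ : Bs →* ℂˣ // OffB₀ B₀ μ}, ((n μ : ℝ) + r) ^ 2 ≤
      ∑ x : Bs, ‖E x‖ ^ 2 := by
    have h := hbes
    rw [inner_self_eq, Complex.ofReal_re] at h
    rw [← le_inv_mul_iff₀ hcB]
    refine le_trans (le_of_eq ?_) h
    exact Finset.sum_congr rfl fun μ _ => by rw [← hre]
  have hb2 : ∑ x : Bs, (E x).re = (Nat.card Bs : ℝ) * r := by
    rw [hr]
    simp only [hc, hone', Chars.inner_def, MonoidHom.one_apply, Units.val_one, map_one, mul_one,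
      show ∀ m : ℕ, ((m : ℂ))⁻¹ = (((m : ℝ)⁻¹ : ℝ) : ℂ) from fun m => by push_cast; rfl,
      Complex.re_ofReal_mul, Complex.re_sum]
    field_simp
  have hcardT : (Nat.card T : ℝ) = (d : ℝ) * Nat.card Bs * Nat.card W₂ := by
    have h : Nat.card T = d * Nat.card Bs * Nat.card W₂ := by
      rw [hd, hBs, Nat.card_congr (subgroupOfEquivOfLe (hB.B_le.trans P.derived_le)).toEquiv,
        BG15.relIndex_mul_card_of_le hB.B_le,
        ← BG15.card_mul_card_of_isComplIn P.complT]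
    exact_mod_cast h
  set X : ℝ := ∑ μ : {μ : Bs →* ℂˣ // OffB₀ B₀ μ}, ((n μ : ℝ) + r) ^ 2 - r with hX
  have hmassX : (Nat.card G : ℝ) * X ≤ (d : ℝ) * Nat.card W₂ * mass f (-1) RT := by
    have h1 : (Nat.card Bs : ℝ) * X ≤ ∑ x : Bs, (‖E x‖ ^ 2 - (E x).re) := by
      rw [Finset.sum_sub_distrib, hb2, hX, mul_sub]
      linarith
    have h2 := (mul_le_mul_of_nonneg_left h1
      (show (0 : ℝ) ≤ Nat.card G from Nat.cast_nonneg _)).trans hreg
    rw [hcardT] at h2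
    refine le_of_mul_le_mul_left ?_ hcB
    linarith
  have hlatR : 4 * (Mq : ℝ) * d - (2 * (d : ℝ) + 1) ^ 2 ≤
      4 * ((Mq : ℝ) * ∑ μ, (n μ : ℝ) ^ 2 - (∑ μ, (n μ : ℝ)) ^ 2 + ∑ μ, (n μ : ℝ)) := by
    exact_mod_cast hlat
  have hexp : ∑ μ : {μ : Bs →* ℂˣ // OffB₀ B₀ μ}, ((n μ : ℝ) + r) ^ 2 =
      ∑ μ, (n μ : ℝ) ^ 2 + 2 * r * ∑ μ, (n μ : ℝ) + Mq * r ^ 2 := by
    simp only [add_sq, Finset.sum_add_distrib, Finset.sum_const, Finset.card_univ, nsmul_eq_mul,
      hcardΛ, Finset.mul_sum]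
    congr 1
    congr 1
    exact Finset.sum_congr rfl fun μ _ => by ring
  have hkey : 4 * (Mq : ℝ) * d - ((2 * (d : ℝ) + 1) ^ 2 + 1) ≤ 4 * (Mq : ℝ) * X := by
    rw [hX, hexp]
    nlinarith [sq_nonneg (2 * (Mq : ℝ) * r + 2 * ∑ μ, (n μ : ℝ) - 1)]
  calc (Nat.card G : ℝ) * (4 * (Mq : ℝ) * d - ((2 * (d : ℝ) + 1) ^ 2 + 1))
      ≤ (Nat.card G : ℝ) * (4 * (Mq : ℝ) * X) := mul_le_mul_of_nonneg_left hkey (Nat.cast_nonneg _)
    _ = 4 * (Mq : ℝ) * ((Nat.card G : ℝ) * X) := by ring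
    _ ≤ 4 * (Mq : ℝ) * ((d : ℝ) * Nat.card W₂ * mass f (-1) RT) :=
        mul_le_mul_of_nonneg_left hmassX (by positivity)
    _ = _ := by ring

end Main

/-- The pair inequality of the two sides. -/
theorem mass_pair_bound [Finite G] {S T W₁ W₂ B B₀ : Subgroup G} (P : Pair S T W₁ W₂)
    (h : IsOfTypeIII T ∨ IsOfTypeIV T) (hB : QuotData T W₁ W₂ B B₀) {U : Subgroup G}
    (F : Facts S W₁ U W₂) :
    3 ≤ F.side.loc.u ∧ 7 ≤ B.relIndex ⁅T, T⁆ ∧
      8 * (F.side.loc.u : ℝ) * Nat.card F.side.loc.H * (B.relIndex ⁅T, T⁆ : ℝ) *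
          (Nat.card W₁ : ℝ) ^ Nat.card W₂ ≤
        (Nat.card W₂ : ℝ) * (2 * F.side.loc.u + 1) ^ 2 *
            ((B.relIndex ⁅T, T⁆ : ℝ) * (Nat.card W₁ : ℝ) ^ Nat.card W₂) +
          (Nat.card W₁ : ℝ) * ((2 * (B.relIndex ⁅T, T⁆ : ℝ) + 1) ^ 2 + 1) *
            ((F.side.loc.u : ℝ) * Nat.card F.side.loc.H) := by
  classical
  haveI := Fintype.ofFinite G
  haveI : Fintype S := Fintype.ofFinite _
  haveI : Fintype T := Fintype.ofFinite _
  haveI : Fintype (W₁ →* ℂˣ) := Fintype.ofFinite _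
  haveI : Fintype (W₂ →* ℂˣ) := Fintype.ofFinite _
  set D := F.side with hDdef
  have hp : D.loc.p = Nat.card W₂ := rfl
  have hq : D.loc.q = Nat.card W₁ := rfl
  have hq3 : 3 ≤ Nat.card W₁ := hq ▸ D.loc.two_lt_q
  have hk3 : 3 ≤ Nat.card W₂ := hp ▸ D.loc.two_lt_p
  have hd7 : 7 ≤ B.relIndex ⁅T, T⁆ := by
    have h1 := hB.d_mod
    have h2 := hB.one_lt_d
    by_contra h3
    rcases Nat.lt_or_ge (B.relIndex ⁅T, T⁆) (2 * Nat.card W₂) with h4 | h4
    · rw [Nat.mod_eq_of_lt h4] at h1; omega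
    · have : B.relIndex ⁅T, T⁆ = 6 := by omega
      have hk : Nat.card W₂ = 3 := by omega
      rw [this, hk] at h1
      norm_num at h1
  -- the grid
  obtain ⟨η, hη⟩ := exists_grid P.selfNorm P.odd_card
  obtain ⟨a₀, ha₀⟩ : ∃ a : W₁ →* ℂˣ, a ≠ 1 :=
    Fintype.exists_ne_of_one_lt_card (by rw [D.card_hom_W₁]; exact D.loc.prime_q.one_lt) 1
  obtain ⟨b, hb⟩ : ∃ b : W₂ →* ℂˣ, b ≠ 1 :=
    Fintype.exists_ne_of_one_lt_card (by rw [D.card_hom_W₂]; exact D.loc.prime_p.one_lt) 1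
  set a := a₀ ^ Nat.card W₂ with ha_def
  have ha : a ≠ 1 := fun e => ha₀ (MonoidHom.ext fun x => orderOf_eq_one_iff.mp
    (Nat.eq_one_of_dvd_coprimes (P.coprime_k.coprime_dvd_right (card_dvd_of_le P.W₁_le_derived))
      (orderOf_dvd_of_pow_eq_one (DFunLike.congr_fun e x))
      ((orderOf_map_dvd a₀ x).trans (orderOf_dvd_natCard x))))
  set f := η a 1 + η 1 b with hf
  have hfW : ∀ x y, ∀ hx : x ∈ W₁, ∀ hy : y ∈ W₂, x ≠ 1 → y ≠ 1 →
      f (x * y) = (a ⟨x, hx⟩ : ℂ) + (b ⟨y, hy⟩ : ℂ) := by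
    intro x y hx hy hx1 hy1
    rw [hf, Pi.add_apply, hη.eq_on a 1 x y hx hy hx1 hy1, hη.eq_on 1 b x y hx hy hx1 hy1]
    simp
  set RT := Finset.univ.filter fun g => g ∈ dadeSupp ((B : Set G) \ {1}) (supportR T) with hRTdef
  have hRT : ∀ g, g ∈ RT ↔ g ∈ dadeSupp ((B : Set G) \ {1}) (supportR T) := fun g => by
    simp [hRTdef]
  have hST : Disjoint (conjSet D.HG) RT := by
    rw [Finset.disjoint_left]
    intro g hg hgT
    obtain ⟨x, hx⟩ := mem_conjSet.mp hg
    obtain ⟨hxS, hxH, hx1⟩ := D.mem_HG.mp hx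
    obtain ⟨c, hc, y, r, hr, e⟩ := (hRT g).mp hgT
    refine fittingS_notMem_tilde P h hB (F.mem_fittingOf_of_mem_loc_H hxH) hx1 hc.1 hc.2 hr
      (y * x⁻¹) ?_
    rw [← e]
    group
  have hpair := pair_ineq P.selfNorm hη ha hb (closed_HG D) (P.closed_suppB hB hRT) hST
    (disjoint_regSet D) (P.disjoint_suppB_regSet hB hRT)
  rw [← hf] at hpair
  have hS := side_mass D hη a hb
  rw [← hf, D.loc.card_L', hq] at hS
  have hT := mass_B_ge P hB (gen_pair hη a b) ha₀ hfW hRT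
  -- numerics
  set q := Nat.card W₁ with hqdef
  set k := Nat.card W₂ with hkdef
  set d := B.relIndex ⁅T, T⁆ with hddef
  have hu3 : 3 ≤ D.loc.u := by
    obtain ⟨j, hj⟩ := D.loc.u_odd
    have := D.loc.one_lt_u
    omega
  have hne : k ≠ q := D.loc.ne
  set u := D.loc.u
  set m := Nat.card D.loc.H
  set MS := mass f (-1) (conjSet D.HG)
  set MT := mass f (-1) RT
  push_cast at hpair hS hT
  have hG : (0 : ℝ) < Nat.card G := by exact_mod_cast Nat.card_pos
  have hqr : (3 : ℝ) ≤ q := by exact_mod_cast hq3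
  have hkr : (3 : ℝ) ≤ k := by exact_mod_cast hk3
  refine ⟨hu3, hd7, ?_⟩
  have hqk : (0 : ℝ) < (q : ℝ) ^ k := by positivity
  have hsum : 8 * (u : ℝ) * m * d * (q : ℝ) ^ k ≤
      (k : ℝ) * (2 * u + 1) ^ 2 * (d * (q : ℝ) ^ k) +
        (q : ℝ) * ((2 * d + 1) ^ 2 + 1) * (u * m) := by
    have h1 := mul_le_mul_of_nonneg_left hpair
      (show (0 : ℝ) ≤ 4 * ((u : ℝ) * m) * ((d : ℝ) * (q : ℝ) ^ k) by positivity)
    have h2 := mul_le_mul_of_nonneg_left hS
      (show (0 : ℝ) ≤ (k : ℝ) * ((d : ℝ) * (q : ℝ) ^ k) by positivity)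
    have h4 := mul_le_mul_of_nonneg_left hT
      (show (0 : ℝ) ≤ (q : ℝ) * ((u : ℝ) * m) by positivity)
    refine le_of_mul_le_mul_left ?_ hG
    linarith
  exact hsum

/-- In Types III and IV: `(q ^ k - 1)/(q - 1) ≤ |T' : T''|`. -/
theorem NT_le_vT [Finite G] {S T W₁ W₂ B B₀ : Subgroup G} (P : Pair S T W₁ W₂)
    (h : IsOfTypeIII T ∨ IsOfTypeIV T) (hB : QuotData T W₁ W₂ B B₀) :
    (Nat.card W₁ ^ Nat.card W₂ - 1) / (Nat.card W₁ - 1) ≤ vT T := by
  classical
  haveI := Fintype.ofFinite G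
  haveI : Fintype S := Fintype.ofFinite _
  haveI : Fintype T := Fintype.ofFinite _
  haveI : Fintype (W₁ →* ℂˣ) := Fintype.ofFinite _
  haveI : Fintype (W₂ →* ℂˣ) := Fintype.ofFinite _
  have hdv : B.relIndex ⁅T, T⁆ ≤ vT T := by
    refine Nat.le_of_dvd (Nat.pos_of_ne_zero ?_)
      (Dvd.intro_left _ (relIndex_mul_relIndex _ _ _ hB.derived_two_le hB.B_le))
    exact Subgroup.index_ne_zero_of_finite
  by_contra hcon
  obtain ⟨U, hU⟩ := P.exists_typeP_S
  have F := facts_of_typeII P.minimal P.coatomS hU P.typeII hB.prime_k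
  set D := F.side with hDdef
  have hp : D.loc.p = Nat.card W₂ := rfl
  have hq : D.loc.q = Nat.card W₁ := rfl
  have hq3 : 3 ≤ Nat.card W₁ := hq ▸ D.loc.two_lt_q
  have hk3 : 3 ≤ Nat.card W₂ := hp ▸ D.loc.two_lt_p
  have hd7 : 7 ≤ B.relIndex ⁅T, T⁆ := by
    have h1 := hB.d_mod
    have h2 := hB.one_lt_d
    by_contra h3
    rcases Nat.lt_or_ge (B.relIndex ⁅T, T⁆) (2 * Nat.card W₂) with h4 | h4
    · rw [Nat.mod_eq_of_lt h4] at h1; omega
    · have : B.relIndex ⁅T, T⁆ = 6 := by omega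
      have hk : Nat.card W₂ = 3 := by omega
      rw [this, hk] at h1
      norm_num at h1
  have h3 := three_mul_le_of_ne hq3 P.odd_card hk3 P.odd_card hB.arith
    (fun e => hcon (e ▸ hdv))
  obtain ⟨hu3, -, hsum⟩ := mass_pair_bound P h hB F
  set q := Nat.card W₁ with hqdef
  set k := Nat.card W₂ with hkdef
  set d := B.relIndex ⁅T, T⁆ with hddef
  have hu1 : D.loc.u * (k - 1) ≤ Nat.card D.loc.H := by
    have h1 := D.loc.u_mul_le
    rw [hp, hq] at h1
    rw [D.loc.card_H, hp, hq]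
    calc D.loc.u * (k - 1) ≤ k ^ q * 1 := by omega
      _ ≤ _ := Nat.mul_le_mul_left _ Nat.card_pos
  have hPm : k ^ q ≤ Nat.card D.loc.H := by
    rw [D.loc.card_H, hp, hq]
    exact Nat.le_mul_of_pos_right _ Nat.card_pos
  have hne : k ≠ q := D.loc.ne
  set u := D.loc.u
  set m := Nat.card D.loc.H
  have hqr : (3 : ℝ) ≤ q := by exact_mod_cast hq3
  have hkr : (3 : ℝ) ≤ k := by exact_mod_cast hk3
  have hur : (3 : ℝ) ≤ u := by exact_mod_cast hu3
  have hdr : (6 : ℝ) ≤ d := by exact_mod_cast (le_trans (by norm_num) hd7 : 6 ≤ d)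
  have hu1r : (u : ℝ) * ((k : ℝ) - 1) ≤ 1 * (m : ℝ) := by
    have h' : ((u * (k - 1) : ℕ) : ℝ) ≤ (m : ℝ) := by exact_mod_cast hu1
    rw [Nat.cast_mul, Nat.cast_sub (by omega)] at h'
    push_cast at h'
    linarith
  have h3r : 3 * ((d : ℝ) * ((q : ℝ) - 1)) ≤ (q : ℝ) ^ k := by
    have h' : ((3 * (d * (q - 1)) : ℕ) : ℝ) ≤ ((q ^ k : ℕ) : ℝ) := by exact_mod_cast h3
    rw [Nat.cast_mul, Nat.cast_mul, Nat.cast_sub (by omega)] at h'
    push_cast at h'
    linarith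
  have hPmr : (k : ℝ) ^ q ≤ (m : ℝ) := by exact_mod_cast hPm
  have hqk : (0 : ℝ) < (q : ℝ) ^ k := by positivity
  have key : ∀ {r r' e e' : ℝ}, (k : ℝ) / ((k : ℝ) - 1) ≤ r → (q : ℝ) / ((q : ℝ) - 1) ≤ r' →
      (k : ℝ) ≤ e * (k : ℝ) ^ q → (q : ℝ) ≤ e' * (q : ℝ) ^ k →
      1 * r + 13 / 12 * e + (1 / 3 * r' + 13 / 12 * e') < 2 → False := by
    intro r r' e e' hr hr' he he' hlt
    have hA := side_arith hkr hur (by norm_num) hr (by positivity) hPmr hu1r he
    have hB' := side_arith_third hqr hdr hqk hr' h3r he'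
    have hA' := mul_le_mul_of_nonneg_right hA
      (show (0 : ℝ) ≤ (d : ℝ) * (q : ℝ) ^ k by positivity)
    have hB'' := mul_le_mul_of_nonneg_right hB'
      (show (0 : ℝ) ≤ (u : ℝ) * m by positivity)
    have hm0 : (0 : ℝ) < m := lt_of_lt_of_le (by positivity) hPmr
    have hlt' := mul_lt_mul_of_pos_left hlt
      (show (0 : ℝ) < 4 * ((u : ℝ) * m) * ((d : ℝ) * (q : ℝ) ^ k) by positivity)
    linarith
  have hdiv : ∀ c x : ℝ, 1 < c → c ≤ x → x / (x - 1) ≤ c / (c - 1) := fun c x hc hx => by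
    rw [div_le_div_iff₀ (by linarith) (by linarith)]; nlinarith
  have hpow : ∀ (x y C : ℕ), C * x ≤ x ^ y → 0 < C → (x : ℝ) ≤ (C : ℝ)⁻¹ * (x : ℝ) ^ y := by
    intro x y C h hC
    rw [inv_mul_eq_div, le_div_iff₀ (by exact_mod_cast hC)]
    have h' : ((C * x : ℕ) : ℝ) ≤ ((x ^ y : ℕ) : ℝ) := by exact_mod_cast h
    push_cast at h'
    linarith
  have hbig : ∀ (x y x₀ y₀ : ℕ), x₀ ≤ x → y₀ ≤ y → 1 ≤ x₀ → 1 ≤ y₀ →
      x₀ ^ (y₀ - 1) * x ≤ x ^ y := by
    intro x y x₀ y₀ hx hy hx1 hy1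
    calc x₀ ^ (y₀ - 1) * x ≤ x ^ (y₀ - 1) * x := Nat.mul_le_mul_right _ (Nat.pow_le_pow_left hx _)
      _ = x ^ (y₀ - 1 + 1) := (pow_succ _ _).symm
      _ ≤ x ^ y := Nat.pow_le_pow_right (by omega) (by omega)
  rcases le_or_gt 5 k with hk5 | hk5
  · refine key (hdiv 5 _ (by norm_num) (by exact_mod_cast hk5)) (hdiv 3 _ (by norm_num) hqr)
      (hpow _ _ _ (hbig _ _ 5 3 hk5 hq3 (by norm_num) (by norm_num)) (by norm_num))
      (hpow _ _ _ (hbig _ _ 3 5 hq3 hk5 (by norm_num) (by norm_num)) (by norm_num)) (by norm_num)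
  · have hk : k = 3 := by
      rcases eq_or_ne k 4 with h4 | h4
      · exact absurd hB.prime_k (by rw [← hkdef, h4]; norm_num)
      · omega
    have hq5 : 5 ≤ q := by
      rcases eq_or_ne q 4 with h4 | h4
      · exact absurd P.prime_q (by rw [← hqdef, h4]; norm_num)
      · omega
    refine key (hdiv 3 _ (by norm_num) hkr) (hdiv 5 _ (by norm_num) (by exact_mod_cast hq5))
      (hpow _ _ _ (hbig _ _ 3 5 hk3 hq5 (by norm_num) (by norm_num)) (by norm_num))
      (hpow _ _ _ (hbig _ _ 5 3 hq5 hk3 (by norm_num) (by norm_num)) (by norm_num)) (by norm_num)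


/-- The kernel of `U` on the Fitting Hall subgroup is trivial. -/
theorem kernel_trivial [Finite G] {S T W₁ W₂ B B₀ U : Subgroup G} (P : Pair S T W₁ W₂)
    (h : IsOfTypeIII T ∨ IsOfTypeIV T) (hB : QuotData T W₁ W₂ B B₀) (F : Facts S W₁ U W₂) :
    F.side.loc.C = ⊥ := by
  classical
  by_contra hC
  obtain ⟨hu3, hd7, hsum⟩ := mass_pair_bound P h hB F
  set D := F.side with hDdef
  have hp : D.loc.p = Nat.card W₂ := rfl
  have hq : D.loc.q = Nat.card W₁ := rfl
  have hq3 : 3 ≤ Nat.card W₁ := hq ▸ D.loc.two_lt_q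
  have hk3 : 3 ≤ Nat.card W₂ := hp ▸ D.loc.two_lt_p
  have hne : Nat.card W₂ ≠ Nat.card W₁ := D.loc.ne
  have hc : 3 ≤ Nat.card D.loc.C := by
    have h1 : Odd (Nat.card D.loc.C) := D.loc.odd.of_dvd_nat (card_subgroup_dvd_card _)
    have h2 : Nat.card D.loc.C ≠ 1 := fun e => hC (Subgroup.eq_bot_of_card_eq _ e)
    obtain ⟨j, hj⟩ := h1
    omega
  set q := Nat.card W₁ with hqdef
  set k := Nat.card W₂ with hkdef
  set d := B.relIndex ⁅T, T⁆ with hddef
  have hu1 : 3 * (D.loc.u * (k - 1)) ≤ Nat.card D.loc.H := by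
    have h1 := D.loc.u_mul_le
    rw [hp, hq] at h1
    rw [D.loc.card_H, hp, hq]
    calc 3 * (D.loc.u * (k - 1)) ≤ 3 * k ^ q := by omega
      _ ≤ Nat.card D.loc.C * k ^ q := Nat.mul_le_mul_right _ hc
      _ = _ := mul_comm _ _
  have hPm : k ^ q ≤ Nat.card D.loc.H := by
    rw [D.loc.card_H, hp, hq]
    exact Nat.le_mul_of_pos_right _ Nat.card_pos
  have hd1 : d * (q - 1) ≤ q ^ k := by
    rcases hB.arith with h | h
    · calc d * (q - 1) ≤ (q ^ k - 1) / (q - 1) * (q - 1) :=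
            Nat.mul_le_mul_right _ (Nat.le_of_dvd (Nat.div_pos (by
              have h1 : q ≤ q ^ k := Nat.le_self_pow (by omega) q
              omega) (by omega)) h)
        _ ≤ q ^ k - 1 := Nat.div_mul_le_self _ _
        _ ≤ q ^ k := Nat.sub_le _ _
    · calc d * (q - 1) ≤ (q - 1) ^ (k - 1) * (q - 1) :=
            Nat.mul_le_mul_right _ (h.trans (Nat.pow_le_pow_left (Nat.div_le_self _ _) _))
        _ = (q - 1) ^ k := by rw [← pow_succ, Nat.sub_add_cancel (by omega)]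
        _ ≤ q ^ k := Nat.pow_le_pow_left (Nat.sub_le _ _) _
  set u := D.loc.u
  set m := Nat.card D.loc.H
  have hqr : (3 : ℝ) ≤ q := by exact_mod_cast hq3
  have hkr : (3 : ℝ) ≤ k := by exact_mod_cast hk3
  have hur : (3 : ℝ) ≤ u := by exact_mod_cast hu3
  have hdr : (6 : ℝ) ≤ d := by exact_mod_cast (le_trans (by norm_num) hd7 : 6 ≤ d)
  have hu1r : (u : ℝ) * ((k : ℝ) - 1) ≤ 1 / 3 * (m : ℝ) := by
    have h' : ((3 * (u * (k - 1)) : ℕ) : ℝ) ≤ (m : ℝ) := by exact_mod_cast hu1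
    rw [Nat.cast_mul, Nat.cast_mul, Nat.cast_sub (by omega)] at h'
    push_cast at h'
    linarith
  have hd1r : (d : ℝ) * ((q : ℝ) - 1) ≤ (q : ℝ) ^ k := by
    have h' : ((d * (q - 1) : ℕ) : ℝ) ≤ ((q ^ k : ℕ) : ℝ) := by exact_mod_cast hd1
    rw [Nat.cast_mul, Nat.cast_sub (by omega)] at h'
    push_cast at h'
    linarith
  have hPmr : (k : ℝ) ^ q ≤ (m : ℝ) := by exact_mod_cast hPm
  have hqk : (0 : ℝ) < (q : ℝ) ^ k := by positivity
  have key : ∀ {r r' e e' : ℝ}, (k : ℝ) / ((k : ℝ) - 1) ≤ r → (q : ℝ) / ((q : ℝ) - 1) ≤ r' →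
      (k : ℝ) ≤ e * (k : ℝ) ^ q → (q : ℝ) ≤ e' * (q : ℝ) ^ k →
      1 / 3 * r + 13 / 12 * e + (1 * r' + 13 / 12 * e') < 2 → False := by
    intro r r' e e' hr hr' he he' hlt
    have hA := side_arith hkr hur (by norm_num) hr (by positivity) hPmr hu1r he
    have hB' := side_arith_one hqr hdr hqk hr' hd1r he'
    have hA' := mul_le_mul_of_nonneg_right hA
      (show (0 : ℝ) ≤ (d : ℝ) * (q : ℝ) ^ k by positivity)
    have hB'' := mul_le_mul_of_nonneg_right hB'
      (show (0 : ℝ) ≤ (u : ℝ) * m by positivity)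
    have hm0 : (0 : ℝ) < m := lt_of_lt_of_le (by positivity) hPmr
    have hlt' := mul_lt_mul_of_pos_left hlt
      (show (0 : ℝ) < 4 * ((u : ℝ) * m) * ((d : ℝ) * (q : ℝ) ^ k) by positivity)
    linarith
  have hdiv : ∀ c x : ℝ, 1 < c → c ≤ x → x / (x - 1) ≤ c / (c - 1) := fun c x hc hx => by
    rw [div_le_div_iff₀ (by linarith) (by linarith)]; nlinarith
  have hpow : ∀ (x y x₀ y₀ : ℕ), x₀ ≤ x → y₀ ≤ y → 1 ≤ x₀ → 1 ≤ y₀ →
      (x : ℝ) ≤ ((x₀ : ℝ) ^ (y₀ - 1))⁻¹ * (x : ℝ) ^ y := by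
    intro x y x₀ y₀ hx hy hx1 hy1
    rw [inv_mul_eq_div, le_div_iff₀ (by positivity)]
    have h' : x * x₀ ^ (y₀ - 1) ≤ x ^ y := calc
      x * x₀ ^ (y₀ - 1) ≤ x * x ^ (y₀ - 1) := Nat.mul_le_mul_left _ (Nat.pow_le_pow_left hx _)
      _ = x ^ (y₀ - 1 + 1) := (pow_succ' _ _).symm
      _ ≤ x ^ y := Nat.pow_le_pow_right (by omega) (by omega)
    exact_mod_cast h'
  rcases le_or_gt 5 k with hk5 | hk5
  · exact key (hdiv 5 _ (by norm_num) (by exact_mod_cast hk5)) (hdiv 3 _ (by norm_num) hqr)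
      (hpow _ _ 5 3 hk5 hq3 (by norm_num) (by norm_num))
      (hpow _ _ 3 5 hq3 hk5 (by norm_num) (by norm_num)) (by norm_num)
  · have hk : k = 3 := by
      rcases eq_or_ne k 4 with h4 | h4
      · exact absurd hB.prime_k (by rw [← hkdef, h4]; norm_num)
      · omega
    have hq5 : 5 ≤ q := by
      rcases eq_or_ne q 4 with h4 | h4
      · exact absurd P.prime_q (by rw [← hqdef, h4]; norm_num)
      · omega
    exact key (hdiv 3 _ (by norm_num) hkr) (hdiv 5 _ (by norm_num) (by exact_mod_cast hq5))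
      (hpow _ _ 3 5 hk3 hq5 (by norm_num) (by norm_num))
      (hpow _ _ 5 3 hq5 hk3 (by norm_num) (by norm_num)) (by norm_num)

end CfsgLib.FT.StepA
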