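import Cfsg.Agent.Lib.FT.StepA.Coherent
import Cfsg.Agent.Lib.FT.StepA.Bridge
import Cfsg.Agent.Lib.FT.StepA.MassIIIIV

/-!
# Step A: the column alternative in Types III and IV

The linear members complete `β` to a real generalized character, so there are at most `(u - 1)/q`
of them, fewer than `|T' : T''|` allows.
-/

set_option autoImplicit false
set_option linter.style.haveILetI false
set_option linter.unusedSectionVars false

namespace CfsgLib.FT.StepA

open _root_.Subgroup Cfsg CfsgLib.Chars CfsgLib.CharsMore CfsgLib.FT.PF13 CfsgLib.FT.Route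
open CfsgLib.FT.BG15 (fittingHallOf_le_sigmaCore)
open scoped ComplexConjugate

universe u

/-- `k ^ q ≤ q ^ k` for `3 ≤ q ≤ k`. -/
theorem pow_le_pow_swap {q k : ℕ} (hq : 3 ≤ q) (hqk : q ≤ k) : k ^ q ≤ q ^ k := by
  induction k, hqk using Nat.le_induction with
  | base => exact le_refl _
  | succ k hk ih =>
    have h : ∀ j, j ≤ k → (k + 1) ^ j * k ^ 2 ≤ k ^ j * (k ^ 2 + j * k + j ^ 2) := by
      intro j hj
      induction j with
      | zero => simp
      | succ j ihj =>
        have h1 := ihj (by omega)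
        have h2 : (k + 1) * (k ^ 2 + j * k + j ^ 2) ≤ k * (k ^ 2 + (j + 1) * k + (j + 1) ^ 2) := by
          have : j * j ≤ j * k := Nat.mul_le_mul_left _ (by omega)
          nlinarith
        calc (k + 1) ^ (j + 1) * k ^ 2 = (k + 1) * ((k + 1) ^ j * k ^ 2) := by ring
          _ ≤ (k + 1) * (k ^ j * (k ^ 2 + j * k + j ^ 2)) := Nat.mul_le_mul_left _ h1
          _ = k ^ j * ((k + 1) * (k ^ 2 + j * k + j ^ 2)) := by ring
          _ ≤ k ^ j * (k * (k ^ 2 + (j + 1) * k + (j + 1) ^ 2)) := Nat.mul_le_mul_left _ h2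
          _ = _ := by ring
    refine Nat.le_of_mul_le_mul_right ?_ (pow_pos (show 0 < k by omega) 2)
    calc (k + 1) ^ q * k ^ 2 ≤ k ^ q * (k ^ 2 + q * k + q ^ 2) := h q hk
      _ ≤ q ^ k * (q * k ^ 2) := by
          refine Nat.mul_le_mul ih ?_
          have : q * k ≤ k * k := Nat.mul_le_mul_right _ hk
          have : q * q ≤ k * k := Nat.mul_le_mul hk hk
          have : 3 * (k * k) ≤ q * (k * k) := Nat.mul_le_mul_right _ hq
          rw [sq, sq]
          linarith
      _ = q ^ (k + 1) * k ^ 2 := by ring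

/-- The final inequality. -/
theorem column_three_four_arith {q k u v X : ℕ} (hq : 3 ≤ q) (hqk : q < k)
    (hu : u * (k - 1) ≤ k ^ q - 1) (hX : X * q + 1 ≤ u) (hv : k * X + 1 = v)
    (hN : (q ^ k - 1) / (q - 1) ≤ v) : False := by
  have hdiv : q - 1 ∣ q ^ k - 1 := by simpa using Nat.sub_dvd_pow_sub_pow q 1 k
  have h1 : q ^ k - 1 ≤ (k * X + 1) * (q - 1) := by
    rw [hv, ← Nat.div_mul_cancel hdiv]
    exact Nat.mul_le_mul_right _ hN
  have h2 : (X * q + 1) * (k - 1) ≤ k ^ q - 1 := (Nat.mul_le_mul_right _ hX).trans hu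
  have hsw := pow_le_pow_swap hq hqk.le
  have hkk : k ≤ k ^ q := Nat.le_self_pow (by omega) k
  obtain ⟨q', rfl⟩ : ∃ q', q = q' + 1 := ⟨q - 1, by omega⟩
  obtain ⟨k', rfl⟩ : ∃ k', k = k' + 1 := ⟨k - 1, by omega⟩
  simp only [Nat.add_sub_cancel] at h1 h2
  obtain ⟨A, hA⟩ : ∃ A, (q' + 1) ^ (k' + 1) = A := ⟨_, rfl⟩
  obtain ⟨B, hB⟩ : ∃ B, (k' + 1) ^ (q' + 1) = B := ⟨_, rfl⟩
  rw [hA] at h1 hsw
  rw [hB] at h2 hsw hkk
  obtain ⟨B', rfl⟩ : ∃ B', B = B' + 1 := ⟨B - 1, by omega⟩
  obtain ⟨A', rfl⟩ : ∃ A', A = A' + 1 := ⟨A - 1, by omega⟩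
  simp only [Nat.add_sub_cancel] at h1 h2
  have e : q' * k' + k' ≥ k' * q' + q' := by nlinarith
  nlinarith [Nat.mul_le_mul_left ((q' + 1) * k') h1, Nat.mul_le_mul_left ((k' + 1) * q') h2,
    Nat.mul_le_mul_left (k' * q') hsw]

namespace Pair

variable {G : Type u} [Group G] {S T W₁ W₂ : Subgroup G} [Fintype G] (P : Pair S T W₁ W₂)
include P

theorem T_nonconj (g : G) : T.map (MulAut.conj g).toMonoidHom ≠ S := by
  intro e
  obtain ⟨U, hU⟩ := P.exists_typeP_S
  have h1 : Nat.card W₂ ∣ Nat.card (⁅S, S⁆ : Subgroup G) :=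
    card_dvd_of_le (hU.W₂_le.trans inf_le_right |>.trans (Subgroup.commutator_le_self _))
  have h2 : Nat.card (⁅S, S⁆ : Subgroup G) = Nat.card (⁅T, T⁆ : Subgroup G) := by
    rw [← e, ← Subgroup.map_commutator, Subgroup.card_map_of_injective (MulAut.conj g).injective]
  rw [h2] at h1
  have := Nat.eq_one_of_dvd_coprimes P.coprime_k dvd_rfl h1
  exact P.selfNorm.2.1 (Subgroup.eq_bot_of_card_eq _ this)

variable [Fintype T] [Fintype S] {μ : (W₁ →* ℂˣ) → (W₂ →* ℂˣ) → T → ℂ} {δ : (W₁ →* ℂˣ) → ℂ}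
  {η : (W₁ →* ℂˣ) → (W₂ →* ℂˣ) → G → ℂ}

/-- `β` and the functions induced from the support in `S` are orthogonal. -/
theorem inner_beta_ind {U : Subgroup G} (F : Facts S W₁ U W₂) (hC : F.side.loc.C = ⊥)
    (l : Kd T →* ℂˣ) {α : S → ℂ} (hα : ∀ s : S, (s : G) ∉ F.side.A → α s = 0) :
    classInner (P.beta l) (indFun S α) = 0 := by
  rw [Chars.inner_def, Finset.sum_eq_zero fun g _ => ?_, mul_zero]
  by_cases hg : ∃ x : G, x⁻¹ * g * x ∈ F.side.A
  · obtain ⟨x, hxS, hx⟩ := hg
    have hval : P.beta l g = P.beta l (x⁻¹ * g * x) := by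
      have := isClassFunction_of_isGeneralized (P.beta_gen l) g x⁻¹
      simpa [mul_assoc] using this.symm
    rw [hval]
    rcases hx with ⟨hH, hne⟩ | ⟨k, a, ha, ha1, y, hy, hy1, e⟩
    · have hP : x⁻¹ * g * x ∈ fittingHallOf S := by
        have : F.side.loc.H = F.side.loc.P := by rw [LocalS.H, hC, sup_bot_eq]
        rw [this] at hH
        exact hH
      have hA1 : x⁻¹ * g * x ∈ typeA1 S := by
        rw [typeA1_eq localFacts8 P.minimal P.coatomS]
        exact ⟨fittingHallOf_le_sigmaCore P.minimal P.coatomS hP, hne⟩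
      rw [beta, Pair.tau, dadeIsometry_eq_zero P.dade_T fun hw => ?_, zero_mul]
      refine tildeA1_disjoint localFacts8 P.minimal P.coatomS P.coatomT P.T_nonconj _
        (mem_tildeOf_self hA1) ?_
      rw [P.typeA1_T, ← dadeSupp_eq_tildeOf]
      exact hw
    · have e' : (k : G) * (x⁻¹ * g * x) * (k : G)⁻¹ = (a : G) * y := congrArg Subtype.val e
      rw [← isClassFunction_of_isGeneralized (P.beta_gen l) (x⁻¹ * g * x) k, e',
        P.beta_regular l _ _ (F.side.coe_mem_W₁ ha) (F.side.coe_mem_W₂ hy)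
          (fun h => ha1 (Subtype.ext h)) (fun h => hy1 (Subtype.ext h)), zero_mul]
  · push Not at hg
    rw [ind_eq_zero F.side hα hg, map_zero, mul_zero]

theorem column_false_three_four (h : IsOfTypeIII T ∨ IsOfTypeIV T) (E : Exc T W₁ W₂ μ δ)
    (hη : Grid W₁ W₂ η) {c : (W₂ →* ℂˣ) → ℤ} (hcol : P.IsColumn η c) : False := by
  classical
  obtain ⟨B, B₀, hB⟩ := exists_quotData P h
  obtain ⟨U, hU⟩ := P.exists_typeP_S
  have F := facts_of_typeII P.minimal P.coatomS hU P.typeII hB.prime_k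
  have hC := kernel_trivial P h hB F
  haveI : Fintype (W₁ →* ℂˣ) := Fintype.ofFinite _
  haveI : Fintype (W₂ →* ℂˣ) := Fintype.ofFinite _
  obtain ⟨hqk, hc1, -, hc0, hcol⟩ := hcol
  obtain ⟨ν, Fν⟩ := P.exists_family E hη
  obtain ⟨L, hL1, hLinj, -, hcount, hL2⟩ := P.exists_reps
  obtain ⟨r, hr⟩ := Finset.card_pos.mp (by omega : 0 < L.card)
  set Sg : G → ℂ := (fun _ => (1 : ℂ)) +
    ∑ a ∈ (Finset.univ : Finset (W₁ →* ℂˣ)).erase 1, η a 1 with hSg
  set R : (Kd T →* ℂˣ) → G → ℂ := fun l => P.beta l - Sg with hR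
  have hSggen : IsGeneralizedCharacter G Sg := mem_genChar.mp ((genChar G).add_mem
    (genChar_of_isCharacter isCharacter_one)
    ((genChar G).sum_mem fun a _ => mem_genChar.mpr (hη.gen a 1)))
  have hSgη : ∀ a b, classInner Sg (η a b) = if b = 1 then 1 else 0 := by
    intro a b
    rw [hSg, Chars.inner_add_left, inner_sum_left,
      Finset.sum_congr rfl fun a' _ => hη.orth a' 1 a b, ← hη.map_one, hη.orth]
    by_cases ha : a = 1 <;> by_cases hb : b = 1 <;> simp [ha, hb, Ne.symm]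
  have hcb : ∀ b, (c b : ℂ) = if b = 1 then 1 else 0 := by
    intro b
    by_cases hb : b = 1
    · rw [hb, hc1, if_pos rfl, Int.cast_one]
    · rw [hc0 hB.prime_k b hb, if_neg hb, Int.cast_zero]
  have hRη : ∀ l, l ≠ 1 → ∀ a b, classInner (R l) (η a b) = 0 := fun l hl a b => by
    rw [hR, Chars.inner_sub_left, hcol l hl, hSgη, hcb, sub_self]
  have hR1 : ∀ l, l ≠ 1 → classInner (R l) (fun _ => 1) = 0 := fun l hl => by
    rw [← hη.map_one]; exact hRη l hl 1 1
  have hRgen : ∀ l, IsGeneralizedCharacter G (R l) := fun l =>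
    isGeneralized_sub (P.beta_gen l) hSggen
  have hSgreal : conjFun Sg = Sg := by
    funext g
    simp only [hSg, conjFun, Pi.add_apply, Finset.sum_apply, map_add, map_one, map_sum]
    congr 1
    refine Finset.sum_nbij' (·⁻¹) (·⁻¹) (fun a ha => Finset.mem_erase.mpr
      ⟨inv_hom_ne (Finset.ne_of_mem_erase ha), Finset.mem_univ _⟩) (fun a ha => Finset.mem_erase.mpr
      ⟨inv_hom_ne (Finset.ne_of_mem_erase ha), Finset.mem_univ _⟩)
      (fun a _ => MonoidHom.ext fun x => inv_inv (a x))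
      (fun a _ => MonoidHom.ext fun x => inv_inv (a x)) fun a _ => ?_
    have h := congrFun (conj_eta hη a 1) g
    rw [one_inv_hom] at h
    exact h
  have hbconj : ∀ l, l ≠ 1 → conjFun (P.beta l) = P.beta l + ν l - ν l⁻¹ := by
    intro l hl
    rw [show conjFun (P.beta l) = P.beta l⁻¹ from ?_, add_sub_assoc, Fν.diff l l⁻¹ hl (P.inv_ne_one hl)]
    · rw [beta, beta, alpha, alpha, P.tau_sub, P.tau_sub, P.tau_sub]
      abel
    · rw [beta, beta, Pair.tau, conjFun_dadeIsometry]
      congr 1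
      funext x
      simp only [alpha, conjFun, Pi.sub_apply, map_sub, P.zeta_inv]
      congr 1
      rw [indOne, indFun_apply, map_mul, map_inv₀, map_natCast, map_sum]
      congr 1
      refine Finset.sum_congr rfl fun y _ => ?_
      by_cases hy : y⁻¹ * x * y ∈ Kd T
      · rw [extendByZero_of_mem _ _ hy, map_one]
      · rw [extendByZero_of_not_mem _ _ hy, map_zero]
  obtain ⟨e, he⟩ : ∃ e : Bool, ∀ l, l ≠ 1 →
      IsIrrCharacter G (if e then ν l else -ν l) := by
    have hdeg : ∀ χ : G → ℂ, IsIrrCharacter G χ → 0 < (χ 1).re := fun χ hχ => by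
      obtain ⟨n, hn0, hn, -⟩ := irr_degree_dvd_card hχ
      rw [hn, Complex.natCast_re]
      exact_mod_cast hn0
    rcases P.fam_irr Fν (hL1 r hr) with h0 | h0
    · refine ⟨true, fun l hl => ?_⟩
      rcases P.fam_irr Fν hl with h1 | h1
      · exact h1
      · have := hdeg _ h0
        have := hdeg _ h1
        rw [P.fam_one Fν (hL1 r hr) hl] at *
        simp only [Pi.neg_apply, Complex.neg_re] at *
        linarith
    · refine ⟨false, fun l hl => ?_⟩
      rcases P.fam_irr Fν hl with h1 | h1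
      · have := hdeg _ h0
        have := hdeg _ h1
        simp only [Pi.neg_apply, Complex.neg_re, P.fam_one Fν (hL1 r hr) hl] at *
        linarith
      · exact h1
  set m : (Kd T →* ℂˣ) → G → ℂ := fun l => if e then ν l else -ν l⁻¹ with hm
  have hmirr : ∀ l, l ≠ 1 → IsIrrCharacter G (m l) := fun l hl => by
    cases e
    · exact he _ (P.inv_ne_one hl)
    · exact he _ hl
  set M : Finset (IrrCharacter G) :=
    L.attach.image fun l => ⟨m l.1, hmirr _ (hL1 _ l.2)⟩ with hM
  have hMcard : M.card = L.card := by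
    rw [hM, Finset.card_image_of_injective, Finset.card_attach]
    intro a b hab
    have h1 : m a.1 = m b.1 := congrArg Subtype.val hab
    have ha := hL1 _ a.2
    have hb := hL1 _ b.2
    refine Subtype.ext (hLinj a.2 b.2 ?_)
    by_contra hne
    have hinj : ∀ {x y : Kd T →* ℂˣ}, x ≠ 1 → y ≠ 1 → ν x = ν y → P.zeta x = P.zeta y := by
      intro x y hx hy exy
      by_contra h'
      have h2 := Fν.inner x y hx hy
      rw [exy, P.fam_norm Fν hy, if_neg h'] at h2
      exact one_ne_zero h2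
    cases e
    · have h2 := hinj (P.inv_ne_one ha) (P.inv_ne_one hb) (neg_injective h1)
      refine hne ?_
      rw [← P.zeta_inv_inv a.1, ← P.zeta_inv_inv b.1, P.zeta_inv a.1⁻¹, P.zeta_inv b.1⁻¹, h2]
    · exact hne (hinj ha hb h1)
  have hbridge := column_bridge F.side hη P.minimal.1 M (fun χ hχ e1 => ?_) fun χ hχ => ?_
  · rw [hMcard] at hbridge
    have hu := F.side.loc.u_mul_le
    exact column_three_four_arith P.three_le_card_W₁ hqk hu hbridge hcount (NT_le_vT P h hB)
  · obtain ⟨l, -, rfl⟩ := Finset.mem_image.mp hχ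
    have hl := hL1 _ l.2
    have e2 : m l.1 = fun _ => 1 := e1
    cases e
    · have h1 := P.fam_inner_one Fν (P.inv_ne_one hl)
      rw [show ν l.1⁻¹ = (-1 : ℂ) • (fun _ => (1 : ℂ)) by
        rw [show (fun _ : G => (1 : ℂ)) = -ν l.1⁻¹ from e2.symm]; simp,
        Chars.inner_smul_left, Chars.inner_one_one] at h1
      norm_num at h1
    · have h1 := P.fam_inner_one Fν hl
      rw [show ν l.1 = fun _ => 1 from e2, Chars.inner_one_one] at h1
      exact one_ne_zero h1
  · obtain ⟨l, -, rfl⟩ := Finset.mem_image.mp hχ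
    have hl := hL1 _ l.2
    refine ⟨R l.1, hRgen _, hR1 _ hl, hRη _ hl, ?_, fun α _ hαs => ?_⟩
    · show conjFun (R l.1 + m l.1) = R l.1 + m l.1
      have hlin : ∀ a b : G → ℂ, conjFun (a + b) = conjFun a + conjFun b := fun a b =>
        funext fun g => by simp [conjFun]
      have hlin' : ∀ a b : G → ℂ, conjFun (a - b) = conjFun a - conjFun b := fun a b =>
        funext fun g => by simp [conjFun]
      have hneg : ∀ a : G → ℂ, conjFun (-a) = -conjFun a := fun a => funext fun g => by simp [conjFun]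
      rw [hlin, hR, hlin', hSgreal, hbconj _ hl]
      cases e
      · simp only [hm, Bool.false_eq_true, if_false, hneg, P.fam_conj Fν (P.inv_ne_one hl)]
        rw [show ν l.1⁻¹⁻¹ = ν l.1 from congrArg ν (MonoidHom.ext fun x => inv_inv (l.1 x))]
        abel
      · simp only [hm, if_true, P.fam_conj Fν hl]
        abel
    · rw [show (fun _ => (1 : ℂ)) + (∑ a ∈ (Finset.univ : Finset (W₁ →* ℂˣ)).erase 1, η a 1) +
        R l.1 = P.beta l.1 by rw [hR, ← hSg]; exact add_sub_cancel Sg (P.beta l.1)]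
      exact P.inner_beta_ind F hC l.1 hαs

end Pair

end CfsgLib.FT.StepA
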