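import Cfsg.Agent.Lib.FT.StepA.Family
import Cfsg.Agent.S1518

/-!
# Step A: a coherence system for the characters induced from `T'`
-/

set_option autoImplicit false
set_option linter.style.haveILetI false
set_option linter.unusedSectionVars false

namespace CfsgLib.FT.StepA

open _root_.Subgroup Cfsg CfsgLib.Chars CfsgLib.CharsMore CfsgLib.FT.PF13
open scoped ComplexConjugate

universe u

variable {G : Type u} [Group G] {S T W₁ W₂ : Subgroup G}

namespace Pair

variable [Fintype G] (P : Pair S T W₁ W₂)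
include P

variable [Fintype T] {μ : (W₁ →* ℂˣ) → (W₂ →* ℂˣ) → T → ℂ} {δ : (W₁ →* ℂˣ) → ℂ}
  {η : (W₁ →* ℂˣ) → (W₂ →* ℂˣ) → G → ℂ}

theorem member_class {φ : T → ℂ} (h : φ ∈ inducedIrrAbove (Kd T) ⊥) : IsCharacter T φ := by
  obtain ⟨θ, hθ, -, -, rfl⟩ := h
  exact isCharacter_indFun _ (isCharacter_of_irr hθ)

theorem member_off {φ : T → ℂ} (h : φ ∈ inducedIrrAbove (Kd T) ⊥) {x : T} (hx : x ∉ Kd T) :
    φ x = 0 := by
  obtain ⟨θ, -, -, -, rfl⟩ := h
  exact indFun_eq_zero_of_notMem _ _ hx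

theorem member_deg {φ : T → ℂ} (h : φ ∈ inducedIrrAbove (Kd T) ⊥) :
    ∃ n : ℕ, 3 ≤ n ∧ φ 1 = n := by
  obtain ⟨θ, hθ, -, -, rfl⟩ := h
  obtain ⟨n, hn0, hn, -⟩ := irr_degree_dvd_card hθ
  refine ⟨Nat.card W₂ * n, le_trans P.three_le_card_W₂ (Nat.le_mul_of_pos_right _ hn0), ?_⟩
  rw [indFun_one_apply, hn, P.index_Kd]
  push_cast
  ring

theorem zspan_gen {α : T → ℂ} (h : α ∈ zspan (inducedIrrAbove (Kd T) ⊥)) :
    IsGeneralizedCharacter T α :=
  mem_genChar.mp ((Submodule.span_le (p := genChar T)).mpr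
    (fun _ hφ => genChar_of_isCharacter (P.member_class hφ)) h)

theorem zspan_off {α : T → ℂ} (h : α ∈ zspan (inducedIrrAbove (Kd T) ⊥)) {x : T} (hx : x ∉ Kd T) :
    α x = 0 := by
  induction h using Submodule.span_induction with
  | mem φ hφ => exact P.member_off hφ hx
  | zero => rfl
  | add a b _ _ ha hb => simp [ha, hb]
  | smul n a _ ha => simp [ha]

theorem member_orth {φ χ : T → ℂ} (hφ : φ ∈ inducedIrrAbove (Kd T) ⊥)
    (hχ : χ ∈ inducedIrrAbove (Kd T) ⊥) (hne : φ ≠ χ) : classInner φ χ = 0 := by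
  classical
  haveI : Fintype (Kd T) := Fintype.ofFinite _
  obtain ⟨θ, hθ, -, -, rfl⟩ := hφ
  obtain ⟨θ', hθ', -, -, rfl⟩ := hχ
  rw [inner_indFun_right _ _ (isClassFunction_indFun _ θ), inner_indFun_restrict (Kd T) hθ hθ']
  haveI : IsEmpty {x : T // conjFn (Kd T) x θ = θ'} :=
    ⟨fun x => hne (by rw [← x.2, indFun_conjFn])⟩
  simp

theorem member_irr_or_theta (E : Exc T W₁ W₂ μ δ) {φ : T → ℂ}
    (h : φ ∈ inducedIrrAbove (Kd T) ⊥) :
    IsIrrCharacter T φ ∨ ∃ a, a ≠ 1 ∧ φ = indFun (Kd T) (P.theta μ a) := by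
  obtain ⟨θ, hθ, hne, -, rfl⟩ := h
  rcases P.irr_or_theta E hθ with h | ⟨a, rfl⟩
  · exact Or.inl h
  · exact Or.inr ⟨a, fun e => hne (by rw [e, P.theta_one E]), rfl⟩

theorem theta_ind_norm (E : Exc T W₁ W₂ μ δ) (a : W₁ →* ℂˣ) :
    classInner (indFun (Kd T) (P.theta μ a)) (indFun (Kd T) (P.theta μ a)) =
      (Nat.card W₂ : ℂ) := by
  classical
  haveI : Fintype (Kd T) := Fintype.ofFinite _
  rw [inner_indFun_self (Kd T) (P.theta_irr E a),
    show inertia (Kd T) (P.theta μ a) = ⊤ from eq_top_iff.mpr fun t _ => P.theta_invariant E a t,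
    relIndex_top_right, P.index_Kd]

theorem theta_ind_not_irr (E : Exc T W₁ W₂ μ δ) (a : W₁ →* ℂˣ) :
    ¬ IsIrrCharacter T (indFun (Kd T) (P.theta μ a)) := by
  intro h
  have h1 := P.theta_ind_norm E a
  rw [irr_inner_self h] at h1
  have h2 : Nat.card W₂ = 1 := by exact_mod_cast h1.symm
  have := P.three_le_card_W₂
  omega

theorem theta_ind_inj (E : Exc T W₁ W₂ μ δ) {a a' : W₁ →* ℂˣ}
    (h : indFun (Kd T) (P.theta μ a) = indFun (Kd T) (P.theta μ a')) : a = a' := by
  haveI : Fintype (Kd T) := Fintype.ofFinite _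
  obtain ⟨g, hg⟩ := (mem_orbitFn (Kd T)).mp
    ((indFun_eq_iff (Kd T) (P.theta_irr E a') (P.theta_irr E a)).mp h)
  exact P.theta_inj E (hg.symm.trans (P.theta_invariant E a' g))

theorem theta_conj (E : Exc T W₁ W₂ μ δ) (a : W₁ →* ℂˣ) :
    conjFun (P.theta μ a) = P.theta μ a⁻¹ := by
  funext x
  show conjFun (μ a 1) x = _
  rw [(P.mu_conj E a 1).1, P.theta_eq E]

theorem inv_ne_hom {a : W₁ →* ℂˣ} (ha : a ≠ 1) : a⁻¹ ≠ a := fun e => ha (MonoidHom.ext fun x => by
  have h1 : a x ^ 2 = 1 := by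
    rw [pow_two]
    nth_rewrite 1 [← DFunLike.congr_fun e x]
    exact inv_mul_cancel (a x)
  have h3 := pow_gcd_eq_one.mpr ⟨h1, hom_apply_pow_card a x⟩
  rwa [Nat.coprime_iff_gcd_eq_one.mp (Nat.coprime_two_left.mpr P.odd_card), pow_one] at h3)

theorem member_conj_ne (E : Exc T W₁ W₂ μ δ) {φ : T → ℂ}
    (h : φ ∈ inducedIrrAbove (Kd T) ⊥) : conjFun φ ≠ φ := by
  intro e
  rcases P.member_irr_or_theta E h with hi | ⟨a, ha, rfl⟩
  · have hreal : ∀ g, (φ g).im = 0 := fun g => Complex.conj_eq_iff_im.mp (congrFun e g)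
    have hp : φ = fun _ => 1 :=
      congrArg Subtype.val (eq_principal_of_real_of_odd P.odd_T ⟨_, hi⟩ hreal)
    obtain ⟨n, hn, hn1⟩ := P.member_deg h
    rw [hp] at hn1
    have : n = 1 := by exact_mod_cast (show (n : ℂ) = (1 : ℂ) from hn1.symm)
    omega
  · rw [conjFun_indFun, P.theta_conj E] at e
    exact P.inv_ne_hom ha (P.theta_ind_inj E e)

/-- Members orthogonal to the constant one. -/
theorem member_inner_one {φ : T → ℂ} (h : φ ∈ inducedIrrAbove (Kd T) ⊥) :
    classInner φ (fun _ => 1) = 0 := by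
  classical
  haveI : Fintype (Kd T) := Fintype.ofFinite _
  obtain ⟨θ, hθ, hne, -, rfl⟩ := h
  rw [inner_indFun _ _ (fun _ _ => rfl), inner_irr_of_isIrr hθ isIrrCharacter_one, if_neg hne]

/-! ### The regular part -/

theorem mul_mem_typeA0 {x y : G} (hx : x ∈ W₁) (hy : y ∈ W₂) (hx1 : x ≠ 1) (hy1 : y ≠ 1) :
    x * y ∈ typeA0 T ∧ x * y ∉ derA T := by
  obtain ⟨V, hV⟩ := P.exists_typeP_T
  have hnd : x * y ∉ (⁅T, T⁆ : Subgroup G) := fun hd => hy1 (by
    have h2 : y ∈ W₂ ⊓ ⁅T, T⁆ := ⟨hy, by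
      simpa using mul_mem (inv_mem (P.W₁_le_derived hx)) hd⟩
    rwa [P.W₂_inf_derived, mem_bot] at h2)
  refine ⟨Or.inr ⟨fun hI => BG16.not_typeF_of_typeP hV hI.1, W₂, V, W₁, hV, 1, T.one_mem, x * y,
      sup_comm W₁ W₂ ▸ mul_mem_sup hx hy, fun hc => hnd ?_, fun hc => hnd (P.W₁_le_derived hc),
      by group⟩, fun hd => hnd hd.1⟩
  have h2 : x ∈ W₂ ⊓ W₁ := ⟨by simpa using W₂.mul_mem hc (W₂.inv_mem hy), hx⟩
  rw [inf_comm, P.selfNorm.2.2.1, mem_bot] at h2
  exact absurd h2 hx1

theorem mu_deg_inv (E : Exc T W₁ W₂ μ δ) (a : W₁ →* ℂˣ) (b : W₂ →* ℂˣ) :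
    μ a⁻¹ b 1 = μ a b 1 := by
  obtain ⟨n, -, hn⟩ := irr_degree_nat (E.irr a b)
  have h1 : μ a⁻¹ b⁻¹ 1 = μ a b 1 := by
    rw [← (P.mu_conj E a b).1, conjFun, hn, Complex.conj_natCast]
  have h2 : ∀ b', μ a⁻¹ b' 1 = P.theta μ a⁻¹ 1 := fun b' => P.theta_eq E a⁻¹ b' 1
  rw [h2, ← h2 b⁻¹, h1]

/-- `μ (a, b) - μ (a⁻¹, b)` is supported in `A₀(T)`. -/
theorem mu_diff_supp (E : Exc T W₁ W₂ μ δ) (a : W₁ →* ℂˣ) (b : W₂ →* ℂˣ) (x : T)
    (hx : (x : G) ∉ typeA0 T) : (μ a b - μ a⁻¹ b) x = 0 := by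
  by_cases hK : x ∈ Kd T
  · have hx1 : x = 1 := by
      by_contra h
      exact hx (P.derA_subset_typeA0 (mem_derA_iff.mpr ⟨hK, h⟩))
    rw [hx1, Pi.sub_apply, P.mu_deg_inv E, sub_self]
  obtain ⟨z, w, y, hw, hy, hy1, e⟩ := P.exists_conj_W hK
  have hw1 : w = 1 := by
    by_contra h
    refine hx ?_
    have hm := (P.mul_mem_typeA0 hw hy (fun e' => h (Subtype.ext e'))
      (fun e' => hy1 (Subtype.ext e'))).1
    have := P.dade_T0.conj_mem (z : G)⁻¹ (T.inv_mem z.2) _ hm
    rwa [show ((w : G) * y) = ((z * x * z⁻¹ : T) : G) by rw [e]; rfl, Subgroup.coe_mul,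
      Subgroup.coe_mul, Subgroup.coe_inv, show (z : G)⁻¹ * (z * x * (z : G)⁻¹) * (z : G)⁻¹⁻¹ = x by
        group] at this
  have hc : ∀ a' b', μ a' b' x = μ a' b' (w * y) := fun a' b' => by
    rw [← e]
    exact (isClassFunction_of_isCharacter (isCharacter_of_irr (E.irr a' b')) x z).symm
  rw [Pi.sub_apply, hc, hc, E.val a b w y hw hy hy1, E.val a⁻¹ b w y hw hy hy1, (P.mu_conj E a b).2]
  subst hw1
  rw [show (⟨((1 : T) : G), hw⟩ : W₁) = 1 from rfl, map_one, map_one, sub_self]

/-- `τ (Ind θ_a - Ind θ_a⁻¹) = δ_a ∑_b (η (a, b) - η (a⁻¹, b))`. -/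
theorem tau_theta_diff (E : Exc T W₁ W₂ μ δ) (hη : Grid W₁ W₂ η) [Fintype (W₂ →* ℂˣ)]
    {a : W₁ →* ℂˣ} (ha : a ≠ 1) :
    P.tau (indFun (Kd T) (P.theta μ a) - indFun (Kd T) (P.theta μ a⁻¹)) =
      ∑ b, δ a • (η a b - η a⁻¹ b) := by
  classical
  haveI : Fintype (W₁ →* ℂˣ) := Fintype.ofFinite _
  haveI : Fintype (Kd T) := Fintype.ofFinite _
  have ha' : a⁻¹ ≠ 1 := fun e => ha (MonoidHom.ext fun x => inv_eq_one.mp (DFunLike.congr_fun e x))
  have hne : a ≠ a⁻¹ := (P.inv_ne_hom ha).symm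
  set A := typeA0 T
  have hD := P.dade_T0
  have hirr := fun a' b' => E.irr a' b'
  have hgen : ∀ b, IsGeneralizedCharacter T (μ a b - μ a⁻¹ b) := fun b =>
    isGeneralized_sub (mem_genChar.mp (genChar_of_irr (hirr a b)))
      (mem_genChar.mp (genChar_of_irr (hirr a⁻¹ b)))
  have hδ : δ a * δ a = 1 := by rcases E.sign a with h | h <;> simp [h]
  have hδg : ∀ f : G → ℂ, IsGeneralizedCharacter G f → IsGeneralizedCharacter G (δ a • f) := by
    intro f hf
    rcases E.sign a with h | h <;> rw [h]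
    · rwa [one_smul]
    · rw [neg_one_smul]
      exact mem_genChar.mp ((genChar G).neg_mem (mem_genChar.mpr hf))
  have key : ∀ b, dadeIsometry A T (supportR T) (μ a b - μ a⁻¹ b) = δ a • (η a b - η a⁻¹ b) := by
    intro b
    have hcl := isClassFunction_of_isGeneralized (hgen b)
    have hone : ∀ a', a' ≠ 1 → classInner (μ a' b) (fun _ => 1) = 0 := fun a' h' => by
      rw [inner_irr_of_isIrr (hirr a' b) isIrrCharacter_one, if_neg]
      intro e
      rw [← (P.mu_one E).1] at e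
      exact h' (P.exc_inj E e).1
    have hn : classInner (μ a b - μ a⁻¹ b) (μ a b - μ a⁻¹ b) = 2 := by
      rw [Chars.inner_sub_left, Chars.inner_sub_right, Chars.inner_sub_right,
        inner_irr_of_isIrr (hirr a b) (hirr a b), inner_irr_of_isIrr (hirr a b) (hirr a⁻¹ b),
        inner_irr_of_isIrr (hirr a⁻¹ b) (hirr a b), inner_irr_of_isIrr (hirr a⁻¹ b) (hirr a⁻¹ b),
        if_pos rfl, if_pos rfl, if_neg fun e => hne (P.exc_inj E e).1,
        if_neg fun e => hne (P.exc_inj E e).1.symm]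
      norm_num
    have h := eq_diff_of_norm_two hη (by rw [P.card_hom_W₁]; exact P.three_le_card_W₁)
      (by rw [P.card_hom_W₂]; exact P.three_le_card_W₂) ha ha' hne
      (f := δ a • dadeIsometry A T (supportR T) (μ a b - μ a⁻¹ b))
      (hδg _ (isGeneralized_dadeIsometry hD (hgen b) (P.mu_diff_supp E a b)))
      (b := b) (fun x y hx hy hx1 hy1 => by
        have hm := (P.mul_mem_typeA0 hx hy hx1 hy1).1
        rw [Pi.smul_apply, show x * y = ((⟨x, P.W₁_le_T hx⟩ * ⟨y, P.W₂_le_T hy⟩ : T) : G) from rfl,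
          dade_apply_self hD hcl hm, Pi.sub_apply,
          E.val a b _ _ hx hy fun e => hy1 (congrArg Subtype.val e),
          E.val a⁻¹ b _ _ hx hy fun e => hy1 (congrArg Subtype.val e), (P.mu_conj E a b).2,
          smul_eq_mul]
        linear_combination
          ((a ⟨x, hx⟩ : ℂ) - (a⁻¹ ⟨x, hx⟩ : ℂ)) * (b ⟨y, hy⟩ : ℂ) * hδ)
      (by
        rw [Chars.inner_smul_left, inner_dade hD hcl (P.mu_diff_supp E a b) (fun _ _ => rfl)]
        have e : classInner (μ a b - μ a⁻¹ b) (invDade A T (supportR T) fun _ => 1) =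
            classInner (μ a b - μ a⁻¹ b) (fun _ => 1) := by
          simp only [Chars.inner_def]
          congr 1
          refine Finset.sum_congr rfl fun x _ => ?_
          by_cases hx : (x : G) ∈ A
          · rw [invDade_one hx]
          · rw [P.mu_diff_supp E a b x hx, zero_mul, zero_mul]
        rw [e, Chars.inner_sub_left, hone a ha, hone a⁻¹ ha', sub_self, mul_zero])
      (by
        rw [Chars.inner_smul_left, Chars.inner_smul_right,
          inner_dadeIsometry_dadeIsometry hD hcl (P.mu_diff_supp E a b) hcl, hn]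
        rcases E.sign a with h | h <;> simp [h])
    rw [← h, smul_smul, hδ, one_smul]
  have hsum : indFun (Kd T) (P.theta μ a) - indFun (Kd T) (P.theta μ a⁻¹) =
      ∑ b, (μ a b - μ a⁻¹ b) := by rw [P.ind_theta E, P.ind_theta E, Finset.sum_sub_distrib]
  have hsupp : ∀ x : T, (x : G) ∉ derA T →
      (indFun (Kd T) (P.theta μ a) - indFun (Kd T) (P.theta μ a⁻¹)) x = 0 := by
    refine P.supported_of ?_ fun x hx => by
      rw [Pi.sub_apply, indFun_eq_zero_of_notMem _ _ hx, indFun_eq_zero_of_notMem _ _ hx, sub_self]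
    rw [hsum, Finset.sum_apply]
    exact Finset.sum_eq_zero fun b _ => by rw [Pi.sub_apply, P.mu_deg_inv E, sub_self]
  have hc : IsClassFunction T (indFun (Kd T) (P.theta μ a) - indFun (Kd T) (P.theta μ a⁻¹)) := by
    intro x y
    rw [Pi.sub_apply, Pi.sub_apply, isClassFunction_indFun _ _ x y, isClassFunction_indFun _ _ x y]
  rw [Pair.tau, ← dade_restrict hD P.dade_T P.derA_subset_typeA0 hc hsupp, hsum,
    ← Finset.sum_congr rfl fun b _ => key b]
  let D : (T → ℂ) →+ (G → ℂ) :=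
    AddMonoidHom.mk' (dadeIsometry A T (supportR T)) (dadeIsometry_add A T (supportR T))
  exact map_sum D _ _

/-- A member's sum of squares. -/
theorem irr_image_orth_grid (hη : Grid W₁ W₂ η) {χ : T → ℂ} (hχ : χ ∈ inducedIrrAbove (Kd T) ⊥)
    (hi : IsIrrCharacter T χ) (hne : conjFun χ ≠ χ) {m : G → ℂ} (hm : IsIrrCharacter G m)
    (he : P.tau (χ - conjFun χ) = m - conjFun m) :
    conjFun m ≠ m ∧ ∀ a b, classInner m (η a b) = 0 ∧ classInner (conjFun m) (η a b) = 0 := by
  classical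
  haveI : Fintype (W₁ →* ℂˣ) := Fintype.ofFinite _
  haveI : Fintype (W₂ →* ℂˣ) := Fintype.ofFinite _
  have hχ' := inducedIrrAbove_conj (Kd T) hχ
  have hd : IsGeneralizedCharacter T (χ - conjFun χ) :=
    isGeneralized_sub (mem_genChar.mp (genChar_of_irr hi))
      (mem_genChar.mp (genChar_of_irr (isIrrCharacter_conj hi)))
  have h1 : (χ - conjFun χ) 1 = 0 := by
    obtain ⟨n, -, hn⟩ := P.member_deg hχ
    rw [Pi.sub_apply, conjFun, hn, Complex.conj_natCast, sub_self]
  have hoff : ∀ x, x ∉ Kd T → (χ - conjFun χ) x = 0 := fun x hx => by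
    rw [Pi.sub_apply, P.member_off hχ hx, P.member_off hχ' hx, sub_self]
  have hcl := isClassFunction_of_isGeneralized hd
  have hmc := isIrrCharacter_conj hm
  have hn2 : classInner (m - conjFun m) (m - conjFun m) = 2 := by
    rw [← he, P.tau_inner hcl h1 hoff hcl, Chars.inner_sub_left, Chars.inner_sub_right,
      Chars.inner_sub_right, irr_inner_self hi,
      show classInner (conjFun χ) (conjFun χ) = 1 from irr_inner_self (isIrrCharacter_conj hi),
      show classInner χ (conjFun χ) = 0 from irr_orth hi (isIrrCharacter_conj hi) (Ne.symm hne),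
      show classInner (conjFun χ) χ = 0 from irr_orth (isIrrCharacter_conj hi) hi hne]
    norm_num
  have hmne : conjFun m ≠ m := fun e => by
    rw [e, sub_self] at hn2
    simp [Chars.inner_def] at hn2
  have hgm := mem_genChar.mp (genChar_of_irr hm)
  have hgmc := mem_genChar.mp (genChar_of_irr hmc)
  refine ⟨hmne, fun a b => ?_⟩
  have heq : classInner m (η a b) = classInner (conjFun m) (η a b) := by
    rw [← sub_eq_zero, ← Chars.inner_sub_left, ← he]
    refine grid_zero_of_norm_two hη (by rw [P.card_hom_W₁]; exact P.three_le_card_W₁)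
      (by rw [P.card_hom_W₂]; exact P.three_le_card_W₂) (P.tau_gen hd h1 hoff)
      (fun x y hx hy hx1 hy1 => P.tau_regular hcl h1 hoff x y hx hy hx1 hy1) ?_ ?_ a b
    · rw [P.tau_inner_one hcl h1 hoff, Chars.inner_sub_left, P.member_inner_one hχ,
        P.member_inner_one hχ', sub_self]
    · rw [he, hn2]
  have h0 := orth_of_equal_coeff hgm hgmc (hη.gen a b) (irr_inner_self hm) (irr_inner_self hmc)
    (by rw [hη.orth, if_pos ⟨rfl, rfl⟩]) (irr_orth hm hmc (Ne.symm hmne)) heq
  exact ⟨h0, heq ▸ h0⟩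

theorem exists_rsystem (E : Exc T W₁ W₂ μ δ) (hη : Grid W₁ W₂ η) :
    ∃ R, IsCoherenceSystem (inducedIrrAbove (Kd T) ⊥) P.tau R := by
  classical
  haveI : Fintype (W₂ →* ℂˣ) := Fintype.ofFinite _
  haveI : Fintype (W₁ →* ℂˣ) := Fintype.ofFinite _
  set Sset := inducedIrrAbove (Kd T) ⊥
  have h18 : ∀ χ : T → ℂ, χ ∈ Sset → IsIrrCharacter T χ →
      ∃ m : G → ℂ, IsIrrCharacter G m ∧ P.tau (χ - conjFun χ) = m - conjFun m :=
    fun χ hχ hi => Cfsg.Agent.S1518.result (derA T) T (supportR T) P.dade_T χ hi fun x hx1 hxA =>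
      P.member_off hχ fun hK => hxA (mem_derA_iff.mpr ⟨hK, hx1⟩)
  let e : (W₁ →* ℂˣ) → Bool × (W₂ →* ℂˣ) → G → ℂ := fun a p =>
    if p.1 then δ a • η a p.2 else (-δ a) • η a⁻¹ p.2
  let R : (T → ℂ) → Finset (G → ℂ) := fun χ =>
    if h : χ ∈ Sset ∧ IsIrrCharacter T χ then
      {(h18 χ h.1 h.2).choose, -conjFun (h18 χ h.1 h.2).choose}
    else if h' : ∃ a, a ≠ 1 ∧ χ = indFun (Kd T) (P.theta μ a) then
      Finset.univ.image (e h'.choose)
    else ∅
  have hRirr : ∀ χ ∈ Sset, IsIrrCharacter T χ → ∃ m : G → ℂ, IsIrrCharacter G m ∧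
      P.tau (χ - conjFun χ) = m - conjFun m ∧ R χ = {m, -conjFun m} := fun χ hχ hi =>
    ⟨_, (h18 χ hχ hi).choose_spec.1, (h18 χ hχ hi).choose_spec.2, by
      simp only [R]; rw [dif_pos ⟨hχ, hi⟩]⟩
  have hRth : ∀ a, a ≠ 1 → R (indFun (Kd T) (P.theta μ a)) = Finset.univ.image (e a) := fun a ha => by
    have h' : ∃ a', a' ≠ 1 ∧ indFun (Kd T) (P.theta μ a) = indFun (Kd T) (P.theta μ a') :=
      ⟨a, ha, rfl⟩
    simp only [R]
    rw [dif_neg fun h => P.theta_ind_not_irr E a h.2, dif_pos h',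
      ← P.theta_ind_inj E h'.choose_spec.2]
  have hδ : ∀ a, δ a * conj (δ a) = 1 := fun a => by rcases E.sign a with h | h <;> simp [h]
  have heg : ∀ a p, ∃ s : ℂ, ∃ a' : W₁ →* ℂˣ, (a' = a ∨ a' = a⁻¹) ∧ e a p = s • η a' p.2 := by
    intro a p
    rcases hp : p.1 with _ | _
    · exact ⟨-δ a, a⁻¹, Or.inr rfl, by simp [e, hp]⟩
    · exact ⟨δ a, a, Or.inl rfl, by simp [e, hp]⟩
  have horth : ∀ a, a ≠ 1 → ∀ p p', classInner (e a p) (e a p') = if p = p' then 1 else 0 := by
    intro a ha p p'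
    have hne := P.inv_ne_hom ha
    obtain ⟨i, b⟩ := p
    obtain ⟨j, b'⟩ := p'
    rcases i <;> rcases j <;>
      simp only [e, Bool.false_eq_true, if_false, if_true, Chars.inner_smul_left,
        Chars.inner_smul_right, hη.orth, Prod.mk.injEq, map_neg]
    · by_cases hb : b = b' <;> simp [hb, hδ a, mul_comm (conj (δ a))]
    · simp [hne]
    · simp [Ne.symm hne]
    · by_cases hb : b = b' <;> simp [hb, hδ a, mul_comm (conj (δ a))]
  have hinj : ∀ a, a ≠ 1 → Function.Injective (e a) := fun a ha p p' h => by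
    by_contra hne
    have h1 := horth a ha p p'
    rw [if_neg hne, h, horth a ha p' p', if_pos rfl] at h1
    exact one_ne_zero h1
  refine ⟨R, ?_⟩
  obtain ⟨L, hL1, -, -, -, hL2⟩ := P.exists_reps
  obtain ⟨l, hl⟩ := Finset.card_pos.mp (by omega : 0 < L.card)
  refine
    { nonempty := ⟨_, P.zeta_mem (hL1 l hl)⟩
      isCharacter := fun χ hχ => P.member_class hχ
      conj_mem := fun χ hχ => inducedIrrAbove_conj (Kd T) hχ
      conj_ne := fun χ hχ => P.member_conj_ne E hχ
      isometry := isLinearIsometryOn_dade P.dade_T (fun α hα => P.zspan_gen hα.1) fun α hα =>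
        P.supported_of (hα.2 1 (by simp)) fun x hx => P.zspan_off hα.1 hx
      map_one := fun α _ => dadeIsometry_one P.dade_T α
      orthogonal := fun χ hχ φ hφ hne => P.member_orth hχ hφ hne
      orthonormal := fun χ hχ α hα β hβ => ?_
      virtual := fun χ hχ α hα => ?_
      sum_eq := fun χ hχ => ?_
      disjoint := fun χ hχ φ hφ h1 h2 α hα β hβ => ?_ }
  · rcases P.member_irr_or_theta E hχ with hi | ⟨a, ha, rfl⟩
    · obtain ⟨m, hm, he, hR⟩ := hRirr χ hχ hi
      obtain ⟨hmne, -⟩ := P.irr_image_orth_grid hη hχ hi (P.member_conj_ne E hχ) hm he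
      rw [hR, Finset.mem_insert, Finset.mem_singleton] at hα hβ
      have hmc : IsIrrCharacter G (conjFun m) := isIrrCharacter_conj hm
      have h0 : classInner m (conjFun m) = 0 := irr_orth hm hmc (Ne.symm hmne)
      have h0' : classInner (conjFun m) m = 0 := irr_orth hmc hm hmne
      have hne' : m ≠ -conjFun m := fun h => by
        have h3 := congrArg (fun f => classInner f m) h
        simp only [show -conjFun m = (-1 : ℂ) • conjFun m by simp, Chars.inner_smul_left,
          irr_inner_self hm, h0', mul_zero] at h3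
        exact one_ne_zero h3
      rcases hα with rfl | rfl <;> rcases hβ with rfl | rfl
      · rw [if_pos rfl, irr_inner_self hm]
      · rw [if_neg hne', show -conjFun α = (-1 : ℂ) • conjFun α by simp, Chars.inner_smul_right, h0,
          mul_zero]
      · rw [if_neg (Ne.symm hne'), show -conjFun β = (-1 : ℂ) • conjFun β by simp,
          Chars.inner_smul_left, h0', mul_zero]
      · rw [if_pos rfl, show -conjFun m = (-1 : ℂ) • conjFun m by simp, Chars.inner_smul_left,
          Chars.inner_smul_right, irr_inner_self hmc]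
        simp
    · rw [hRth a ha, Finset.mem_image] at hα hβ
      obtain ⟨p, -, rfl⟩ := hα
      obtain ⟨p', -, rfl⟩ := hβ
      rw [horth a ha]
      exact if_congr ⟨fun h => by rw [h], fun h => hinj a ha h⟩ rfl rfl
  · rcases P.member_irr_or_theta E hχ with hi | ⟨a, ha, rfl⟩
    · obtain ⟨m, hm, -, hR⟩ := hRirr χ hχ hi
      rw [hR, Finset.mem_insert, Finset.mem_singleton] at hα
      rcases hα with rfl | rfl
      · exact mem_genChar.mp (genChar_of_irr hm)
      · exact mem_genChar.mp ((genChar G).neg_mem (genChar_of_irr (isIrrCharacter_conj hm)))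
    · rw [hRth a ha, Finset.mem_image] at hα
      obtain ⟨⟨i, b⟩, -, rfl⟩ := hα
      rcases E.sign a with h | h <;> rcases i <;>
        simp only [e, h, Bool.false_eq_true, if_false, if_true, one_smul, neg_smul, neg_neg] <;>
        first
        | exact hη.gen _ _
        | exact mem_genChar.mp ((genChar G).neg_mem (mem_genChar.mpr (hη.gen _ _)))
  · rcases P.member_irr_or_theta E hχ with hi | ⟨a, ha, rfl⟩
    · obtain ⟨m, hm, he, hR⟩ := hRirr χ hχ hi
      obtain ⟨hmne, -⟩ := P.irr_image_orth_grid hη hχ hi (P.member_conj_ne E hχ) hm he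
      rw [hR, Finset.sum_pair, he, sub_eq_add_neg]
      intro h
      have h3 := congrArg (fun f => classInner f m) h
      simp only [show -conjFun m = (-1 : ℂ) • conjFun m by simp, Chars.inner_smul_left,
        irr_inner_self hm, show classInner (conjFun m) m = 0 from
          irr_orth (isIrrCharacter_conj hm) hm hmne, mul_zero] at h3
      exact one_ne_zero h3
    · rw [conjFun_indFun, P.theta_conj E, P.tau_theta_diff E hη ha, hRth a ha,
        Finset.sum_image fun p _ p' _ h => hinj a ha h, Fintype.sum_prod_type, Fintype.sum_bool,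
        ← Finset.sum_add_distrib]
      exact Finset.sum_congr rfl fun b _ => by simp [e, smul_sub, sub_eq_add_neg]
  · rcases P.member_irr_or_theta E hχ with hi | ⟨a, ha, rfl⟩ <;>
      rcases P.member_irr_or_theta E hφ with hj | ⟨a', ha', rfl⟩
    · obtain ⟨m, hm, he, hR⟩ := hRirr χ hχ hi
      obtain ⟨m', hm', he', hR'⟩ := hRirr φ hφ hj
      obtain ⟨hmne, -⟩ := P.irr_image_orth_grid hη hχ hi (P.member_conj_ne E hχ) hm he
      obtain ⟨hmne', -⟩ := P.irr_image_orth_grid hη hφ hj (P.member_conj_ne E hφ) hm' he'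
      have hd : ∀ ψ ∈ Sset, IsIrrCharacter T ψ →
          IsGeneralizedCharacter T (ψ - conjFun ψ) ∧ (ψ - conjFun ψ) 1 = 0 ∧
            ∀ x, x ∉ Kd T → (ψ - conjFun ψ) x = 0 := fun ψ hψ hψi => by
        obtain ⟨n, -, hn⟩ := P.member_deg hψ
        exact ⟨isGeneralized_sub (mem_genChar.mp (genChar_of_irr hψi))
          (mem_genChar.mp (genChar_of_irr (isIrrCharacter_conj hψi))),
          by rw [Pi.sub_apply, conjFun, hn, Complex.conj_natCast, sub_self],
          fun x hx => by rw [Pi.sub_apply, P.member_off hψ hx,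
            P.member_off (inducedIrrAbove_conj (Kd T) hψ) hx, sub_self]⟩
      obtain ⟨g1, g2, g3⟩ := hd χ hχ hi
      obtain ⟨g1', -, -⟩ := hd φ hφ hj
      have h0 : classInner (m - conjFun m) (m' - conjFun m') = 0 := by
        rw [← he, ← he', P.tau_inner (isClassFunction_of_isGeneralized g1) g2 g3
          (isClassFunction_of_isGeneralized g1')]
        have p1 : classInner χ φ = 0 := by rw [← inner_conj, h1, map_zero]
        have p2 : classInner χ (conjFun φ) = 0 := by
          rw [← inner_conj]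
          have h3 : classInner (conjFun φ) χ = 0 := by
            rw [← conjFun_conjFun χ, inner_conjFun, h2, map_zero]
          rw [h3, map_zero]
        have p3 : classInner (conjFun χ) φ = 0 := by
          rw [← conjFun_conjFun φ, inner_conjFun, p2, map_zero]
        rw [Chars.inner_sub_left, Chars.inner_sub_right, Chars.inner_sub_right, p1, p2,
          inner_conjFun, p1, p3]
        simp
      obtain ⟨d1, d2⟩ := distinct_of_orth (μ := ⟨m, hm⟩) (μ' := ⟨m', hm'⟩) hmne hmne' h0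
      have hmc : IsIrrCharacter G (conjFun m) := isIrrCharacter_conj hm
      have hmc' : IsIrrCharacter G (conjFun m') := isIrrCharacter_conj hm'
      have o1 : classInner m m' = 0 := irr_orth hm hm' d1
      have o2 : classInner m (conjFun m') = 0 := irr_orth hm hmc' d2
      have o3 : classInner (conjFun m) m' = 0 := by
        rw [← conjFun_conjFun m', inner_conjFun, o2, map_zero]
      have o4 : classInner (conjFun m) (conjFun m') = 0 := by rw [inner_conjFun, o1, map_zero]
      rw [hR', Finset.mem_insert, Finset.mem_singleton] at hα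
      rw [hR, Finset.mem_insert, Finset.mem_singleton] at hβ
      have hnl : ∀ f g : G → ℂ, classInner (-f) g = -classInner f g := fun f g => by
        rw [show -f = (-1 : ℂ) • f by simp, Chars.inner_smul_left, neg_one_mul]
      have hnr : ∀ f g : G → ℂ, classInner f (-g) = -classInner f g := fun f g => by
        rw [show -g = (-1 : ℂ) • g by simp, Chars.inner_smul_right, map_neg, map_one, neg_one_mul]
      rcases hα with rfl | rfl <;> rcases hβ with rfl | rfl <;> rw [← inner_conj] <;>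
        simp [hnl, hnr, o1, o2, o3, o4]
    · obtain ⟨m, hm, he, hR⟩ := hRirr χ hχ hi
      obtain ⟨-, hg⟩ := P.irr_image_orth_grid hη hχ hi (P.member_conj_ne E hχ) hm he
      rw [hRth a' ha', Finset.mem_image] at hα
      rw [hR, Finset.mem_insert, Finset.mem_singleton] at hβ
      obtain ⟨p, -, rfl⟩ := hα
      obtain ⟨s, a'', -, hs⟩ := heg a' p
      rcases hβ with rfl | rfl
      · rw [hs, Chars.inner_smul_left, ← inner_conj, (hg _ _).1, map_zero, mul_zero]
      · rw [hs, Chars.inner_smul_left, show -conjFun m = (-1 : ℂ) • conjFun m by simp,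
          Chars.inner_smul_right, ← inner_conj, (hg _ _).2]
        simp
    · obtain ⟨m, hm, he, hR⟩ := hRirr φ hφ hj
      obtain ⟨-, hg⟩ := P.irr_image_orth_grid hη hφ hj (P.member_conj_ne E hφ) hm he
      rw [hR, Finset.mem_insert, Finset.mem_singleton] at hα
      rw [hRth a ha, Finset.mem_image] at hβ
      obtain ⟨p, -, rfl⟩ := hβ
      obtain ⟨s, a'', -, hs⟩ := heg a p
      rcases hα with rfl | rfl
      · rw [hs, Chars.inner_smul_right, (hg _ _).1, mul_zero]
      · rw [hs, Chars.inner_smul_right, show -conjFun m = (-1 : ℂ) • conjFun m by simp,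
          Chars.inner_smul_left, (hg _ _).2]
        simp
    · rw [hRth a' ha', Finset.mem_image] at hα
      rw [hRth a ha, Finset.mem_image] at hβ
      obtain ⟨p, -, rfl⟩ := hα
      obtain ⟨p', -, rfl⟩ := hβ
      obtain ⟨s, a₁, ha₁, hs⟩ := heg a' p
      obtain ⟨s', a₂, ha₂, hs'⟩ := heg a p'
      have hd1 : a' ≠ a := fun e => by
        subst e
        rw [P.theta_ind_norm E] at h1
        exact (Nat.cast_ne_zero.mpr Nat.card_pos.ne') h1
      have hd2 : a' ≠ a⁻¹ := fun e => by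
        subst e
        rw [conjFun_indFun, P.theta_conj E, P.theta_ind_norm E] at h2
        exact (Nat.cast_ne_zero.mpr Nat.card_pos.ne') h2
      have hd3 : a'⁻¹ ≠ a := fun e => hd2 (by rw [← e]; exact MonoidHom.ext fun x => (inv_inv _).symm)
      have hd4 : a'⁻¹ ≠ a⁻¹ := fun e => hd1 (MonoidHom.ext fun x => inv_injective (DFunLike.congr_fun e x))
      have hne : a₁ ≠ a₂ := by
        rcases ha₁ with rfl | rfl <;> rcases ha₂ with rfl | rfl
        exacts [hd1, hd2, hd3, hd4]
      rw [hs, hs', Chars.inner_smul_left, Chars.inner_smul_right, hη.orth, if_neg fun h => hne h.1,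
        mul_zero, mul_zero]

end Pair

end CfsgLib.FT.StepA
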