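import Cfsg.Agent.Lib.FT.StepA.Central
import Cfsg.Agent.Lib.FT.StepA.RSystem
import Cfsg.Agent.S1522

/-!
# Step A: the constancy on the central subgroup

If `W₁` is central in `T'` the values at `W₁ - {1}` are rational; otherwise the characters induced
from those of `T'` nontrivial on `Z(T') ⊓ T''` form a coherent set orthogonal to the family.
-/

set_option autoImplicit false
set_option linter.style.haveILetI false
set_option linter.unusedSectionVars false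

namespace CfsgLib.FT.StepA

open _root_.Subgroup Cfsg CfsgLib.Chars CfsgLib.CharsMore CfsgLib.FT.PF13
open scoped ComplexConjugate

universe u

theorem mul_right_comm_of {M : Type*} [Semigroup M] (h : ∀ a b : M, a * b = b * a) (a b c : M) :
    a * b * c = a * c * b := by
  rw [mul_assoc, h b c, ← mul_assoc]

namespace Pair

variable {G : Type u} [Group G] {S T W₁ W₂ : Subgroup G} [Fintype G] (P : Pair S T W₁ W₂)
include P

theorem mem_derived_Kd {x : T} :
    x ∈ ⁅Kd T, Kd T⁆ ↔ (x : G) ∈ (⁅⁅T, T⁆, ⁅T, T⁆⁆ : Subgroup G) := by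
  have h : (⁅Kd T, Kd T⁆ : Subgroup T).map T.subtype = ⁅⁅T, T⁆, ⁅T, T⁆⁆ := by
    rw [Subgroup.map_commutator, Kd, map_subgroupOf_eq_of_le P.derived_le]
  rw [← h]
  exact ⟨fun hx => mem_map_of_mem _ hx, fun ⟨y, hy, e⟩ => Subtype.ext e ▸ hy⟩

theorem derived_Kd_lt [Fintype T] : ⁅Kd T, Kd T⁆ < Kd T := by
  refine lt_of_le_of_ne (Subgroup.commutator_le_self _) fun e => ?_
  have h := (vT_mod P).2
  have h1 : (⁅⁅T, T⁆, ⁅T, T⁆⁆ : Subgroup G) = ⁅T, T⁆ := by
    refine le_antisymm (Subgroup.commutator_le_self _) fun x hx => ?_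
    exact P.mem_derived_Kd.mp (e.symm.le (show (⟨x, P.derived_le hx⟩ : T) ∈ Kd T from hx))
  rw [vT, h1, relIndex_self] at h
  omega

theorem Kd_lt_top [Fintype T] : Kd T < ⊤ := lt_top_iff_ne_top.mpr fun e => by
  have h := P.index_Kd
  rw [e, index_top] at h
  have := P.three_le_card_W₂
  omega

theorem frob_Kd : ∀ k ∈ Kd T, k ∉ ⁅Kd T, Kd T⁆ → ∀ x : T,
    x * k * x⁻¹ * k⁻¹ ∈ ⁅Kd T, Kd T⁆ → x ∈ Kd T := by
  intro k hk hk' x hx
  by_contra hxK
  obtain ⟨a, ha, y, hy, rfl⟩ := P.exists_decomp x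
  have hy1 : (y : G) ≠ 1 := fun e => hxK (by rwa [show y = 1 from Subtype.ext e, mul_one])
  refine hk' (P.mem_derived_Kd.mpr (P.fixed_mem (Subgroup.commutator_le_self _) P.W₁_le_derived_two
    P.le_normalizer_derived_two hy hy1 hk ((P.mem_derived_Kd (x := y * k * y⁻¹ * k⁻¹)).mp ?_)))
  have hyk : y * k * y⁻¹ ∈ Kd T := (inferInstance : (Kd T).Normal).conj_mem k hk y
  have hc : a * (y * k * y⁻¹) * a⁻¹ * (y * k * y⁻¹)⁻¹ ∈ ⁅Kd T, Kd T⁆ :=
    commutator_mem_commutator ha hyk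
  have := mul_mem (inv_mem hc) hx
  rwa [show (a * (y * k * y⁻¹) * a⁻¹ * (y * k * y⁻¹)⁻¹)⁻¹ * (a * y * k * (a * y)⁻¹ * k⁻¹) =
    y * k * y⁻¹ * k⁻¹ by group] at this

theorem nilpotent_Kd (hV : IsOfTypeV T) : Group.IsNilpotent (Kd T) := by
  haveI := nilpotent_derived P hV
  exact Group.nilpotent_of_mulEquiv (Subgroup.subgroupOfEquivOfLe P.derived_le).symm

theorem solvable_Kd : Group.IsSolvable (Kd T) := by
  haveI := P.derived_solvable
  exact Group.isSolvable_of_surjective (f := (Subgroup.subgroupOfEquivOfLe P.derived_le).symm.toMonoidHom) (Subgroup.subgroupOfEquivOfLe P.derived_le).symm.surjective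

variable [Fintype T] {ν : (Kd T →* ℂˣ) → G → ℂ}

/-- The members agree on `T''` when `T'` is TI. -/
theorem fam_eq_on_two (hTI : IsTISubset ((⁅T, T⁆ : Subgroup G) : Set G)) (F : LinFamily P ν)
    {l l' : Kd T →* ℂˣ} (hl : l ≠ 1) (hl' : l' ≠ 1) {z : G}
    (hz : z ∈ (⁅⁅T, T⁆, ⁅T, T⁆⁆ : Subgroup G)) (hz1 : z ≠ 1) : ν l z = ν l' z := by
  have hzT : z ∈ (⁅T, T⁆ : Subgroup G) := Subgroup.commutator_le_self _ hz
  have h := congrFun (F.diff l l' hl hl') z
  have hval : P.tau (P.zeta l - P.zeta l') z = 0 := by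
    rw [show z = ((⟨z, P.derived_le hzT⟩ : T) : G) from rfl, Pair.tau,
      dade_apply_self P.dade_T (isClassFunction_of_isGeneralized (P.zeta_sub_gen l l'))
        (show z ∈ derA T from ⟨hzT, hz1⟩), Pi.sub_apply, sub_eq_zero]
    have hlin : ∀ m : Kd T →* ℂˣ, P.zeta m ⟨z, P.derived_le hzT⟩ =
        (Nat.card (Kd T) : ℂ)⁻¹ * (Fintype.card T : ℂ) := by
      intro m
      rw [zeta, indFun_apply, Finset.sum_congr rfl (g := fun _ => (1 : ℂ)) fun y _ => ?_,
        Finset.sum_const, Finset.card_univ, nsmul_one]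
      have hm : (y⁻¹ * ⟨z, P.derived_le hzT⟩ * y : T) ∈ Kd T := by
        simpa using (inferInstance : (Kd T).Normal).conj_mem (⟨z, P.derived_le hzT⟩ : T) hzT y⁻¹
      rw [extendByZero_of_mem _ _ hm]
      have h2 : ((y⁻¹ * ⟨z, P.derived_le hzT⟩ * y : T) : G) ∈
          (⁅⁅T, T⁆, ⁅T, T⁆⁆ : Subgroup G) := by
        simpa using (mem_normalizer_iff.mp (P.le_normalizer_derived_two (inv_mem y.2)) z).mp hz
      rw [P.lin_trivial le_rfl m (x := ⟨_, hm⟩) h2, Units.val_one]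
    rw [hlin, hlin]
  rw [hval, Pi.sub_apply, sub_eq_zero] at h
  exact h

theorem linSigma_ne (σ : ℂ ≃+* ℂ) {l : Kd T →* ℂˣ} (hl : l ≠ 1) :
    (Units.map σ.toRingHom.toMonoidHom).comp l ≠ 1 := fun e =>
  hl (MonoidHom.ext fun x => Units.ext (σ.injective (by
    have h := congrArg (fun f : Kd T →* ℂˣ => ((f x : ℂˣ) : ℂ)) e
    simpa using h)))

theorem galois_zeta (σ : ℂ ≃+* ℂ) (l : Kd T →* ℂˣ) (x : T) :
    σ (P.zeta l x) = P.zeta ((Units.map σ.toRingHom.toMonoidHom).comp l) x := by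
  simp only [zeta, indFun_apply, map_mul, map_inv₀, map_natCast, map_sum]
  congr 1
  refine Finset.sum_congr rfl fun y _ => ?_
  by_cases h : y⁻¹ * x * y ∈ Kd T
  · rw [extendByZero_of_mem _ _ h, extendByZero_of_mem _ _ h]
    rfl
  · rw [extendByZero_of_not_mem _ _ h, extendByZero_of_not_mem _ _ h, map_zero]

/-- An automorphism of `ℂ` maps one member to a member, or the other to the negative of one. -/
theorem galois_family (F : LinFamily P ν) (σ : ℂ ≃+* ℂ) {l l' : Kd T →* ℂˣ} (hl : l ≠ 1)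
    (hl' : l' ≠ 1) (hne : P.zeta l ≠ P.zeta l') :
    (fun g => σ (ν l g)) = ν ((Units.map σ.toRingHom.toMonoidHom).comp l) ∨
      (fun g => σ (ν l' g)) = -ν ((Units.map σ.toRingHom.toMonoidHom).comp l) := by
  classical
  set s : (Kd T →* ℂˣ) → (Kd T →* ℂˣ) := fun m => (Units.map σ.toRingHom.toMonoidHom).comp m
  have hgal : ∀ m, m ≠ 1 → IsGeneralizedCharacter G (fun g => σ (ν m g)) := fun m hm => by
    obtain ⟨χ, ψ, h1, h2, e⟩ := F.gen m hm
    exact ⟨_, _, CharApps.isCharacter_galois h1 σ, CharApps.isCharacter_galois h2 σ,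
      funext fun g => by rw [e]; simp⟩
  have hinn : ∀ m m', m ≠ 1 → m' ≠ 1 →
      classInner (fun g => σ (ν m g)) (fun g => σ (ν m' g)) = σ (classInner (ν m) (ν m')) :=
    fun m m' _ hm' => inner_galois (F.gen m' hm') σ (hgal m' hm') fun _ => rfl
  have hne' : P.zeta (s l') ≠ P.zeta (s l) := fun e => hne (funext fun x => σ.injective (by
    rw [P.galois_zeta, P.galois_zeta]
    exact (congrFun e x).symm))
  refine match_diff (a := ν (s l)) (a' := ν (s l')) (F.gen _ (P.linSigma_ne σ hl)) (hgal l hl)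
    (hgal l' hl') (P.fam_norm F (P.linSigma_ne σ hl)) (by rw [hinn l l hl hl, P.fam_norm F hl, map_one])
    (by rw [hinn l' l' hl' hl', P.fam_norm F hl', map_one])
    (by rw [F.inner _ _ (P.linSigma_ne σ hl') (P.linSigma_ne σ hl), if_neg hne'])
    (by rw [hinn l l' hl hl', F.inner l l' hl hl', if_neg hne, map_zero]) ?_
  rw [F.diff _ _ (P.linSigma_ne σ hl) (P.linSigma_ne σ hl'),
    show ((fun g => σ (ν l g)) - fun g => σ (ν l' g)) = fun g => σ ((ν l - ν l') g) from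
      funext fun g => by simp, F.diff l l' hl hl']
  funext g
  rw [Pair.tau, galois_dade]
  congr 2
  funext x
  simp only [Pi.sub_apply, map_sub, P.galois_zeta, s]

omit [Fintype T] in
theorem exists_exponent_mod {m : ℕ} (hm : m.Coprime (Nat.card W₁)) :
    ∃ m' : ℕ, m'.Coprime (Nat.card G) ∧ m' ≡ m [MOD Nat.card W₁] := by
  haveI : NeZero (Nat.card G) := ⟨Nat.card_pos.ne'⟩
  have hd := card_subgroup_dvd_card W₁
  obtain ⟨u, hu⟩ := ZMod.unitsMap_surjective hd (ZMod.unitOfCoprime m hm)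
  refine ⟨(u : ZMod (Nat.card G)).val, ZMod.val_coe_unit_coprime u, ?_⟩
  rw [← ZMod.natCast_eq_natCast_iff]
  have h := congrArg (fun z : (ZMod (Nat.card W₁))ˣ => (z : ZMod (Nat.card W₁))) hu
  simpa [ZMod.unitsMap_def, ZMod.natCast_val] using h

/-- The values on `W₁ - {1}` are equal when `W₁ ≤ Z(T')`. -/
theorem const_W₁ (hq : IsPGroup (Nat.card W₁) ↥(⁅T, T⁆ : Subgroup G))
    (hTI : IsTISubset ((⁅T, T⁆ : Subgroup G) : Set G)) (F : LinFamily P ν) {l₀ : Kd T →* ℂˣ}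
    (hl₀ : l₀ ≠ 1) : ∀ z ∈ W₁, ∀ z' ∈ W₁, z ≠ 1 → z' ≠ 1 → ν l₀ z = ν l₀ z' := by
  classical
  haveI := Fact.mk P.prime_q
  haveI : NeZero (Nat.card G) := ⟨Nat.card_pos.ne'⟩
  intro z hz z' hz' hz1 hz1'
  obtain ⟨L, hL1, hLinj, hLsurj, hcount, hL2⟩ := P.exists_reps
  have hW : ∀ {x : G}, x ∈ W₁ → x ∈ (⁅⁅T, T⁆, ⁅T, T⁆⁆ : Subgroup G) := fun hx =>
    P.W₁_le_derived_two hx
  have hord : orderOf z = Nat.card W₁ := by
    have h := (Nat.dvd_prime P.prime_q).mp (Subgroup.orderOf_dvd_natCard _ hz)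
    exact h.resolve_left (fun e => hz1 (orderOf_eq_one_iff.mp e))
  have hpow : ∀ m : ℕ, m.Coprime (Nat.card W₁) → z ^ m ≠ 1 := fun m hm e => by
    have h := orderOf_dvd_of_pow_eq_one e
    rw [hord] at h
    exact P.prime_q.ne_one (Nat.eq_one_of_dvd_coprimes hm h dvd_rfl)
  -- the action of an exponent
  have hact : ∀ m : ℕ, m.Coprime (Nat.card W₁) → ∃ m', m' ≡ m [MOD Nat.card W₁] ∧
      m'.Coprime (Nat.card G) ∧ ∃ σ : ℂ ≃+* ℂ, (∀ w : ℂ, w ^ Nat.card G = 1 → σ w = w ^ m') ∧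
        ∀ x ∈ W₁, x ≠ 1 → σ (ν l₀ x) = ν l₀ (x ^ m) := by
    intro m hm
    obtain ⟨m', h1, h2⟩ := P.exists_exponent_mod hm
    obtain ⟨σ, hσ⟩ := CharApps.exists_galois_pow (Nat.card G) h1
    refine ⟨m', h2, h1, σ, hσ, fun x hx _ => ?_⟩
    rw [gen_galois_apply (F.gen l₀ hl₀) σ hσ]
    congr 1
    rw [pow_eq_pow_iff_modEq]
    exact h2.of_dvd (Subgroup.orderOf_dvd_natCard _ hx)
  -- the sign of an exponent
  have hsign : ∀ m : ℕ, m.Coprime (Nat.card W₁) →
      (∀ x ∈ W₁, x ≠ 1 → x ^ m ≠ 1 → ν l₀ (x ^ m) = ν l₀ x) ∨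
        (L.card = 2 ∧ ∀ x ∈ W₁, x ≠ 1 → x ^ m ≠ 1 → ν l₀ (x ^ m) = -ν l₀ x) := by
    intro m hm
    obtain ⟨m', -, -, σ, -, hσ⟩ := hact m hm
    set s : (Kd T →* ℂˣ) → (Kd T →* ℂˣ) := fun l => (Units.map σ.toRingHom.toMonoidHom).comp l
    have hfix : ∀ l, l ≠ 1 → (fun g => σ (ν l g)) = ν (s l) →
        ∀ x ∈ W₁, x ≠ 1 → x ^ m ≠ 1 → ν l₀ (x ^ m) = ν l₀ x := by
      intro l hl e x hx hx1 hxm
      rw [← hσ x hx hx1, P.fam_eq_on_two hTI F hl₀ hl (hW hx) hx1, congrFun e x]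
      exact P.fam_eq_on_two hTI F (P.linSigma_ne σ hl) hl (hW hx) hx1
    obtain ⟨a, ha, b, hb, hab⟩ := Finset.one_lt_card.mp (show 1 < L.card by omega)
    have hzab : P.zeta a ≠ P.zeta b := fun e => hab (hLinj ha hb e)
    rcases P.galois_family F σ (hL1 a ha) (hL1 b hb) hzab with h | h
    · exact Or.inl (hfix a (hL1 a ha) h)
    by_cases h2 : L.card = 2
    · refine Or.inr ⟨h2, fun x hx hx1 hxm => ?_⟩
      rw [← hσ x hx hx1, P.fam_eq_on_two hTI F hl₀ (hL1 b hb) (hW hx) hx1, congrFun h x,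
        Pi.neg_apply, P.fam_eq_on_two hTI F (P.linSigma_ne σ (hL1 a ha)) (hL1 b hb) (hW hx) hx1]
    left
    obtain ⟨c, hc, hcab⟩ : ∃ c ∈ L, c ∉ ({a, b} : Finset (Kd T →* ℂˣ)) :=
      Finset.exists_mem_notMem_of_card_lt_card (Finset.card_le_two.trans_lt (by omega))
    simp only [Finset.mem_insert, Finset.mem_singleton, not_or] at hcab
    rcases P.galois_family F σ (hL1 a ha) (hL1 c hc)
        (fun e => hcab.1 (hLinj hc ha e.symm)) with h' | h'
    · exact hfix a (hL1 a ha) h'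
    · exfalso
      have e : ν b = ν c := funext fun g => σ.injective ((congrFun h g).trans (congrFun h' g).symm)
      have h3 := F.inner b c (hL1 b hb) (hL1 c hc)
      rw [e, P.fam_norm F (hL1 c hc), if_neg fun e' => hcab.2 (hLinj hc hb e'.symm)] at h3
      exact one_ne_zero h3
  -- the exponent from `z` to `z'`
  obtain ⟨m, hm⟩ : ∃ m : ℕ, z ^ m = z' := by
    have htop : zpowers z = W₁ := eq_of_le_of_card_ge (zpowers_le.mpr hz) (by
      rw [Nat.card_zpowers, hord])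
    exact mem_zpowers_iff_mem_range_orderOf.mp (htop ▸ hz') |> Finset.mem_image.mp |>.imp
      fun _ h => h.2
  have hmq : m.Coprime (Nat.card W₁) := by
    refine (P.prime_q.coprime_iff_not_dvd.mpr fun hd => hz1' ?_).symm
    rw [← hm, ← hord] at *
    exact orderOf_dvd_iff_pow_eq_one.mp hd
  rcases hsign m hmq with h | ⟨hL, -⟩
  · rw [← hm, h z hz hz1 (hm ▸ hz1')]
  -- two classes: every residue is a square up to sign
  have hq4 : Nat.card W₁ % 4 = 3 := by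
    obtain ⟨e, he⟩ : ∃ e, vT T = Nat.card W₁ ^ e := by
      obtain ⟨i, hi⟩ := IsPGroup.iff_card.mp hq
      obtain ⟨e, -, he⟩ := (Nat.dvd_prime_pow P.prime_q).mp
        (hi ▸ (show vT T ∣ Nat.card (⁅T, T⁆ : Subgroup G) from
          Dvd.intro _ (CfsgLib.FT.BG15.relIndex_mul_card_of_le (Subgroup.commutator_le_self _))))
      exact ⟨e, he⟩
    have hv : vT T % 4 = 3 := by
      obtain ⟨i, hi⟩ := P.odd_card (X := W₂)
      rw [← hcount, hL, hi]
      omega
    obtain ⟨i, hi⟩ := P.odd_card (X := W₁)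
    rcases (show Nat.card W₁ % 4 = 1 ∨ Nat.card W₁ % 4 = 3 by omega) with h | h
    · rw [he, Nat.pow_mod, h, one_pow] at hv
      simp at hv
    · exact h
  obtain ⟨a, ha⟩ : ∃ a : ZMod (Nat.card W₁), a ^ 2 = (m : ZMod (Nat.card W₁)) ∨
      a ^ 2 = -(m : ZMod (Nat.card W₁)) := by
    by_cases hsq : IsSquare (m : ZMod (Nat.card W₁))
    · obtain ⟨a, ha⟩ := hsq
      exact ⟨a, Or.inl (by rw [ha, sq])⟩
    have hm0 : (m : ZMod (Nat.card W₁)) ≠ 0 := fun e => hsq (e ▸ IsSquare.zero)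
    have hne1 : ¬ IsSquare (-1 : ZMod (Nat.card W₁)) := fun h =>
      ZMod.exists_sq_eq_neg_one_iff.mp h hq4
    rw [ZMod.euler_criterion _ hm0] at hsq
    rw [ZMod.euler_criterion _ (neg_ne_zero.mpr one_ne_zero)] at hne1
    have h1 := (ZMod.pow_div_two_eq_neg_one_or_one _ hm0).resolve_left hsq
    have h2 := (ZMod.pow_div_two_eq_neg_one_or_one _
      (neg_ne_zero.mpr (one_ne_zero (α := ZMod (Nat.card W₁))))).resolve_left hne1
    obtain ⟨a, ha⟩ := (ZMod.euler_criterion _ (neg_ne_zero.mpr hm0)).mpr (by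
      rw [neg_eq_neg_one_mul, mul_pow, h1, h2, neg_one_mul, neg_neg])
    exact ⟨a, Or.inr (by rw [ha, sq])⟩
  have ha0 : a.val.Coprime (Nat.card W₁) := by
    refine (P.prime_q.coprime_iff_not_dvd.mpr fun hd => ?_).symm
    rw [← ZMod.natCast_eq_zero_iff, ZMod.natCast_zmod_val] at hd
    have hm0 : (m : ZMod (Nat.card W₁)) ≠ 0 := fun e =>
      P.prime_q.coprime_iff_not_dvd.mp hmq.symm ((ZMod.natCast_eq_zero_iff _ _).mp e)
    rcases ha with h | h <;> rw [hd, zero_pow two_ne_zero] at h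
    · exact hm0 h.symm
    · exact hm0 (neg_eq_zero.mp h.symm)
  have hsqv : ν l₀ (z ^ (a.val ^ 2)) = ν l₀ z := by
    have hne : z ^ a.val ≠ 1 := hpow _ ha0
    have hne2 : (z ^ a.val) ^ a.val ≠ 1 := by
      rw [← pow_mul]
      exact hpow _ (ha0.mul_left ha0)
    rw [sq, pow_mul]
    rcases hsign a.val ha0 with h | ⟨-, h⟩
    · rw [h _ (W₁.pow_mem hz _) hne hne2, h z hz hz1 hne]
    · rw [h _ (W₁.pow_mem hz _) hne hne2, h z hz hz1 hne, neg_neg]
  rcases ha with ha | ha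
  · rw [← hsqv, ← hm]
    congr 1
    rw [pow_eq_pow_iff_modEq, hord, ← ZMod.natCast_eq_natCast_iff]
    push_cast
    rw [ZMod.natCast_zmod_val, ha]
  · have e : z' = (z ^ (a.val ^ 2))⁻¹ := by
      rw [← hm]
      refine eq_inv_of_mul_eq_one_left ?_
      rw [← pow_add, ← orderOf_dvd_iff_pow_eq_one, hord, ← ZMod.natCast_eq_zero_iff]
      push_cast
      rw [ZMod.natCast_zmod_val, ha, add_neg_cancel]
    rw [e, gen_inv_apply (F.gen l₀ hl₀), show conj (ν l₀ (z ^ (a.val ^ 2))) =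
      conjFun (ν l₀) (z ^ (a.val ^ 2)) from rfl, P.fam_conj F hl₀,
      P.fam_eq_on_two hTI F (P.inv_ne_one hl₀) hl₀ (hW (W₁.pow_mem hz _)) (hpow _ ?_), hsqv]
    rw [sq]
    exact ha0.mul_left ha0

omit [Fintype T] in
theorem central_W₁ (hc : ∀ w ∈ W₁, ∀ y ∈ (⁅T, T⁆ : Subgroup G), w * y = y * w) :
    Central T W₁ := by
  have hall : ∀ t ∈ T, ∀ w ∈ W₁, t * w = w * t := by
    intro t ht w hw
    obtain ⟨a, ha, y, hy, e⟩ := P.exists_decomp (⟨t, ht⟩ : T)
    have e' : t = (a : G) * (y : G) := congrArg Subtype.val e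
    have haw : w * (a : G) = (a : G) * w := hc w hw _ ha
    rw [e', mul_assoc, ← P.commute_W hw hy, ← mul_assoc, ← haw, mul_assoc]
  refine ⟨P.W₁_le_derived_two, P.selfNorm.1, fun t ht w hw => ?_, hc, fun z hz z' hz' _ _ => ?_⟩
  · rwa [hall t ht w hw, mul_inv_cancel_right]
  · have h : ∀ w ∈ W₁, T ⊓ centralizer ({w} : Set G) = T := fun w hw =>
      inf_eq_left.mpr fun t ht => mem_centralizer_singleton_iff.mpr (hall t ht w hw)
    rw [h z hz, h z' hz']

/-- The central subgroup when `W₁` is not central in `T'`. -/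
def centreZ (_P : Pair S T W₁ W₂) : Subgroup G :=
  ⁅⁅T, T⁆, ⁅T, T⁆⁆ ⊓ centralizer ((⁅T, T⁆ : Subgroup G) : Set G)

omit [Fintype T] in
theorem W₁_inf_centreZ (hc : ¬ ∀ w ∈ W₁, ∀ y ∈ (⁅T, T⁆ : Subgroup G), w * y = y * w) :
    W₁ ⊓ P.centreZ = ⊥ := by
  by_contra h
  refine hc fun w hw y hy => ?_
  haveI := Fact.mk P.prime_q
  have heq : W₁ ⊓ P.centreZ = W₁ := by
    refine eq_of_le_of_card_ge inf_le_left ?_
    rcases (Nat.dvd_prime P.prime_q).mp (card_dvd_of_le (inf_le_left : W₁ ⊓ P.centreZ ≤ W₁))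
      with h1 | h1
    · exact absurd (Subgroup.eq_bot_of_card_eq _ h1) h
    · exact h1.ge
  exact (mem_centralizer_iff.mp (heq.ge hw).2.2 y hy).symm

omit [Fintype T] in
theorem centreZ_normal {t : G} (ht : t ∈ T) {z : G} (hz : z ∈ P.centreZ) :
    t * z * t⁻¹ ∈ P.centreZ := by
  refine ⟨(mem_normalizer_iff.mp (P.le_normalizer_derived_two ht) z).mp hz.1,
    mem_centralizer_iff.mpr fun y hy => ?_⟩
  have hy' : t⁻¹ * y * t ∈ (⁅T, T⁆ : Subgroup G) := by
    simpa using (mem_normalizer_iff.mp (P.le_normalizer_derived (inv_mem ht)) y).mp hy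
  have h := mem_centralizer_iff.mp hz.2 _ hy'
  calc y * (t * z * t⁻¹) = t * ((t⁻¹ * y * t) * z) * t⁻¹ := by group
    _ = t * (z * (t⁻¹ * y * t)) * t⁻¹ := by rw [h]
    _ = t * z * t⁻¹ * y := by group

omit [Fintype T] in
theorem centreZ_fixed (hc : ¬ ∀ w ∈ W₁, ∀ y ∈ (⁅T, T⁆ : Subgroup G), w * y = y * w) {y : G}
    (hy : y ∈ W₂) (hy1 : y ≠ 1) {z : G} (hz : z ∈ P.centreZ) (h : y * z = z * y) : z = 1 := by
  have hmem : z ∈ W₁ ⊓ P.centreZ := ⟨by
    rw [← P.centralizer_W₂ hy hy1]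
    exact ⟨Subgroup.commutator_le_self _ hz.1, mem_centralizer_singleton_iff.mpr h.symm⟩, hz⟩
  rwa [P.W₁_inf_centreZ hc, mem_bot] at hmem

omit [Fintype T] in
theorem central_centreZ (hV : IsOfTypeV T)
    (hc : ¬ ∀ w ∈ W₁, ∀ y ∈ (⁅T, T⁆ : Subgroup G), w * y = y * w) : Central T P.centreZ := by
  refine ⟨inf_le_left, ?_, fun t ht z hz => P.centreZ_normal ht hz,
    fun z hz y hy => (mem_centralizer_iff.mp hz.2 y hy).symm, fun z hz z' hz' h1 h1' => ?_⟩
  · set H := (⁅T, T⁆ : Subgroup G)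
    haveI := nilpotent_derived P hV
    intro hbot
    haveI : ((⁅H, H⁆ : Subgroup G).subgroupOf H).Normal :=
      normal_subgroupOf_of_le_normalizer (P.derived_le.trans P.le_normalizer_derived_two)
    have hne : (⁅H, H⁆ : Subgroup G).subgroupOf H ≠ ⊥ := fun e => P.selfNorm.1 (by
      refine le_bot_iff.mp fun w hw => ?_
      have : (⟨w, P.W₁_le_derived hw⟩ : H) ∈ (⁅H, H⁆ : Subgroup G).subgroupOf H :=
        P.W₁_le_derived_two hw
      rw [e, mem_bot] at this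
      exact congrArg Subtype.val this)
    refine CfsgLib.Base.inf_center_ne_bot_of_isNilpotent hne (le_bot_iff.mp fun z hz => ?_)
    have : (z : G) ∈ P.centreZ := ⟨hz.1, mem_centralizer_iff.mpr fun y hy =>
      congrArg Subtype.val (Subgroup.mem_center_iff.mp hz.2 ⟨y, hy⟩)⟩
    rw [hbot, mem_bot] at this
    exact mem_bot.mpr (Subtype.ext this)
  · have h : ∀ w ∈ P.centreZ, w ≠ 1 → T ⊓ centralizer ({w} : Set G) = ⁅T, T⁆ := by
      intro w hw hw1
      refine le_antisymm (fun t ht => ?_) fun a ha => ⟨P.derived_le ha,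
        mem_centralizer_singleton_iff.mpr (mem_centralizer_iff.mp hw.2 a ha)⟩
      obtain ⟨a, ha, y, hy, e⟩ := P.exists_decomp (⟨t, ht.1⟩ : T)
      have e' : t = (a : G) * (y : G) := congrArg Subtype.val e
      by_contra htK
      have hy1 : (y : G) ≠ 1 := fun h' => htK (by rw [e', h', mul_one]; exact ha)
      refine hw1 (P.centreZ_fixed hc hy hy1 hw ?_)
      have hta := mem_centralizer_singleton_iff.mp ht.2
      have haw : (a : G) * w = w * (a : G) := mem_centralizer_iff.mp hw.2 _ ha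
      rw [e'] at hta
      refine mul_left_cancel (a := (a : G)) ?_
      rw [← mul_assoc, hta, ← mul_assoc, ← haw, mul_assoc]
    rw [h z hz h1, h z' hz' h1']

omit [Fintype T] in
theorem le_card_centreZ (hV : IsOfTypeV T)
    (hc : ¬ ∀ w ∈ W₁, ∀ y ∈ (⁅T, T⁆ : Subgroup G), w * y = y * w) :
    2 * Nat.card W₂ + 1 ≤ Nat.card P.centreZ := by
  have hle : P.centreZ ≤ (⁅T, T⁆ : Subgroup G) :=
    inf_le_left.trans (Subgroup.commutator_le_self _)
  have hn : T ≤ normalizer (P.centreZ : Set G) := fun t ht => mem_normalizer_iff.mpr fun z =>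
    ⟨fun h => P.centreZ_normal ht h, fun h => by
      simpa [mul_assoc] using P.centreZ_normal (inv_mem ht) h⟩
  have hb : T ≤ normalizer ((⊥ : Subgroup G) : Set G) := fun t _ => mem_normalizer_iff.mpr
    fun z => by simp
  have hd := card_dvd_relIndex_sub_one P.W₂_le_T (hle.trans P.derived_le) hn hb (inf_bot_eq _)
    fun y hy hy1 z hz hm => mem_bot.mpr (P.centreZ_fixed hc hy hy1 hz (by
      rw [mem_bot, mul_inv_eq_one, mul_inv_eq_iff_eq_mul] at hm
      exact hm))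
  rw [relIndex_bot_left] at hd
  have h1 : Nat.card P.centreZ ≠ 1 := fun h =>
    (P.central_centreZ hV hc).ne_bot (Subgroup.eq_bot_of_card_eq _ h)
  obtain ⟨c, hc'⟩ := hd
  obtain ⟨i, hi⟩ := P.odd_card (X := P.centreZ)
  obtain ⟨j, hj⟩ := P.odd_card (X := W₂)
  rcases Nat.lt_or_ge c 2 with h | h
  · interval_cases c <;> omega
  · have := Nat.mul_le_mul_left (Nat.card W₂) h
    omega

variable {μ : (W₁ →* ℂˣ) → (W₂ →* ℂˣ) → T → ℂ} {δ : (W₁ →* ℂˣ) → ℂ}
  {η : (W₁ →* ℂˣ) → (W₂ →* ℂˣ) → G → ℂ}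

/-- An invariant character is trivial on `centreZ`. -/
theorem trivial_centreZ [Fintype (Kd T)] (hV : IsOfTypeV T)
    (hc : ¬ ∀ w ∈ W₁, ∀ y ∈ (⁅T, T⁆ : Subgroup G), w * y = y * w) {θ : Kd T → ℂ}
    (hθ : IsIrrCharacter (Kd T) θ) (hinv : ∀ t : T, conjFn (Kd T) t θ = θ) {x : Kd T}
    (hx : x ∈ P.inKd P.centreZ) : θ x = θ 1 := by
  classical
  haveI : Fintype (P.inKd P.centreZ) := Fintype.ofFinite _
  have C := P.central_centreZ hV hc
  obtain ⟨ω, hω⟩ := exists_central_char (P.inKd_le_center C) hθ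
  obtain ⟨y, hy, hy1⟩ := P.exists_W₂_ne_one
  have hmem : ∀ z : P.inKd P.centreZ, conjBy (Kd T) y z ∈ P.inKd P.centreZ := fun z => by
    rw [P.mem_inKd, coe_conjBy]
    exact P.centreZ_normal (P.W₂_le_T hy) z.2
  let φ : P.inKd P.centreZ → P.inKd P.centreZ := fun z => ⟨_, hmem z⟩
  have hφmul : ∀ a b, φ (a * b) = φ a * φ b := fun a b =>
    Subtype.ext (map_mul (conjBy (Kd T) y) (a : Kd T) b)
  have hcomm : ∀ a b : P.inKd P.centreZ, a * b = b * a := fun a b =>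
    Subtype.ext (Subgroup.mem_center_iff.mp (P.inKd_le_center C b.2) a)
  have hωφ : ∀ z, ω (φ z) = ω z := fun z => Units.ext (mul_left_cancel₀
    (show θ 1 ≠ 0 from gen_one_ne_zero_of_norm_one (genChar_of_irr hθ)
      (by rw [inner_irr_of_isIrr hθ hθ, if_pos rfl]))
    (by rw [← hω, ← hω]; exact congrFun (hinv y) _))
  have hinj : Function.Injective fun z => φ z * z⁻¹ := by
    intro a b e
    have e1 : φ (a * b⁻¹) = a * b⁻¹ := by
      have : φ b⁻¹ = (φ b)⁻¹ := eq_inv_of_mul_eq_one_left (by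
        rw [← hφmul, inv_mul_cancel]; exact Subtype.ext (map_one (conjBy (Kd T) y)))
      rw [hφmul, this]
      simp only at e
      rw [mul_inv_eq_iff_eq_mul.mp e, mul_right_comm_of hcomm, mul_right_comm_of hcomm (φ b),
        mul_inv_cancel, one_mul, hcomm]
    have h1 : (((a * b⁻¹ : P.inKd P.centreZ) : Kd T) : T).1 = 1 := by
      refine P.centreZ_fixed hc hy (fun h => hy1 (Subtype.ext h)) (a * b⁻¹).2 ?_
      have h2 := congrArg (fun z : P.inKd P.centreZ => (((z : Kd T) : T) : G)) e1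
      simp only [φ] at h2
      rw [coe_conjBy] at h2
      exact mul_inv_eq_iff_eq_mul.mp h2
    exact mul_inv_eq_one.mp (Subtype.ext (Subtype.ext (Subtype.ext h1)))
  obtain ⟨z, hz⟩ := (Finite.injective_iff_surjective.mp hinj) ⟨x, hx⟩
  have this : ω ⟨x, hx⟩ = 1 := by rw [← hz, map_mul, hωφ, map_inv, mul_inv_cancel]
  rw [show θ x = _ from hω ⟨x, hx⟩, this, Units.val_one, mul_one]

/-- The values on `centreZ - {1}` are equal when `W₁` is not central in `T'`. -/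
theorem const_centreZ (hV : IsOfTypeV T)
    (hc : ¬ ∀ w ∈ W₁, ∀ y ∈ (⁅T, T⁆ : Subgroup G), w * y = y * w)
    (hTI : IsTISubset ((⁅T, T⁆ : Subgroup G) : Set G)) (E : Exc T W₁ W₂ μ δ)
    (hη : Grid W₁ W₂ η) (F : LinFamily P ν) {l₀ : Kd T →* ℂˣ} (hl₀ : l₀ ≠ 1) :
    ∀ z ∈ P.centreZ, ∀ z' ∈ P.centreZ, z ≠ 1 → z' ≠ 1 → ν l₀ z = ν l₀ z' := by
  classical
  haveI : Fintype (Kd T) := Fintype.ofFinite _
  haveI := irrFintype (Kd T)
  have C := P.central_centreZ hV hc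
  obtain ⟨R, hR⟩ := P.exists_rsystem E hη
  set ZT := P.centreZ.subgroupOf T with hZT
  haveI : ZT.Normal := ⟨fun a ha t => P.centreZ_normal t.2 ha⟩
  have hZK : ZT ≤ Kd T := fun a ha => Subgroup.commutator_le_self (⁅T, T⁆ : Subgroup G) ha.1
  have hirr : ∀ χ ∈ inducedIrrAbove (Kd T) ⊥ \ inducedIrrAbove (Kd T) ZT, IsIrrCharacter T χ := by
    rintro χ ⟨h1, h2⟩
    rcases P.member_irr_or_theta E h1 with h | ⟨a, ha, rfl⟩
    · exact h
    · refine absurd ((mem_inducedIrrAbove (Kd T) hZK (P.theta_irr E a)).mpr ⟨fun e => ha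
        (P.theta_inj E (e.trans (P.theta_one E).symm)), fun x hx => ?_⟩) h2
      exact P.trivial_centreZ hV hc (P.theta_irr E a) (P.theta_invariant E a) hx
  have hZne : ZT ≠ ⊥ := fun e => C.ne_bot (le_bot_iff.mp fun z hz => by
    have : (⟨z, P.derived_le (Subgroup.commutator_le_self _ hz.1)⟩ : T) ∈ ZT := hz
    rw [e, mem_bot] at this
    exact congrArg Subtype.val this)
  obtain ⟨-, -, τ₁, hτ, hagree⟩ := Cfsg.Agent.S1522.result (Kd T) P.solvable_Kd P.tau R hR P.odd_T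
    (P.nilpotent_Kd hV) P.derived_Kd_lt P.Kd_lt_top P.frob_Kd ZT hZne hZK
    (fun z hz k hk => Subtype.ext (C.central _ hz _ hk)) hirr
  set S₁ := inducedIrrAbove (Kd T) ⊥ \ inducedIrrAbove (Kd T) ZT with hS₁
  have hconjS : ∀ χ ∈ S₁, conjFun χ ∈ S₁ := fun χ h =>
    ⟨inducedIrrAbove_conj (Kd T) h.1, fun h' => h.2 (by
      have := inducedIrrAbove_conj (Kd T) h'
      rwa [conjFun_conjFun] at this)⟩
  have hmem : ∀ χ ∈ S₁, χ ∈ zspan S₁ := fun χ h => Submodule.subset_span h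
  have hd : ∀ χ ∈ S₁, χ - conjFun χ ∈ zspanOn S₁ {1}ᶜ := fun χ h =>
    ⟨(Submodule.span ℤ S₁).sub_mem (hmem χ h) (hmem _ (hconjS χ h)), fun x hx => by
      obtain ⟨n, -, hn⟩ := P.member_deg h.1
      rw [show x = 1 by simpa using hx]
      simp [conjFun, hn]⟩
  have hzT : ∀ l : Kd T →* ℂˣ, l ≠ 1 → P.zeta l ∈ inducedIrrAbove (Kd T) ZT := fun l hl => by
    refine (mem_inducedIrrAbove (Kd T) hZK (isIrrCharacter_linear l)).mpr ⟨fun e => hl
      (MonoidHom.ext fun x => Units.ext (congrFun e x)), fun x hx => ?_⟩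
    rw [P.lin_trivial C.le_two l hx, map_one]
  -- the family is orthogonal to the images
  have horth : ∀ χ ∈ S₁, classInner (ν l₀) (τ₁ χ) = 0 := by
    intro χ hχ
    have hc' := hconjS χ hχ
    have hχne : conjFun χ ≠ χ := P.member_conj_ne E hχ.1
    have hn : ∀ φ ∈ S₁, classInner φ φ = 1 := fun φ h => by
      rw [inner_irr_of_isIrr (hirr φ h) (hirr φ h), if_pos rfl]
    have hperp : classInner χ (conjFun χ) = 0 := P.member_orth hχ.1 hc'.1 (Ne.symm hχne)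
    have hg : ∀ φ ∈ S₁, IsGeneralizedCharacter G (τ₁ φ) := fun φ h => hτ.2.2.2 _ (hmem φ h)
    have hg' : ∀ φ ∈ S₁, IsGeneralizedCharacter G (conjFun (τ₁ φ)) := fun φ h => by
      obtain ⟨a, b, h1, h2, e⟩ := hg φ h
      exact ⟨_, _, isCharacter_conj h1, isCharacter_conj h2, funext fun g => by simp [e, conjFun]⟩
    have hni : ∀ φ ∈ S₁, ∀ ψ ∈ S₁, classInner (τ₁ φ) (τ₁ ψ) = classInner φ ψ := fun φ h ψ h' =>
      hτ.2.2.1 _ (hmem φ h) _ (hmem ψ h')
    have hdiff : τ₁ χ - τ₁ (conjFun χ) = P.tau (χ - conjFun χ) := by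
      rw [← hagree _ (hd χ hχ)]
      exact (isometry_map_sub (M := Submodule.span ℤ S₁) hτ (hmem χ hχ) (hmem _ hc')).symm
    have hdc : conjFun (τ₁ χ) - conjFun (τ₁ (conjFun χ)) = τ₁ (conjFun χ) - τ₁ χ := by
      rw [show conjFun (τ₁ χ) - conjFun (τ₁ (conjFun χ)) = conjFun (τ₁ χ - τ₁ (conjFun χ)) from
        funext fun g => by simp [conjFun], hdiff, ← neg_sub (τ₁ χ), hdiff, Pair.tau,
        conjFun_dadeIsometry, show conjFun (χ - conjFun χ) = -(χ - conjFun χ) from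
          funext fun x => by simp [conjFun]]
      funext g
      simp only [Pi.neg_apply, dadeIsometry]
      split <;> simp
    have hreal : conjFun (τ₁ χ) = τ₁ (conjFun χ) := by
      rcases match_diff (a := τ₁ (conjFun χ)) (a' := τ₁ χ) (hg _ hc') (hg' χ hχ) (hg' _ hc')
          (by rw [hni _ hc' _ hc', hn _ hc']) (by rw [inner_conjFun, hni _ hχ _ hχ, hn _ hχ, map_one])
          (by rw [inner_conjFun, hni _ hc' _ hc', hn _ hc', map_one])
          (by rw [hni _ hχ _ hc', hperp])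
          (by rw [inner_conjFun, hni _ hχ _ hc', hperp, map_zero]) hdc.symm with h | h
      · exact h
      · exfalso
        have h1 := congrFun h 1
        obtain ⟨n, hn1⟩ := genChar_one_int (mem_genChar.mpr (hg _ hc'))
        have hne := gen_one_ne_zero_of_norm_one (mem_genChar.mpr (hg _ hc'))
          (by rw [hni _ hc' _ hc', hn _ hc'])
        simp only [Pi.neg_apply, conjFun, hn1] at h1 hne
        rw [map_intCast] at h1
        exact hne (by linear_combination h1 / 2)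
    refine P.fam_orth_pair F hl₀ (hg χ hχ) (by rw [hni _ hχ _ hχ, hn _ hχ]) hreal ?_
    have hl₀' := P.inv_ne_one hl₀
    have hsep : ∀ l, l ≠ 1 → ∀ φ ∈ S₁, classInner (P.zeta l) φ = 0 := fun l hl φ hφ =>
      P.member_orth (P.zeta_mem hl) hφ.1 fun e => hφ.2 (e ▸ hzT l hl)
    rw [hdiff, F.diff _ _ hl₀ hl₀', P.tau_inner (isClassFunction_of_isGeneralized
        (P.zeta_sub_gen _ _)) (P.zeta_sub_one _ _) (P.zeta_sub_off _ _)
      (isClassFunction_of_isGeneralized (P.zspan_gen ((Submodule.span ℤ _).sub_mem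
        (Submodule.subset_span hχ.1) (Submodule.subset_span hc'.1)))),
      Chars.inner_sub_left, Chars.inner_sub_right, Chars.inner_sub_right, hsep _ hl₀ _ hχ,
      hsep _ hl₀ _ hc', hsep _ hl₀' _ hχ, hsep _ hl₀' _ hc']
    ring
  -- the coefficients are proportional to the degrees
  set f := P.fres (ν l₀) with hf
  have hνc := isClassFunction_of_isGeneralized (F.gen l₀ hl₀)
  have hnt : ∀ φ : IrrCharacter (Kd T), ¬ (∀ x ∈ P.inKd P.centreZ, (φ : Kd T → ℂ) x = (φ : Kd T → ℂ) 1) →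
      indFun (Kd T) (φ : Kd T → ℂ) ∈ S₁ := by
    intro φ hφ
    refine ⟨(mem_inducedIrrAbove_bot (Kd T) φ.2).mpr fun e => hφ fun x _ => by rw [e], fun h => ?_⟩
    exact hφ fun x hx => ((mem_inducedIrrAbove (Kd T) hZK φ.2).mp h).2 x hx
  have hprop : ∀ φ φ' : IrrCharacter (Kd T),
      ¬ (∀ x ∈ P.inKd P.centreZ, (φ : Kd T → ℂ) x = (φ : Kd T → ℂ) 1) →
      ¬ (∀ x ∈ P.inKd P.centreZ, (φ' : Kd T → ℂ) x = (φ' : Kd T → ℂ) 1) →
      (φ' : Kd T → ℂ) 1 * classInner f φ = (φ : Kd T → ℂ) 1 * classInner f φ' := by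
    intro φ φ' hφ hφ'
    obtain ⟨n, hn⟩ := character_degree_nat (isCharacter_of_irr φ.2)
    obtain ⟨n', hn'⟩ := character_degree_nat (isCharacter_of_irr φ'.2)
    set a := indFun (Kd T) (φ : Kd T → ℂ)
    set b := indFun (Kd T) (φ' : Kd T → ℂ)
    set α : T → ℂ := (n' : ℤ) • a - (n : ℤ) • b with hα
    have hαeq : α = indFun (Kd T) ((n' : ℂ) • (φ : Kd T → ℂ) - (n : ℂ) • (φ' : Kd T → ℂ)) := by
      rw [hα, indFun_sub, indFun_smul, indFun_smul, zsmul_eq_cast, zsmul_eq_cast]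
      push_cast
      rfl
    have hspan : α ∈ zspanOn S₁ {1}ᶜ := ⟨(Submodule.span ℤ S₁).sub_mem
      ((Submodule.span ℤ S₁).smul_mem _ (hmem _ (hnt φ hφ)))
      ((Submodule.span ℤ S₁).smul_mem _ (hmem _ (hnt φ' hφ'))), fun x hx => by
        rw [show x = 1 by simpa using hx, hαeq, indFun_one_apply]
        simp [hn, hn', mul_comm]⟩
    have h := P.inner_tau_ind (φ := (n' : ℂ) • (φ : Kd T → ℂ) - (n : ℂ) • (φ' : Kd T → ℂ))
      (fun u v => by
        simp only [Pi.sub_apply, Pi.smul_apply, isClassFunction_irr φ u v,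
          isClassFunction_irr φ' u v]) (by simp [hn, hn', mul_comm]) hνc
    rw [← hαeq, ← hagree α hspan, isometry_map_sub (M := Submodule.span ℤ S₁) hτ
      ((Submodule.span ℤ S₁).smul_mem _ (hmem _ (hnt φ hφ)))
      ((Submodule.span ℤ S₁).smul_mem _ (hmem _ (hnt φ' hφ'))), hτ.2.1 _ (hmem _ (hnt φ hφ)),
      hτ.2.1 _ (hmem _ (hnt φ' hφ')), Chars.inner_sub_right, zsmul_eq_cast, zsmul_eq_cast,
      Chars.inner_smul_right, Chars.inner_smul_right, horth _ (hnt φ hφ), horth _ (hnt φ' hφ'),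
      Chars.inner_sub_right, Chars.inner_smul_right, Chars.inner_smul_right,
      Complex.conj_natCast, Complex.conj_natCast, ← hf, mul_zero, mul_zero, sub_zero] at h
    rw [hn, hn']
    linear_combination -h
  obtain ⟨e, he⟩ : ∃ e : ℂ, ∀ φ : IrrCharacter (Kd T),
      ¬ (∀ x ∈ P.inKd P.centreZ, (φ : Kd T → ℂ) x = (φ : Kd T → ℂ) 1) →
      classInner f φ = e * (φ : Kd T → ℂ) 1 := by
    by_cases h0 : ∃ φ : IrrCharacter (Kd T),
        ¬ (∀ x ∈ P.inKd P.centreZ, (φ : Kd T → ℂ) x = (φ : Kd T → ℂ) 1)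
    · obtain ⟨φ₀, hφ₀⟩ := h0
      have hne : (φ₀ : Kd T → ℂ) 1 ≠ 0 := gen_one_ne_zero_of_norm_one (genChar_of_irr φ₀.2)
        (by rw [inner_irr_of_isIrr φ₀.2 φ₀.2, if_pos rfl])
      refine ⟨classInner f φ₀ / (φ₀ : Kd T → ℂ) 1, fun φ hφ => ?_⟩
      rw [div_mul_eq_mul_div, eq_div_iff hne]
      linear_combination hprop φ φ₀ hφ hφ₀
    · exact ⟨0, fun φ hφ => absurd ⟨φ, hφ⟩ h0⟩
  have hval : ∀ x ∈ P.inKd P.centreZ, x ≠ 1 →
      f x = ∑ φ : IrrCharacter (Kd T), if ∀ x ∈ P.inKd P.centreZ, (φ : Kd T → ℂ) x = (φ : Kd T → ℂ) 1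
        then (classInner f φ - e * (φ : Kd T → ℂ) 1) * (φ : Kd T → ℂ) 1 else 0 := by
    intro x hx hx1
    have h1 := congrFun (classFun_eq_sum (P.fres_class hνc)) x
    rw [← hf] at h1
    rw [h1, Finset.sum_apply, ← sub_eq_zero, ← Finset.sum_sub_distrib]
    calc _ = ∑ φ : IrrCharacter (Kd T), e * ((φ : Kd T → ℂ) 1 * (φ : Kd T → ℂ) x) := by
          refine Finset.sum_congr rfl fun φ _ => ?_
          rw [Pi.smul_apply, smul_eq_mul]
          split
          · next h => rw [h x hx]; ring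
          · next h => rw [he φ h]; ring
      _ = 0 := by rw [← Finset.mul_sum, Chars.sum_degree_mul, if_neg hx1, mul_zero]
  intro z hz z' hz' hz1 hz1'
  have hlift : ∀ w, w ∈ P.centreZ → w ≠ 1 →
      ∃ x : Kd T, x ∈ P.inKd P.centreZ ∧ x ≠ 1 ∧ f x = ν l₀ w := by
    intro w hw hw1
    have hwT : w ∈ (⁅T, T⁆ : Subgroup G) := Subgroup.commutator_le_self _ hw.1
    have hne : (⟨⟨w, P.derived_le hwT⟩, hwT⟩ : Kd T) ≠ 1 := fun h =>
      hw1 (congrArg (fun x : Kd T => ((x : T) : G)) h)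
    exact ⟨_, hw, hne, P.fres_of_TI hTI _ hne⟩
  obtain ⟨x, hx, hx1, ex⟩ := hlift z hz hz1
  obtain ⟨x', hx', hx1', ex'⟩ := hlift z' hz' hz1'
  rw [← ex, ← ex', hval x hx hx1, hval x' hx' hx1']

end Pair

end CfsgLib.FT.StepA
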