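import Cfsg.Agent.Lib.FT.StepA.Basic
import Cfsg.Agent.Lib.FT.InvDade
import Cfsg.Agent.Lib.FT.PF711
import Cfsg.Agent.Lib.FT.Route.Mass

/-!
# The cover of the group by the sets `M̃_σ` and the conjugates of the regular elements of `W`

The part of `G` outside `T̃` carries a norm of at least `(1 - 1/k - 1/(2q+1))/q` of the group for a
class function that has absolute averages at least `1` on the other supports.
-/

set_option autoImplicit false
set_option linter.style.haveILetI false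
set_option linter.unusedSectionVars false

namespace CfsgLib.FT.StepA

open _root_.Subgroup Cfsg CfsgLib.OddOrder CfsgLib.FT.BG15 CfsgLib.Chars

universe u

variable {G : Type u} [Group G] [Finite G] {S T W₁ W₂ : Subgroup G}

theorem tilde_map_eq (g : G) (M : Subgroup G) :
    tildeOf (M.map (MulAut.conj g).toMonoidHom) (typeA1 (M.map (MulAut.conj g).toMonoidHom)) =
      tildeOf M (typeA1 M) := by
  rw [map_typeA1, tildeOf_conj]

theorem Pair.W₂_le_sigmaCore (P : Pair S T W₁ W₂) : W₂ ≤ sigmaCore S := by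
  obtain ⟨U, hU⟩ := P.exists_typeP_S
  exact (hU.W₂_le.trans inf_le_left).trans (fittingHallOf_le_sigmaCore P.minimal P.coatomS)

/-- An element of `M_σ` has order prime to `k` when `M` is not conjugate to `S`. -/
theorem coprime_k_orderOf (P : Pair S T W₁ W₂) {M : Subgroup G} (hM : IsCoatom M)
    (hS : ∀ g : G, M ≠ S.map (MulAut.conj g).toMonoidHom) {x : G} (hx : x ∈ sigmaCore M) :
    (orderOf x).Coprime (Nat.card W₂) := by
  refine Nat.coprime_of_dvd fun p hp h1 h2 => ?_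
  haveI := Fact.mk hp
  obtain ⟨w, hw⟩ := exists_prime_orderOf_dvd_card' (G := W₂) p h2
  refine not_mem_sigma_of_nonconj localFacts8 P.minimal hM P.coatomS (fun g h => hS g h.symm)
    (mem_sigma_of_dvd hx hp h1) (mem_sigma_of_dvd (P.W₂_le_sigmaCore w.2) hp ?_)
  rw [orderOf_coe, hw]

theorem Pair.two_q_lt_card_U (P : Pair S T W₁ W₂) {U : Subgroup G}
    (hD : IsSigmaDecomposition S W₁ U) (hU : U ≠ ⊥) : 2 * Nat.card W₁ + 1 ≤ Nat.card U := by
  obtain ⟨V, hV⟩ := P.exists_typeP_S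
  have hint : U ⊓ sigmaCore S = ⊥ :=
    le_bot_iff.mp ((inf_le_inf_left U le_sup_right).trans hD.compl.2.2.1.le)
  have hfpf : CfsgLib.Base.IsFPF W₁ U := by
    refine ⟨hD.normal, fun x hx hx1 => le_bot_iff.mp fun v hv => ?_⟩
    have hvS : v ∈ (⁅S, S⁆ : Subgroup G) := by
      rw [derived_eq BG15.upstream P.minimal P.coatomS hD P.selfNorm.1]
      exact mem_sup_left hv.1
    have hv2 : v ∈ W₂ := hV.W₂_centralizer x hx hx1 ▸ ⟨hvS, hv.2⟩
    exact hint ▸ ⟨hv.1, P.W₂_le_sigmaCore hv2⟩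
  obtain ⟨c, hc⟩ := hfpf.card_dvd
  have hu1 : Nat.card U ≠ 1 := fun h => hU (Subgroup.eq_bot_of_card_eq _ h)
  have hu : Odd (Nat.card U) := P.odd_card
  have hq : Odd (Nat.card W₁) := P.odd_card
  have hpos : 0 < Nat.card U := Nat.card_pos
  rcases c with _ | _ | c
  · omega
  · obtain ⟨i, hi⟩ := hu
    obtain ⟨j, hj⟩ := hq
    omega
  · have : 2 * Nat.card W₁ ≤ Nat.card U - 1 := by
      rw [hc, mul_comm 2]
      exact Nat.mul_le_mul_left _ (by omega)
    omega

theorem Pair.sigmaCore_inf_centralizer (P : Pair S T W₁ W₂) :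
    sigmaCore T ⊓ centralizer (W₂ : Set G) = W₁ := by
  rw [← P.derivedT]
  refine le_antisymm (fun x hx => ?_) fun x hx =>
    ⟨P.W₁_le_derived hx, mem_centralizer_iff.mpr fun y hy => (P.commute_W hx hy).symm⟩
  obtain ⟨y, hy, hy1⟩ := (Subgroup.bot_or_exists_ne_one W₂).resolve_left P.selfNorm.2.1
  rw [← P.centralizer_W₂ hy hy1]
  exact ⟨hx.1, mem_centralizer_singleton_iff.mpr (mem_centralizer_iff.mp hx.2 y hy).symm⟩

/-- Every element lies in the support of some maximal subgroup or in the regular set. -/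
theorem Pair.covered {G : Type u} [Group G] [Fintype G] {S T W₁ W₂ : Subgroup G}
    (P : Pair S T W₁ W₂) {g : G} (hg : g ≠ 1) :
    (∃ N : Subgroup G, IsCoatom N ∧ g ∈ tildeOf N (typeA1 N)) ∨ g ∈ Route.regSet W₁ W₂ := by
  rcases ((localFacts8.s1379 P.minimal).2.2 T W₂ ⊥ P.coatomT P.decompT P.selfNorm.2.1).1 g hg with
    ⟨N, hN, h⟩ | ⟨y, z, ⟨hz, hz'⟩, rfl⟩
  · exact Or.inl ⟨N, hN, by rwa [typeA1_eq localFacts8 P.minimal hN]⟩
  refine Or.inr (PF13.mem_conjSet.mpr ⟨y⁻¹, ?_⟩)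
  rw [P.sigmaCore_inf_centralizer] at hz hz'
  obtain ⟨b, hb, a, ha, rfl⟩ := (CfsgLib.Coprime.mem_sup_iff_of_le_normalizer
    (fun b hb => centralizer_le_normalizer _ (mem_centralizer_iff.mpr fun a ha =>
      P.commute_W ha hb))).mp hz
  rw [Route.mem_regFin]
  refine ⟨a, ha, ?_, b, hb, ?_, by rw [P.commute_W ha hb]; group⟩
  · rintro rfl
    exact hz' (Or.inl (by simpa using hb))
  · rintro rfl
    exact hz' (Or.inr (by simpa using ha))

/-- The mass of a class function on a support where its averages are at least one. -/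
theorem ncard_le_mass {G : Type u} [Group G] [Fintype G] {A : Set G} {M : Subgroup G}
    {R : G → Subgroup G} (hD : DadeHypothesis A M R) {θ : G → ℂ} (hθ : IsClassFunction G θ)
    (h : ∀ a : M, (a : G) ∈ A → 1 ≤ ‖invDade A M R θ a‖) :
    ((dadeSupp A R).ncard : ℝ) ≤ ∑ᶠ g ∈ dadeSupp A R, ‖θ g‖ ^ 2 := by
  classical
  haveI : Fintype M := Fintype.ofFinite _
  have h1 := norm_invDade_le hD hθ
  rw [inner_self_eq, Complex.ofReal_re] at h1
  have hA : (A.ncard : ℝ) ≤ ∑ a : M, ‖invDade A M R θ a‖ ^ 2 := by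
    calc (A.ncard : ℝ) = ((Finset.univ.filter fun a : M => (a : G) ∈ A).card : ℝ) := by
          rw [← Set.ncard_coe_finset, Set.ncard_congr (fun (a : M) _ => (a : G))
            (fun a ha => (Finset.mem_filter.mp (Finset.mem_coe.mp ha)).2)
            (fun a b _ _ e => Subtype.ext e)
            (fun b hb => ⟨⟨b, hD.subset hb⟩, Finset.mem_coe.mpr
              (Finset.mem_filter.mpr ⟨Finset.mem_univ _, hb⟩), rfl⟩)]
      _ = ∑ _a ∈ Finset.univ.filter fun a : M => (a : G) ∈ A, (1 : ℝ) := by simp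
      _ ≤ ∑ a ∈ Finset.univ.filter fun a : M => (a : G) ∈ A, ‖invDade A M R θ a‖ ^ 2 :=
          Finset.sum_le_sum fun a ha => one_le_pow₀ (h a (Finset.mem_filter.mp ha).2)
      _ ≤ _ := Finset.sum_le_univ_sum_of_nonneg fun a => sq_nonneg _
  have hG : (0 : ℝ) < Nat.card G := Nat.cast_pos.mpr Nat.card_pos
  have hM : (0 : ℝ) < Nat.card M := Nat.cast_pos.mpr Nat.card_pos
  rw [← mul_le_mul_iff_of_pos_left hM, card_dadeSupp hD]
  rw [inv_mul_le_iff₀ hM] at h1
  calc (Nat.card G : ℝ) * A.ncard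
      ≤ (Nat.card G : ℝ) * ((Nat.card M : ℝ) * ((Nat.card G : ℝ)⁻¹ *
        ∑ᶠ g ∈ dadeSupp A R, ‖θ g‖ ^ 2)) := mul_le_mul_of_nonneg_left (hA.trans h1) hG.le
    _ = _ := by field_simp

theorem one_notMem_tilde {G : Type u} [Group G] [Fintype G] {M : Subgroup G} {A : Set G}
    (hD : DadeHypothesis A M (supportR M)) : (1 : G) ∉ tildeOf M A := by
  rw [← dadeSupp_eq_tildeOf]
  rintro ⟨a, ha, hw⟩
  exact not_dadeWit_one hD ha hw

theorem ncard_derA {H : Subgroup G} :
    (((H : Set G) \ {1}).ncard : ℝ) = (Nat.card H : ℝ) - 1 := by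
  have hc : Nat.card ↥H = (H : Set G).ncard := by rw [← Nat.card_coe_set_eq]; rfl
  rw [Set.ncard_sdiff_singleton_of_mem (one_mem H), ← hc,
    Nat.cast_sub (Nat.one_le_iff_ne_zero.mpr Nat.card_pos.ne'), Nat.cast_one]

theorem cover_bound {G : Type u} [Group G] [Fintype G] {S T W₁ W₂ : Subgroup G}
    (P : Pair S T W₁ W₂) (θ : G → ℂ) (hθ : IsClassFunction G θ) (h1 : 1 ≤ ‖θ 1‖)
    (h : ∀ M : Subgroup G, IsCoatom M → (∀ g : G, M ≠ S.map (MulAut.conj g).toMonoidHom) →
      (∀ g : G, M ≠ T.map (MulAut.conj g).toMonoidHom) →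
      ∀ x : M, (x : G) ∈ typeA1 M → 1 ≤ ‖invDade (typeA1 M) M (supportR M) θ x‖) :
    (Nat.card G : ℝ) *
        ((1 - 1 / (Nat.card W₂ : ℝ) - 1 / (2 * (Nat.card W₁ : ℝ) + 1)) / (Nat.card W₁ : ℝ)) ≤
      ∑ᶠ g ∈ {g : G | g ∉ tildeOf T (derA T)}, ‖θ g‖ ^ 2 := by
  classical
  have hF := localFacts8.{u}
  let Other : Subgroup G → Prop := fun M => IsCoatom M ∧
    (∀ g : G, M ≠ S.map (MulAut.conj g).toMonoidHom) ∧
    ∀ g : G, M ≠ T.map (MulAut.conj g).toMonoidHom
  haveI : Fintype (Subgroup G) := Fintype.ofFinite _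
  let Q : Finset (Set G) := (Finset.univ.filter Other).image fun M => tildeOf M (typeA1 M)
  let f : Set G → Finset G := fun X => Finset.univ.filter fun g => g ∈ X
  have hf : ∀ X : Set G, ((f X).card : ℝ) = X.ncard := fun X => by
    rw [← Set.ncard_coe_finset]
    simp [f]
  have hdade : ∀ {M : Subgroup G}, IsCoatom M → DadeHypothesis (typeA1 M) M (supportR M) :=
    fun hM => dadeHypothesis_typeSet hF P.minimal hM (Or.inl rfl)
  have hdisj : (Q : Set (Set G)).PairwiseDisjoint f := by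
    intro X hX Y hY hne
    obtain ⟨M, hM, rfl⟩ := Finset.mem_image.mp (Finset.mem_coe.mp hX)
    obtain ⟨N, hN, rfl⟩ := Finset.mem_image.mp (Finset.mem_coe.mp hY)
    rw [Function.onFun, Finset.disjoint_left]
    intro g hgM hgN
    refine tildeA1_disjoint hF P.minimal (Finset.mem_filter.mp hM).2.1
      (Finset.mem_filter.mp hN).2.1 (fun c hc => hne ?_) g (Finset.mem_filter.mp hgM).2
      (Finset.mem_filter.mp hgN).2
    show tildeOf M (typeA1 M) = tildeOf N (typeA1 N)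
    rw [← hc, tilde_map_eq]
  set U₀ := Q.biUnion f with hU₀
  have hone : (1 : G) ∉ U₀ := by
    intro hg
    obtain ⟨X, hX, hg'⟩ := Finset.mem_biUnion.mp hg
    obtain ⟨M, hM, rfl⟩ := Finset.mem_image.mp hX
    exact one_notMem_tilde (hdade (Finset.mem_filter.mp hM).2.1) (Finset.mem_filter.mp hg').2
  have hmass : (U₀.card : ℝ) ≤ ∑ g ∈ U₀, ‖θ g‖ ^ 2 := by
    rw [hU₀, Finset.card_biUnion hdisj, Finset.sum_biUnion hdisj, Nat.cast_sum]
    refine Finset.sum_le_sum fun X hX => ?_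
    obtain ⟨M, hM, rfl⟩ := Finset.mem_image.mp hX
    obtain ⟨-, hMc, hMS, hMT⟩ := Finset.mem_filter.mp hM
    have hle := ncard_le_mass (hdade hMc) hθ (h M hMc hMS hMT)
    rw [dadeSupp_eq_tildeOf, finsum_mem_eq_toFinset_sum, ← hf] at hle
    refine hle.trans (le_of_eq (Finset.sum_congr ?_ fun _ _ => rfl))
    ext g
    simp [f]
  have hsub : insert 1 U₀ ⊆ Finset.univ.filter fun g : G => g ∉ tildeOf T (derA T) := by
    intro g hg
    refine Finset.mem_filter.mpr ⟨Finset.mem_univ _, ?_⟩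
    rw [← P.typeA1_T]
    rcases Finset.mem_insert.mp hg with rfl | hg
    · exact one_notMem_tilde (hdade P.coatomT)
    obtain ⟨X, hX, hg'⟩ := Finset.mem_biUnion.mp hg
    obtain ⟨M, hM, rfl⟩ := Finset.mem_image.mp hX
    obtain ⟨-, hMc, -, hMT⟩ := Finset.mem_filter.mp hM
    exact tildeA1_disjoint hF P.minimal hMc P.coatomT (fun c hc => hMT c hc.symm) g
      (Finset.mem_filter.mp hg').2
  have hlow : 1 + (U₀.card : ℝ) ≤ ∑ᶠ g ∈ {g : G | g ∉ tildeOf T (derA T)}, ‖θ g‖ ^ 2 := by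
    rw [finsum_mem_eq_toFinset_sum]
    refine le_trans ?_ (Finset.sum_le_sum_of_subset_of_nonneg
      (t := ({g : G | g ∉ tildeOf T (derA T)} : Set G).toFinset) (s := insert 1 U₀)
      (fun g hg => Set.mem_toFinset.mpr (Finset.mem_filter.mp (hsub hg)).2) fun _ _ _ => sq_nonneg _)
    rw [Finset.sum_insert hone]
    exact add_le_add (one_le_pow₀ h1) hmass
  have hcov : (Finset.univ : Finset G) ⊆ insert 1 U₀ ∪ Route.regSet W₁ W₂ ∪
      f (tildeOf S (typeA1 S)) ∪ f (tildeOf T (typeA1 T)) := by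
    intro g _
    simp only [Finset.mem_union, Finset.mem_insert]
    by_cases hg : g = 1
    · exact Or.inl (Or.inl (Or.inl (Or.inl hg)))
    rcases P.covered hg with ⟨N, hN, hgN⟩ | hr
    · by_cases hNS : ∃ c : G, N = S.map (MulAut.conj c).toMonoidHom
      · obtain ⟨c, rfl⟩ := hNS
        rw [tilde_map_eq] at hgN
        exact Or.inl (Or.inr (Finset.mem_filter.mpr ⟨Finset.mem_univ _, hgN⟩))
      by_cases hNT : ∃ c : G, N = T.map (MulAut.conj c).toMonoidHom
      · obtain ⟨c, rfl⟩ := hNT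
        rw [tilde_map_eq] at hgN
        exact Or.inr (Finset.mem_filter.mpr ⟨Finset.mem_univ _, hgN⟩)
      push Not at hNS hNT
      exact Or.inl (Or.inl (Or.inl (Or.inr (Finset.mem_biUnion.mpr ⟨_, Finset.mem_image.mpr
        ⟨N, Finset.mem_filter.mpr ⟨Finset.mem_univ _, hN, hNS, hNT⟩, rfl⟩,
        Finset.mem_filter.mpr ⟨Finset.mem_univ _, hgN⟩⟩))))
    · exact Or.inl (Or.inl (Or.inr hr))
  have hcount : (Nat.card G : ℝ) ≤ 1 + U₀.card + (Route.regSet W₁ W₂).card +
      (f (tildeOf S (typeA1 S))).card + (f (tildeOf T (typeA1 T))).card := by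
    rw [Nat.card_eq_fintype_card, ← Finset.card_univ]
    have h0 := (Finset.card_le_card hcov).trans ((Finset.card_union_le _ _).trans (Nat.add_le_add_right
      ((Finset.card_union_le _ _).trans (Nat.add_le_add_right ((Finset.card_union_le _ _).trans
        (Nat.add_le_add_right (Finset.card_insert_le _ _) _)) _)) _))
    rw [add_comm U₀.card 1] at h0
    exact_mod_cast h0
  have hreg : (Nat.card W₁ : ℝ) * Nat.card W₂ * (Route.regSet W₁ W₂).card =
      (Nat.card G : ℝ) * ((Nat.card W₁ : ℝ) - 1) * ((Nat.card W₂ : ℝ) - 1) := by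
    have hm := Route.mass_regSet P.selfNorm (W₁ := W₁) (W₂ := W₂) (f := fun _ => (1 : ℂ))
      ⟨_, 0, isCharacter_one, isCharacter_zero, (sub_zero _).symm⟩ 0
    simp [Route.mass] at hm
    rw [Nat.cast_sub Fintype.card_pos, Nat.cast_sub Fintype.card_pos] at hm
    simp [Nat.card_eq_fintype_card] at hm ⊢
    linarith
  have hsS : (Nat.card S : ℝ) * (f (tildeOf S (typeA1 S))).card =
      (Nat.card G : ℝ) * ((Nat.card (sigmaCore S) : ℝ) - 1) := by
    rw [hf, ← dadeSupp_eq_tildeOf, card_dadeSupp (hdade P.coatomS),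
      typeA1_eq hF P.minimal P.coatomS, ncard_derA]
  have hsT : (Nat.card T : ℝ) * (f (tildeOf T (typeA1 T))).card =
      (Nat.card G : ℝ) * ((Nat.card (⁅T, T⁆ : Subgroup G) : ℝ) - 1) := by
    rw [hf, ← dadeSupp_eq_tildeOf, card_dadeSupp (hdade P.coatomT),
      typeA1_eq hF P.minimal P.coatomT, ncard_derA, P.derivedT]
  obtain ⟨U, hD, hU⟩ := P.exists_decompS
  have hu : (2 * (Nat.card W₁ : ℝ) + 1) ≤ Nat.card U := by exact_mod_cast P.two_q_lt_card_U hD hU
  have cS : (Nat.card S : ℝ) = Nat.card U * Nat.card (sigmaCore S) * Nat.card W₁ := by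
    rw [← card_mul_card_of_isComplIn P.complS,
      derived_eq BG15.upstream P.minimal P.coatomS hD P.selfNorm.1,
      BG16.card_U_sup_sigmaCore BG15.upstream P.minimal P.coatomS hD]
    push_cast
    ring
  have cT : (Nat.card T : ℝ) = Nat.card (⁅T, T⁆ : Subgroup G) * Nat.card W₂ := by
    rw [← card_mul_card_of_isComplIn P.complT]; push_cast; ring
  have pos : ∀ H : Subgroup G, (0 : ℝ) < Nat.card H := fun H => Nat.cast_pos.mpr Nat.card_pos
  refine le_trans ?_ hlow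
  have hq := pos W₁
  have hk := pos W₂
  have hu0 := pos U
  have hG : (0 : ℝ) < Nat.card G := Nat.cast_pos.mpr Nat.card_pos
  have e1 : ((Route.regSet W₁ W₂).card : ℝ) = (Nat.card G : ℝ) *
      (1 - 1 / (Nat.card W₂ : ℝ) - 1 / (Nat.card W₁ : ℝ) +
        1 / ((Nat.card W₁ : ℝ) * Nat.card W₂)) := by
    field_simp
    linarith
  have e2 : ((f (tildeOf S (typeA1 S))).card : ℝ) ≤
      (Nat.card G : ℝ) * (1 / ((Nat.card W₁ : ℝ) * (2 * (Nat.card W₁ : ℝ) + 1))) := by
    have hS0 : (0 : ℝ) < Nat.card (sigmaCore S) := pos _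
    refine le_trans ?_ (mul_le_mul_of_nonneg_left (div_le_div_of_nonneg_left zero_le_one
      (mul_pos hq (by positivity)) (mul_le_mul_of_nonneg_left hu hq.le)) hG.le)
    rw [mul_one_div, le_div_iff₀ (by positivity)]
    refine le_of_mul_le_mul_left ?_ hS0
    calc (Nat.card (sigmaCore S) : ℝ) * ((f (tildeOf S (typeA1 S))).card *
          ((Nat.card W₁ : ℝ) * Nat.card U))
        = (Nat.card S : ℝ) * (f (tildeOf S (typeA1 S))).card := by rw [cS]; ring
      _ ≤ _ := by rw [hsS]; nlinarith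
  have e3 : ((f (tildeOf T (typeA1 T))).card : ℝ) ≤ (Nat.card G : ℝ) * (1 / (Nat.card W₂ : ℝ)) := by
    have hT0 : (0 : ℝ) < Nat.card (⁅T, T⁆ : Subgroup G) := pos _
    rw [mul_one_div, le_div_iff₀ hk]
    refine le_of_mul_le_mul_left ?_ hT0
    calc (Nat.card (⁅T, T⁆ : Subgroup G) : ℝ) * ((f (tildeOf T (typeA1 T))).card * Nat.card W₂)
        = (Nat.card T : ℝ) * (f (tildeOf T (typeA1 T))).card := by rw [cT]; ring
      _ ≤ _ := by rw [hsT]; nlinarith
  have e4 : (Nat.card G : ℝ) *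
      ((1 - 1 / (Nat.card W₂ : ℝ) - 1 / (2 * (Nat.card W₁ : ℝ) + 1)) / (Nat.card W₁ : ℝ)) =
      (Nat.card G : ℝ) - (Nat.card G : ℝ) *
        (1 - 1 / (Nat.card W₂ : ℝ) - 1 / (Nat.card W₁ : ℝ) +
          1 / ((Nat.card W₁ : ℝ) * Nat.card W₂)) -
        (Nat.card G : ℝ) * (1 / ((Nat.card W₁ : ℝ) * (2 * (Nat.card W₁ : ℝ) + 1))) -
        (Nat.card G : ℝ) * (1 / (Nat.card W₂ : ℝ)) := by
    field_simp
    ring
  rw [e4]
  linarith

end CfsgLib.FT.StepA
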