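import Cfsg.Agent.Lib.FT.StepA.Beta
import Cfsg.Agent.Lib.FT.StepA.Cover
import Cfsg.Agent.Lib.FT.StepA.Arith
import Cfsg.Agent.Lib.BlockOrth.CharSpan

/-!
# Step A: the row alternative

`ψ = ∑_b η (1, b) - β` has norm one and its averages over the cosets `x R(x)` of the maximal
subgroups not conjugate to `S` or `T` are odd integers, so little of it is left for `T̃'`.
-/

set_option autoImplicit false
set_option linter.style.haveILetI false
set_option linter.unusedSectionVars false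

namespace CfsgLib.FT.StepA

open _root_.Subgroup Cfsg CfsgLib.Chars CfsgLib.CharsMore CfsgLib.FT.PF13
open scoped ComplexConjugate IntermediateField

universe u

variable {G : Type u} [Group G] {S T W₁ W₂ : Subgroup G}

/-- A sum invariant under an involution without fixed points is twice an algebraic integer. -/
theorem exists_half_sum {ι : Type*} (s : Finset ι) (g : ι → ι) (f : ι → ℂ)
    (hg : ∀ i ∈ s, g i ∈ s) (hinv : ∀ i, g (g i) = i) (hne : ∀ i ∈ s, g i ≠ i)
    (hf : ∀ i ∈ s, f (g i) = f i) (hint : ∀ i ∈ s, IsIntegral ℤ (f i)) :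
    ∃ y : ℂ, IsIntegral ℤ y ∧ ∑ i ∈ s, f i = 2 * y := by
  classical
  induction s using Finset.strongInduction with
  | _ s ih =>
    rcases s.eq_empty_or_nonempty with rfl | ⟨a, ha⟩
    · exact ⟨0, isIntegral_zero, by simp⟩
    set s' := (s.erase a).erase (g a)
    have hsub : ∀ i ∈ s', i ∈ s := fun i hi => Finset.mem_of_mem_erase (Finset.mem_of_mem_erase hi)
    have hga : g a ∈ s.erase a := Finset.mem_erase.mpr ⟨hne a ha, hg a ha⟩
    have hlt : s' ⊂ s :=
      (Finset.erase_ssubset hga).trans (Finset.erase_ssubset ha)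
    obtain ⟨y, hy, e⟩ := ih s' hlt (fun i hi => by
        simp only [s', Finset.mem_erase] at hi ⊢
        exact ⟨fun h => hi.2.1 (by rw [← hinv i, h, hinv]),
          fun h => hi.1 (by rw [← hinv i, h]), hg i hi.2.2⟩)
      (fun i hi => hne i (hsub i hi)) (fun i hi => hf i (hsub i hi))
      (fun i hi => hint i (hsub i hi))
    refine ⟨y + f a, hy.add (hint a ha), ?_⟩
    rw [← Finset.add_sum_erase _ _ ha, ← Finset.add_sum_erase _ _ hga, e, hf a ha]
    ring

/-- An exponent prime to `N` fixing the first and inverting the second of two coprime orders. -/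
theorem exists_exponent {N a b : ℕ} [NeZero N] (hb : 0 < b) (ha : a ∣ N) (hbN : b ∣ N)
    (hab : a.Coprime b) :
    ∃ m : ℕ, m.Coprime N ∧ m ≡ 1 [MOD a] ∧ m + 1 ≡ 0 [MOD b] := by
  obtain ⟨m₀, h1, h2⟩ := Nat.chineseRemainder hab 1 (b - 1)
  have hcop : m₀.Coprime (a * b) := by
    refine Nat.Coprime.mul_right ?_ ?_
    · show Nat.gcd m₀ a = 1
      rw [h1.gcd_eq, Nat.gcd_one_left]
    · show Nat.gcd m₀ b = 1
      rw [h2.gcd_eq, Nat.gcd_comm, Nat.gcd_self_sub_right hb, Nat.gcd_one_right]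
  have hd : a * b ∣ N := hab.mul_dvd_of_dvd_of_dvd ha hbN
  obtain ⟨u, hu⟩ := ZMod.unitsMap_surjective hd (ZMod.unitOfCoprime m₀ hcop)
  have hmod : (u : ZMod N).val ≡ m₀ [MOD a * b] := by
    rw [← ZMod.natCast_eq_natCast_iff]
    have h := congrArg (fun z : (ZMod (a * b))ˣ => (z : ZMod (a * b))) hu
    simpa [ZMod.unitsMap_def, ZMod.natCast_val] using h
  refine ⟨(u : ZMod N).val, ZMod.val_coe_unit_coprime u, (hmod.of_dvd (dvd_mul_right a b)).trans h1, ?_⟩
  refine (((hmod.of_dvd (dvd_mul_left b a)).trans h2).add_right 1).trans ?_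
  rw [Nat.sub_add_cancel hb]
  exact (Nat.modEq_zero_iff_dvd).mpr dvd_rfl

section Average

variable [Fintype G] {A : Set G} {L : Subgroup G} {R : G → Subgroup G}

/-- The averages of generalized characters over the cosets `a R(a)` are algebraic integers. -/
theorem isIntegral_invDade (hD : DadeHypothesis A L R) {φ : G → ℂ}
    (hφ : IsGeneralizedCharacter G φ) (a : L) : IsIntegral ℤ (invDade A L R φ a) := by
  by_cases ha : (a : G) ∈ A
  · haveI := Fintype.ofFinite (R (a : G))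
    obtain ⟨χ, ψ, hχ, hψ, rfl⟩ := hφ
    have hs : ∀ u ∈ R (a : G), (a : G) * u = u * a := fun u hu =>
      (mem_centralizer_singleton_iff.mp (hD.le_centralizer _ ha hu)).symm
    rw [invDade_of_mem ha, ← finsum_set_coe_eq_finsum_mem, finsum_eq_sum_of_fintype]
    simp only [SetLike.coe_sort_coe, Pi.sub_apply, Finset.sum_sub_distrib, mul_sub]
    exact (BlockOrth.isIntegral_avg_coset hχ _ _ hs).sub (BlockOrth.isIntegral_avg_coset hψ _ _ hs)
  · rw [invDade_of_notMem ha]
    exact isIntegral_zero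

/-- An automorphism fixing the roots of unity of the order of `a` fixes the average at `a`. -/
theorem galois_invDade_fixed (hD : DadeHypothesis A L R) {φ : G → ℂ}
    (hφ : IsGeneralizedCharacter G φ) (σ : ℂ ≃+* ℂ) {m : ℕ} (hm : m.Coprime (Nat.card G))
    (hσ : ∀ z : ℂ, z ^ Nat.card G = 1 → σ z = z ^ m) {a : L} (ha : (a : G) ∈ A)
    (hfix : (a : G) ^ m = a) : σ (invDade A L R φ a) = invDade A L R φ a := by
  haveI := Fintype.ofFinite (R (a : G))
  have hs : ∀ u ∈ R (a : G), Commute (a : G) u := fun u hu =>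
    (mem_centralizer_singleton_iff.mp (hD.le_centralizer _ ha hu)).symm
  rw [invDade_of_mem ha, ← finsum_set_coe_eq_finsum_mem, finsum_eq_sum_of_fintype, map_mul,
    map_inv₀, map_natCast, map_sum]
  congr 1
  simp only [SetLike.coe_sort_coe]
  have hcop : (Nat.card (R (a : G))).Coprime m :=
    hm.symm.coprime_dvd_left (card_subgroup_dvd_card _)
  refine Fintype.sum_equiv (powCoprime hcop) _ _ fun u => ?_
  rw [gen_galois_apply hφ σ hσ, (hs u u.2).mul_pow, hfix]
  rfl

/-- An automorphism acts pointwise on the averages. -/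
theorem galois_invDade (σ : ℂ ≃+* ℂ) {φ φ' : G → ℂ} (h : ∀ g, σ (φ g) = φ' g) (a : L) :
    σ (invDade A L R φ a) = invDade A L R φ' a := by
  simp only [invDade]
  split
  · rw [map_mul, map_inv₀, map_natCast]
    congr 1
    haveI := Fintype.ofFinite (R (a : G))
    rw [← finsum_set_coe_eq_finsum_mem, ← finsum_set_coe_eq_finsum_mem, finsum_eq_sum_of_fintype,
      finsum_eq_sum_of_fintype, map_sum]
    exact Finset.sum_congr rfl fun u _ => h _
  · exact map_zero σ

theorem invDade_sum {ι : Type*} (s : Finset ι) (f : ι → G → ℂ) :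
    invDade A L R (∑ i ∈ s, f i) = ∑ i ∈ s, invDade A L R (f i) := by
  classical
  induction s using Finset.induction_on with
  | empty =>
    funext a
    simp [invDade]
  | insert i s hi ih => rw [Finset.sum_insert hi, Finset.sum_insert hi, invDade_add, ih]

/-- The averages of `∑_b η (1, b)` at the elements of order prime to the order of `W₂` are odd
integers. -/
theorem one_le_norm_avg_sum {η : (W₁ →* ℂˣ) → (W₂ →* ℂˣ) → G → ℂ} (hη : Grid W₁ W₂ η)
    [Fintype (W₂ →* ℂˣ)] (hodd : Odd (Nat.card G))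
    (hk : Fintype.card (W₂ →* ℂˣ) = Nat.card W₂) (hD : DadeHypothesis A L R) {a : L}
    (ha : (a : G) ∈ A) (hcop : (orderOf (a : G)).Coprime (Nat.card W₂)) :
    1 ≤ ‖invDade A L R (∑ b, η 1 b) a‖ := by
  classical
  haveI : NeZero (Nat.card G) := ⟨Nat.card_pos.ne'⟩
  set N := Nat.card G
  obtain ⟨V, hV⟩ : ∃ V : (W₂ →* ℂˣ) → ℂ, ∀ b, V b = invDade A L R (η 1 b) a := ⟨_, fun _ => rfl⟩
  have hsum : invDade A L R (∑ b, η 1 b) a = ∑ b, V b := by
    rw [invDade_sum, Finset.sum_apply]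
    exact Finset.sum_congr rfl fun b _ => (hV b).symm
  have hint : ∀ b, IsIntegral ℤ (V b) := fun b => hV b ▸ isIntegral_invDade hD (hη.gen 1 b) a
  have hperm : ∀ m : ℕ, m.Coprime N → ∀ σ : ℂ ≃+* ℂ, (∀ z : ℂ, z ^ N = 1 → σ z = z ^ m) →
      ∀ b, σ (V b) = V (b ^ m) := fun m hm σ hσ b => by
    rw [hV, hV, galois_invDade σ fun g => by
      rw [hη.galois m σ hm hσ 1 b g,
        show (1 : W₁ →* ℂˣ) ^ m = 1 from MonoidHom.ext fun _ => one_pow m]]
  have hord : ∀ (b : W₂ →* ℂˣ) (x : W₂), b x ^ Nat.card W₂ = 1 := fun b x => by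
    rw [← map_pow, pow_card_eq_one', map_one]
  obtain ⟨m, hm, hm1, hm2⟩ := exists_exponent (N := N) Nat.card_pos (orderOf_dvd_natCard (a : G))
    (card_subgroup_dvd_card W₂) hcop
  have hconj : ∀ b, V b⁻¹ = V b := by
    intro b
    obtain ⟨σ, hσ⟩ := CharApps.exists_galois_pow N hm
    have h := hperm m hm σ hσ b
    rw [hV b, galois_invDade_fixed hD (hη.gen 1 b) σ hm hσ ha
      (by rw [pow_eq_pow_iff_modEq.mpr hm1, pow_one]), ← hV] at h
    rw [h]
    refine congrArg V (MonoidHom.ext fun x => inv_eq_of_mul_eq_one_right ?_)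
    obtain ⟨j, hj⟩ := Nat.modEq_zero_iff_dvd.mp hm2
    show b x * b x ^ m = 1
    rw [← pow_succ', hj, pow_mul, hord, one_pow]
  have hne : ∀ b ∈ (Finset.univ : Finset (W₂ →* ℂˣ)).erase 1, b⁻¹ ≠ b := by
    intro b hb e
    refine Finset.ne_of_mem_erase hb (MonoidHom.ext fun x => ?_)
    have h2 : b x ^ 2 = 1 := by
      rw [pow_two]
      nth_rewrite 1 [← DFunLike.congr_fun e x]
      exact inv_mul_cancel (b x)
    have h3 := pow_gcd_eq_one.mpr ⟨h2, hord b x⟩
    rwa [Nat.coprime_iff_gcd_eq_one.mp (Nat.coprime_two_left.mpr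
      (hodd.of_dvd_nat (card_subgroup_dvd_card W₂))), pow_one] at h3
  obtain ⟨y, hy, hy2⟩ := exists_half_sum ((Finset.univ : Finset (W₂ →* ℂˣ)).erase 1) (·⁻¹) V
    (fun b hb => Finset.mem_erase.mpr ⟨fun e => Finset.ne_of_mem_erase hb
      (MonoidHom.ext fun x => inv_eq_one.mp (DFunLike.congr_fun e x)),
      Finset.mem_univ _⟩) (fun b => MonoidHom.ext fun x => inv_inv (b x)) hne (fun b _ => hconj b) fun b _ => hint b
  have hone : V 1 = 1 := by rw [hV, hη.map_one, invDade_one ha]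
  have htot : ∑ b, V b = 1 + 2 * y := by
    rw [← Finset.add_sum_erase _ _ (Finset.mem_univ (1 : W₂ →* ℂˣ)), hone, hy2]
  have hmem : ∀ b, V b ∈ ℚ⟮CharApps.rootN N⟯ := by
    intro b
    haveI := Fintype.ofFinite (R (a : G))
    obtain ⟨χ, ψ, hc, hd, e⟩ := hη.gen 1 b
    rw [hV, invDade_of_mem ha, ← finsum_set_coe_eq_finsum_mem, finsum_eq_sum_of_fintype]
    refine mul_mem (inv_mem (natCast_mem _ _)) (sum_mem fun u _ => ?_)
    rw [e, Pi.sub_apply]
    exact sub_mem (CharApps.char_mem_cyclo hc _ pow_card_eq_one')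
      (CharApps.char_mem_cyclo hd _ pow_card_eq_one')
  obtain ⟨r, hr⟩ := CharApps.exists_rat_of_fixed (x := ∑ b, V b) (sum_mem fun b _ => hmem b)
    fun m σ hm hσ => by
      rw [map_sum, Finset.sum_congr rfl fun b _ => hperm m hm σ hσ b]
      refine Fintype.sum_bijective (fun b => b ^ m) ?_ _ _ fun b => rfl
      refine (powCoprime (G := W₂ →* ℂˣ) (n := m) ?_).bijective
      rw [Nat.card_eq_fintype_card, hk]
      exact hm.symm.coprime_dvd_left (card_subgroup_dvd_card W₂)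
  obtain ⟨j, hj⟩ := CharApps.exists_int_of_rat hy ⟨(r - 1) / 2, by
    push_cast
    rw [hr, htot]
    ring⟩
  rw [hsum, htot, ← hj, show (1 + 2 * (j : ℂ)) = ((1 + 2 * j : ℤ) : ℂ) by push_cast; ring,
    Complex.norm_intCast]
  exact_mod_cast Int.one_le_abs (show (1 + 2 * j : ℤ) ≠ 0 by omega)

end Average

namespace Pair

variable [Fintype G] (P : Pair S T W₁ W₂)
include P

/-- The lower bound for what lies off `T̃'`. -/
noncomputable def outside (_P : Pair S T W₁ W₂) : ℝ :=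
  (1 - 1 / (Nat.card W₂ : ℝ) - 1 / (2 * (Nat.card W₁ : ℝ) + 1)) / (Nat.card W₁ : ℝ)

theorem card_hom_Kd [Fintype (Kd T →* ℂˣ)] : Fintype.card (Kd T →* ℂˣ) = vT T := by
  classical
  have hinj : Function.Injective ((T.subtype).comp (Kd T).subtype) :=
    (Subgroup.subtype_injective _).comp (Subgroup.subtype_injective _)
  have h1 : (⁅T, T⁆ : Subgroup G) = (⊤ : Subgroup (Kd T)).map ((T.subtype).comp (Kd T).subtype) := by
    rw [← MonoidHom.range_eq_map, MonoidHom.range_comp, Subgroup.range_subtype]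
    exact (map_subgroupOf_eq_of_le P.derived_le).symm
  rw [← Nat.card_eq_fintype_card, card_monoidHom_units, vT, P.derived_two_eq_map]
  conv_rhs => arg 2; rw [h1]
  rw [relIndex_map_map_of_injective _ _ hinj, relIndex_top_right]

variable [Fintype T]

theorem comp_conjBy (l : Kd T →* ℂˣ) (g : T) :
    (fun x => ((l.comp (conjBy (Kd T) g)) x : ℂ)) = conjFn (Kd T) g (fun x => (l x : ℂ)) := rfl

/-- Exactly `k` linear characters induce `ζ`. -/
theorem card_zeta_fiber [Fintype (Kd T →* ℂˣ)] {l₀ : Kd T →* ℂˣ} (hl₀ : l₀ ≠ 1)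
    [DecidablePred fun l => P.zeta l = P.zeta l₀] :
    (Finset.univ.filter fun l => P.zeta l = P.zeta l₀).card = Nat.card W₂ := by
  classical
  haveI : Fintype (Kd T) := Fintype.ofFinite _
  have hcoe : Function.Injective fun (l : Kd T →* ℂˣ) (x : Kd T) => (l x : ℂ) :=
    fun l l' e => MonoidHom.ext fun x => Units.ext (congrFun e x)
  have hirr : ∀ l : Kd T →* ℂˣ, IsIrrCharacter (Kd T) fun x => (l x : ℂ) := fun l =>
    isIrrCharacter_linear l
  have himg : (Finset.univ.filter fun l => P.zeta l = P.zeta l₀).image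
      (fun l x => (l x : ℂ)) = orbitFn (Kd T) (fun x => (l₀ x : ℂ)) := by
    ext φ
    simp only [Finset.mem_image, Finset.mem_filter, Finset.mem_univ, true_and]
    constructor
    · rintro ⟨l, hl, rfl⟩
      exact (indFun_eq_iff (Kd T) (hirr l₀) (hirr l)).mp hl
    · intro h
      obtain ⟨g, hg⟩ := (mem_orbitFn (Kd T)).mp h
      refine ⟨l₀.comp (conjBy (Kd T) g), ?_, (P.comp_conjBy l₀ g).trans hg⟩
      show indFun _ _ = indFun _ _
      rw [P.comp_conjBy l₀ g]
      exact indFun_conjFn (Kd T) g _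
  have hin : inertia (Kd T) (fun x => (l₀ x : ℂ)) = Kd T := by
    refine le_antisymm (fun x hx => ?_)
      (le_inertia _ (isClassFunction_of_isCharacter (isCharacter_of_irr (hirr l₀))))
    by_contra hxK
    exact hl₀ (P.lin_fixed_eq_one hxK fun b => Units.ext ((mem_inertia (Kd T)).1 hx b))
  rw [← Finset.card_image_of_injective _ hcoe, himg, card_orbitFn, hin, P.index_Kd]

/-- The restriction `fres θ` has norm at most `k` times what `θ` has on `T̃'`. -/
theorem fres_norm_le [Fintype (Kd T)] {θ : G → ℂ} (hθ : IsClassFunction G θ) :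
    (classInner (P.fres θ) (P.fres θ)).re ≤ (Nat.card W₂ : ℝ) *
      ((Nat.card G : ℝ)⁻¹ * ∑ᶠ g ∈ tildeOf T (derA T), ‖θ g‖ ^ 2) := by
  classical
  have h := norm_invDade_le P.dade_T hθ
  rw [dadeSupp_eq_tildeOf, inner_self_eq, Complex.ofReal_re] at h
  rw [inner_self_eq, Complex.ofReal_re]
  have e : ∑ x : Kd T, ‖P.fres θ x‖ ^ 2 = ∑ x : T, ‖invDade (derA T) T (supportR T) θ x‖ ^ 2 := by
    rw [show ∑ x : Kd T, ‖P.fres θ x‖ ^ 2 = ∑ x ∈ (Finset.univ.filter fun x : T => x ∈ Kd T),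
        ‖invDade (derA T) T (supportR T) θ x‖ ^ 2 from
      (Finset.sum_subtype (Finset.univ.filter fun x : T => x ∈ Kd T) (fun x => by simp)
        fun x : T => ‖invDade (derA T) T (supportR T) θ x‖ ^ 2).symm]
    refine Finset.sum_subset (Finset.subset_univ _) fun x _ hx => ?_
    rw [invDade_of_notMem fun hd => hx (Finset.mem_filter.mpr
      ⟨Finset.mem_univ _, (mem_derA_iff.mp hd).1⟩)]
    simp
  rw [e]
  have hc : (Nat.card T : ℝ) = Nat.card (Kd T) * Nat.card W₂ := by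
    rw [P.card_T, P.card_Kd]; push_cast; rfl
  have hk : (0 : ℝ) < Nat.card W₂ := Nat.cast_pos.mpr Nat.card_pos
  refine le_trans (le_of_eq ?_) (mul_le_mul_of_nonneg_left h hk.le)
  rw [hc]
  field_simp

variable {η : (W₁ →* ℂˣ) → (W₂ →* ℂˣ) → G → ℂ} [Fintype (W₂ →* ℂˣ)]

/-- `ψ = ∑_b η (1, b) - β`. -/
noncomputable def psi (P : Pair S T W₁ W₂) (η : (W₁ →* ℂˣ) → (W₂ →* ℂˣ) → G → ℂ)
    [Fintype (W₂ →* ℂˣ)] (l : Kd T →* ℂˣ) : G → ℂ :=
  (∑ b, η 1 b) - P.beta l

theorem psi_gen (hη : Grid W₁ W₂ η) (l : Kd T →* ℂˣ) : IsGeneralizedCharacter G (P.psi η l) :=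
  mem_genChar.mp ((genChar G).sub_mem ((genChar G).sum_mem fun b _ => mem_genChar.mpr (hη.gen 1 b))
    (mem_genChar.mpr (P.beta_gen l)))

theorem sum_eta_one_norm (hη : Grid W₁ W₂ η) :
    classInner (∑ b, η 1 b) (∑ b, η 1 b) = (Nat.card W₂ : ℂ) := by
  classical
  rw [inner_sum_left, Finset.sum_congr rfl fun b _ => by
    rw [inner_sum_right, Finset.sum_congr rfl fun b' _ => hη.orth 1 b 1 b']]
  simp [P.card_hom_W₂]

theorem inner_sum_eta_beta (hη : Grid W₁ W₂ η) (hrow : P.IsRow η) {l : Kd T →* ℂˣ} (hl : l ≠ 1) :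
    classInner (∑ b, η 1 b) (P.beta l) = (Nat.card W₂ : ℂ) := by
  classical
  rw [← inner_conj, inner_sum_right, Finset.sum_congr rfl fun b _ => by rw [hrow l hl 1 b, if_pos rfl],
    Finset.sum_const, Finset.card_univ, P.card_hom_W₂, nsmul_one, Complex.conj_natCast]

theorem inner_psi_beta (hη : Grid W₁ W₂ η) (hrow : P.IsRow η) {l l' : Kd T →* ℂˣ} (hl : l ≠ 1)
    (hl' : l' ≠ 1) [Decidable (P.zeta l = P.zeta l')] :
    classInner (P.psi η l) (P.beta l') = -if P.zeta l = P.zeta l' then 1 else 0 := by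
  rw [psi, Chars.inner_sub_left, P.inner_sum_eta_beta hη hrow hl', P.inner_beta hl hl']
  ring

theorem psi_norm (hη : Grid W₁ W₂ η) (hrow : P.IsRow η) {l : Kd T →* ℂˣ} (hl : l ≠ 1) :
    classInner (P.psi η l) (P.psi η l) = 1 := by
  classical
  have h : classInner (P.psi η l) (∑ b, η 1 b) = 0 := by
    rw [psi, Chars.inner_sub_left, P.sum_eta_one_norm hη, ← inner_conj,
      P.inner_sum_eta_beta hη hrow hl, Complex.conj_natCast, sub_self]
  conv_lhs => arg 2; rw [psi]
  rw [Chars.inner_sub_right, h, P.inner_psi_beta hη hrow hl hl, if_pos rfl]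
  ring

theorem psi_eta (hη : Grid W₁ W₂ η) (hrow : P.IsRow η) {l : Kd T →* ℂˣ} (hl : l ≠ 1)
    (a : W₁ →* ℂˣ) (b : W₂ →* ℂˣ) : classInner (P.psi η l) (η a b) = 0 := by
  classical
  rw [psi, Chars.inner_sub_left, inner_sum_left, hrow l hl a b,
    Finset.sum_congr rfl fun b' _ => hη.orth 1 b' a b]
  by_cases ha : a = 1
  · simp [ha]
  · simp [ha, Ne.symm ha]

theorem one_le_psi_one (hη : Grid W₁ W₂ η) (hrow : P.IsRow η) {l : Kd T →* ℂˣ} (hl : l ≠ 1) :
    1 ≤ ‖P.psi η l 1‖ := by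
  obtain ⟨χ, φ, h1, h2, e⟩ := P.psi_gen hη l
  have hne := gen_one_ne_zero_of_norm_one (mem_genChar.mpr (P.psi_gen hη l)) (P.psi_norm hη hrow hl)
  rw [e, Pi.sub_apply, CharApps.deg_eq_of_isChar h1, CharApps.deg_eq_of_isChar h2] at hne ⊢
  rw [show ((charDegree χ : ℕ) : ℂ) - (charDegree φ : ℕ) =
    (((charDegree χ : ℤ) - charDegree φ : ℤ) : ℂ) by push_cast; ring] at hne ⊢
  rw [Complex.norm_intCast]
  exact_mod_cast Int.one_le_abs (Int.cast_ne_zero.mp hne)

/-- The Fourier coefficients of `fres ψ` at the linear characters. -/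
theorem fres_psi_lin (hη : Grid W₁ W₂ η) (hrow : P.IsRow η) [Fintype (Kd T)] {l₀ l : Kd T →* ℂˣ}
    (hl₀ : l₀ ≠ 1) (hl : l ≠ 1) [Decidable (P.zeta l = P.zeta l₀)] :
    classInner (P.fres (P.psi η l₀)) (fun x => (l x : ℂ)) =
      classInner (P.fres (P.psi η l₀)) (fun _ => 1) + if P.zeta l = P.zeta l₀ then 1 else 0 := by
  classical
  have hc := isClassFunction_of_isGeneralized (P.psi_gen hη l₀)
  have hφ : IsClassFunction (Kd T) ((fun _ => (1 : ℂ)) - fun x => (l x : ℂ)) := by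
    intro a b
    simp [map_mul, map_inv, mul_comm]
  have h := P.inner_tau_ind hφ (by simp) hc
  have e : indFun (Kd T) ((fun _ => (1 : ℂ)) - fun x => (l x : ℂ)) = P.alpha l := by
    funext x
    simp only [alpha, indOne, zeta, Pi.sub_apply, indFun_apply, ← mul_sub, ← Finset.sum_sub_distrib]
    congr 1
    refine Finset.sum_congr rfl fun y _ => ?_
    by_cases hy : y⁻¹ * x * y ∈ Kd T
    · rw [extendByZero_of_mem _ _ hy, extendByZero_of_mem _ _ hy, extendByZero_of_mem _ _ hy,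
        Pi.sub_apply]
    · rw [extendByZero_of_not_mem _ _ hy, extendByZero_of_not_mem _ _ hy,
        extendByZero_of_not_mem _ _ hy, sub_zero]
  rw [e, ← beta, P.inner_psi_beta hη hrow hl₀ hl, Chars.inner_sub_right] at h
  rw [if_congr (eq_comm) rfl rfl]
  linear_combination h

/-- The averages of `ψ` away from `S` and `T` have absolute value at least one. -/
theorem one_le_psi_avg (hη : Grid W₁ W₂ η) {l : Kd T →* ℂˣ} {M : Subgroup G} (hM : IsCoatom M)
    (hS : ∀ g : G, M ≠ S.map (MulAut.conj g).toMonoidHom)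
    (hT : ∀ g : G, M ≠ T.map (MulAut.conj g).toMonoidHom) {x : M} (hx : (x : G) ∈ typeA1 M) :
    1 ≤ ‖invDade (typeA1 M) M (supportR M) (P.psi η l) x‖ := by
  have hD : DadeHypothesis (typeA1 M) M (supportR M) :=
    dadeHypothesis_typeSet localFacts8 P.minimal hM (Or.inl rfl)
  have h0 : invDade (typeA1 M) M (supportR M) (P.beta l) x = 0 := by
    rw [invDade_of_mem hx, finsum_mem_eq_zero_of_forall_eq_zero fun u hu => ?_, mul_zero]
    refine dadeIsometry_eq_zero P.dade_T ?_ (α := P.alpha l)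
    intro hg
    have hg' : (x : G) * u ∈ tildeOf T (derA T) := by rw [← dadeSupp_eq_tildeOf]; exact hg
    rw [← P.typeA1_T] at hg'
    exact tildeA1_disjoint localFacts8 P.minimal hM P.coatomT (fun c hc => hT c hc.symm) _
      ⟨x, hx, u, hu, 1, by simp⟩ hg'
  rw [psi, invDade_sub, Pi.sub_apply, h0, sub_zero]
  refine one_le_norm_avg_sum hη P.minimal.1 P.card_hom_W₂ hD hx (coprime_k_orderOf P hM hS ?_)
  have h := hx
  rw [typeA1_eq localFacts8 P.minimal hM] at h
  exact h.1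

/-- What is left of `ψ` on `T̃'`. -/
theorem fres_psi_le (hη : Grid W₁ W₂ η) (hrow : P.IsRow η) [Fintype (Kd T)] {l₀ : Kd T →* ℂˣ}
    (hl₀ : l₀ ≠ 1) :
    (classInner (P.fres (P.psi η l₀)) (P.fres (P.psi η l₀))).re ≤
      (Nat.card W₂ : ℝ) - (Nat.card W₂ : ℝ) * P.outside := by
  classical
  set θ := P.psi η l₀
  have hθ := isClassFunction_of_isGeneralized (P.psi_gen hη l₀)
  have hcov := cover_bound P θ hθ (P.one_le_psi_one hη hrow hl₀)
    fun M hM hS hT x hx => P.one_le_psi_avg hη hM hS hT hx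
  have hn := congrArg Complex.re (P.psi_norm hη hrow hl₀)
  rw [inner_self_eq, Complex.ofReal_re, Complex.one_re] at hn
  have hG : (0 : ℝ) < Nat.card G := Nat.cast_pos.mpr Nat.card_pos
  have hsplit : (∑ᶠ g ∈ tildeOf T (derA T), ‖θ g‖ ^ 2) +
      (∑ᶠ g ∈ {g : G | g ∉ tildeOf T (derA T)}, ‖θ g‖ ^ 2) = ∑ g : G, ‖θ g‖ ^ 2 := by
    rw [← finsum_mem_union' ?_ (Set.toFinite _) (Set.toFinite _),
      show tildeOf T (derA T) ∪ {g | g ∉ tildeOf T (derA T)} = Set.univ from Set.union_compl_self _,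
      finsum_mem_univ, finsum_eq_sum_of_fintype]
    exact disjoint_compl_right
  refine (P.fres_norm_le hθ).trans ?_
  have hk : (0 : ℝ) ≤ Nat.card W₂ := Nat.cast_nonneg _
  rw [← mul_one_sub]
  refine mul_le_mul_of_nonneg_left ?_ hk
  rw [inv_mul_le_iff₀ hG]
  rw [inv_mul_eq_iff_eq_mul₀ hG.ne', mul_one] at hn
  unfold outside
  linarith

/-- The inequality of the row alternative, with an orthogonal family beside the linear
characters. -/
theorem row_ineq (hη : Grid W₁ W₂ η) (hrow : P.IsRow η) [Fintype (Kd T)] {l₀ : Kd T →* ℂˣ}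
    (hl₀ : l₀ ≠ 1) {ι : Type*} [DecidableEq ι] (s : Finset ι) (e : ι → Kd T → ℂ) (N : ι → ℝ)
    (hN : ∀ i ∈ s, 0 < N i)
    (he : ∀ i ∈ s, ∀ j ∈ s, classInner (e i) (e j) = if i = j then (N i : ℂ) else 0)
    (hlin : ∀ i ∈ s, ∀ l : Kd T →* ℂˣ, classInner (e i) (fun x => (l x : ℂ)) = 0) :
    (vT T : ℝ) * (classInner (P.fres (P.psi η l₀)) fun _ => 1).re ^ 2 +
        2 * (Nat.card W₂ : ℝ) * (classInner (P.fres (P.psi η l₀)) fun _ => 1).re +
        ∑ i ∈ s, ‖classInner (P.fres (P.psi η l₀)) (e i)‖ ^ 2 / N i ≤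
      -((Nat.card W₂ : ℝ) * P.outside) := by
  classical
  haveI : Fintype (Kd T →* ℂˣ) := Fintype.ofFinite _
  set f := P.fres (P.psi η l₀)
  set c := classInner f (fun _ => 1) with hc
  have hB := bessel_orth (Finset.univ.disjSum s) (Sum.elim (fun (l : Kd T →* ℂˣ) x => (l x : ℂ)) e)
    (Sum.elim (fun _ => 1) N) (fun i hi => by
      rcases i with l | i
      · simp
      · exact hN i (Finset.inr_mem_disjSum.mp hi))
    (fun i hi j hj => by
      rcases i with l | i <;> rcases j with l' | j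
      · simp [PF13.inner_lin]
      · rw [Sum.elim_inl, Sum.elim_inr, ← inner_conj, hlin j (Finset.inr_mem_disjSum.mp hj) l,
          map_zero, if_neg Sum.inl_ne_inr]
      · rw [Sum.elim_inl, Sum.elim_inr, hlin i (Finset.inr_mem_disjSum.mp hi) l',
          if_neg Sum.inr_ne_inl]
      · simp only [Sum.elim_inr, Sum.inr.injEq]
        exact he i (Finset.inr_mem_disjSum.mp hi) j (Finset.inr_mem_disjSum.mp hj))
    f
  rw [Finset.sum_disjSum] at hB
  simp only [Sum.elim_inl, Sum.elim_inr, div_one] at hB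
  have hco : ∀ l : Kd T →* ℂˣ, classInner f (fun x => (l x : ℂ)) =
      c + if P.zeta l = P.zeta l₀ then 1 else 0 := by
    intro l
    by_cases hl : l = 1
    · subst hl
      rw [if_neg, add_zero]
      · rfl
      · intro h
        have h1 := P.inner_indOne_zeta hl₀
        have h2 : P.zeta 1 = indOne (Kd T) := rfl
        rw [← h2, h, P.inner_zeta hl₀ hl₀, if_pos rfl] at h1
        exact one_ne_zero h1
    · exact P.fres_psi_lin hη hrow hl₀ hl
  have hterm : ∀ l : Kd T →* ℂˣ, ‖classInner f (fun x => (l x : ℂ))‖ ^ 2 =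
      ‖c‖ ^ 2 + if P.zeta l = P.zeta l₀ then 2 * c.re + 1 else 0 := by
    intro l
    rw [hco]
    split
    · rw [← Complex.normSq_eq_norm_sq, ← Complex.normSq_eq_norm_sq, Complex.normSq_apply,
        Complex.normSq_apply]
      simp only [Complex.add_re, Complex.one_re, Complex.add_im, Complex.one_im]
      ring
    · simp
  rw [Finset.sum_congr rfl fun l _ => hterm l, Finset.sum_add_distrib, Finset.sum_const,
    Finset.card_univ, P.card_hom_Kd, nsmul_eq_mul, ← Finset.sum_filter, Finset.sum_const,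
    P.card_zeta_fiber hl₀, nsmul_eq_mul] at hB
  have h1 : c.re ^ 2 ≤ ‖c‖ ^ 2 := sq_le_sq.mpr (by simpa using Complex.abs_re_le_norm c)
  have h2 := mul_le_mul_of_nonneg_left h1 (Nat.cast_nonneg (α := ℝ) (vT T))
  have h3 := P.fres_psi_le hη hrow hl₀
  linarith

omit [Fintype T] [Fintype (W₂ →* ℂˣ)] in
/-- The numerical contradiction of the row alternative. -/
theorem outside_false {W : ℝ} (hW : 0 < W)
    (h : (Nat.card W₂ : ℝ) ^ 2 * Nat.card W₁ * (2 * Nat.card W₁ + 1) <
      W * (((Nat.card W₂ : ℝ) - 1) * (2 * Nat.card W₁ + 1) - Nat.card W₂))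
    (h' : (Nat.card W₂ : ℝ) * P.outside ≤ (Nat.card W₂ : ℝ) ^ 2 / W) : False := by
  have hk : (0 : ℝ) < Nat.card W₂ := Nat.cast_pos.mpr Nat.card_pos
  have hq : (0 : ℝ) < Nat.card W₁ := Nat.cast_pos.mpr Nat.card_pos
  rw [le_div_iff₀ hW] at h'
  unfold outside at h'
  field_simp at h'
  nlinarith

/-- The row alternative fails when `|T' : T''|` is large. -/
theorem row_false_of_big (hη : Grid W₁ W₂ η) (hrow : P.IsRow η) {l₀ : Kd T →* ℂˣ} (hl₀ : l₀ ≠ 1)
    (hv : 0 < vT T)
    (h : (Nat.card W₂ : ℝ) ^ 2 * Nat.card W₁ * (2 * Nat.card W₁ + 1) <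
      (vT T : ℝ) * (((Nat.card W₂ : ℝ) - 1) * (2 * Nat.card W₁ + 1) - Nat.card W₂)) : False := by
  classical
  haveI : Fintype (Kd T) := Fintype.ofFinite _
  have hv' : (0 : ℝ) < vT T := Nat.cast_pos.mpr hv
  have h1 := P.row_ineq hη hrow hl₀ (∅ : Finset Unit) (fun _ _ => 0) (fun _ => 1) (by simp)
    (by simp) (by simp)
  rw [Finset.sum_empty, add_zero] at h1
  refine P.outside_false hv' h ?_
  have h2 := linear_deficit (v := (vT T : ℝ)) (k := (Nat.card W₂ : ℝ))
    (c := (classInner (P.fres (P.psi η l₀)) fun _ => 1).re) hv'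
  rw [neg_div] at h2
  linarith

end Pair

end CfsgLib.FT.StepA
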