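import Cfsg.Agent.Lib.FT.StepA.Basic
import Cfsg.Agent.Lib.Coprime.Action2

/-!
# The derived subgroup of `T`, in particular in Type V

`v = |T' : T''|` is `1` modulo `2k`; in Type V the group `T'` is nilpotent with non-abelian Sylow
`q`-subgroup, so `v ≥ q ^ 2`, and `v ≥ (2k + 1) ^ 2` unless `T'` is a `q`-group.
-/

set_option autoImplicit false
set_option linter.style.haveILetI false
set_option linter.unusedSectionVars false

namespace CfsgLib.FT.StepA

open _root_.Subgroup Cfsg CfsgLib.OddOrder CfsgLib.FT.BG15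
open scoped commutatorElement

universe u

variable {G : Type u} [Group G] [Finite G] {S T W₁ W₂ : Subgroup G}

theorem Pair.le_normalizer_derived_two (P : Pair S T W₁ W₂) :
    T ≤ normalizer ((⁅⁅T, T⁆, ⁅T, T⁆⁆ : Subgroup G) : Set G) :=
  CfsgLib.OddOrder.le_normalizer_commutator P.le_normalizer_derived P.le_normalizer_derived

theorem vT_mod (P : Pair S T W₁ W₂) : vT T % (2 * Nat.card W₂) = 1 ∧ 1 < vT T := by
  refine ⟨P.relIndex_mod (commutator_le_self _) P.W₁_le_derived_two P.le_normalizer_derived_two, ?_⟩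
  have hlt := CfsgLib.Base.commutator_self_lt_of_isSolvable P.derived_ne_bot P.derived_solvable
  have h := P.le_relIndex (commutator_le_self _) P.W₁_le_derived_two P.le_normalizer_derived_two hlt.ne
  have hk : 0 < Nat.card W₂ := Nat.card_pos
  unfold vT
  omega

theorem normalizer_derived (P : Pair S T W₁ W₂) :
    normalizer ((⁅T, T⁆ : Subgroup G) : Set G) = T :=
  normalizer_eq_maximal P.minimal P.coatomT P.derived_le P.derived_ne_bot P.le_normalizer_derived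

theorem Pair.fittingHallOf_T (P : Pair S T W₁ W₂) (hV : IsOfTypeV T) :
    fittingHallOf T = ⁅T, T⁆ := by
  rw [P.derivedT]
  exact ((BG16.isOfTypeV_iff BG15.upstream P.minimal P.coatomT P.decompT).mp hV).2.2

theorem nilpotent_derived (P : Pair S T W₁ W₂) (hV : IsOfTypeV T) :
    Group.IsNilpotent ↥(⁅T, T⁆ : Subgroup G) :=
  P.fittingHallOf_T hV ▸ isNilpotent_fittingHallOf T

/-- In a nilpotent group the derived subgroup lies in the Frattini subgroup. -/
theorem eq_of_sup_derived {H K : Subgroup G} (hH : Group.IsNilpotent H) (hK : K ≤ H)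
    (h : K ⊔ ⁅H, H⁆ = H) : K = H := by
  haveI := hH
  by_contra hne
  have hne' : K.subgroupOf H ≠ ⊤ := fun e => hne (le_antisymm hK (subgroupOf_eq_top.mp e))
  obtain ⟨M, hM, hKM⟩ := (eq_top_or_exists_le_coatom (K.subgroupOf H)).resolve_left hne'
  refine hM.1 (eq_top_iff.mpr fun x _ => ?_)
  have hle : K ⊔ ⁅H, H⁆ ≤ M.map H.subtype := sup_le (fun a ha => ⟨⟨a, hK ha⟩, hKM ha, rfl⟩)
    (by rw [← map_subtype_commutator]; exact map_mono (CfsgLib.Coprime.commutator_le_coatom hM))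
  obtain ⟨y, hy, e⟩ := hle (h.ge x.2)
  exact (Subtype.ext e : y = x) ▸ hy

theorem hallPart_inf_hallCompl (p : ℕ) (H : Subgroup G) : hallPart p H ⊓ hallCompl p H = ⊥ :=
  CfsgLib.Base.inf_eq_bot_of_coprime (Nat.coprime_of_dvd fun r hr h1 h2 =>
    (piCoreOf_primes {q | q.Prime ∧ q ≠ p} H r hr h2).2 (piCoreOf_primes {p} H r hr h1))

theorem hallPart_sup_hallCompl (p : ℕ) {H : Subgroup G} (hH : Group.IsNilpotent H) :
    hallPart p H ⊔ hallCompl p H = H :=
  le_antisymm (sup_le (piCoreOf_le _ _) (piCoreOf_le _ _)) fun x hx => by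
    obtain ⟨a, ha, b, hb, rfl⟩ := exists_hallPart_mul (p := p) hH hx
    exact mul_mem_sup ha hb

theorem Pair.W₁_not_le_hallCompl (P : Pair S T W₁ W₂) :
    ¬ W₁ ≤ hallCompl (Nat.card W₁) ⁅T, T⁆ := fun h =>
  (piCoreOf_primes {q | q.Prime ∧ q ≠ Nat.card W₁} ⁅T, T⁆ _ P.prime_q (card_dvd_of_le h)).2 rfl

/-- The Sylow `q`-subgroup of `T'` is not generated by one element modulo `O_{q'}(T')`. -/
theorem Pair.zpowers_sup_ne (P : Pair S T W₁ W₂) {x : G} (hx : x ∈ (⁅T, T⁆ : Subgroup G)) :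
    zpowers x ⊔ hallCompl (Nat.card W₁) ⁅T, T⁆ ≠ ⁅T, T⁆ := by
  set H := (⁅T, T⁆ : Subgroup G) with hH
  set R := hallCompl (Nat.card W₁) H with hR
  intro h
  have hRH : R ≤ H := piCoreOf_le _ _
  haveI : (R.subgroupOf H).Normal :=
    normal_subgroupOf_of_le_normalizer (le_normalizer_piCoreOf _ H)
  have hgen : ∀ a : H, ∃ i : ℤ, (QuotientGroup.mk a : H ⧸ R.subgroupOf H) =
      (QuotientGroup.mk ⟨x, hx⟩ : H ⧸ R.subgroupOf H) ^ i := by
    intro a
    obtain ⟨w, hw, r, hr, e⟩ := (CfsgLib.Coprime.mem_sup_iff_of_le_normalizer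
      ((zpowers_le.mpr hx).trans (le_normalizer_piCoreOf _ H))).mp (h.ge a.2)
    obtain ⟨i, rfl⟩ := mem_zpowers_iff.mp hw
    refine ⟨i, ?_⟩
    rw [← QuotientGroup.mk_zpow, show a = (⟨x, hx⟩ : H) ^ i * ⟨r, hRH hr⟩ from
      Subtype.ext (by simpa using e.symm), QuotientGroup.mk_mul,
      (QuotientGroup.eq_one_iff (⟨r, hRH hr⟩ : H)).mpr hr, mul_one]
  refine P.W₁_not_le_hallCompl (P.W₁_le_derived_two.trans (commutator_le.mpr fun a ha b hb => ?_))
  obtain ⟨i, hi⟩ := hgen ⟨a, ha⟩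
  obtain ⟨j, hj⟩ := hgen ⟨b, hb⟩
  have h1 : (QuotientGroup.mk ⁅(⟨a, ha⟩ : H), ⟨b, hb⟩⁆ : H ⧸ R.subgroupOf H) = 1 := by
    rw [← QuotientGroup.mk'_apply, map_commutatorElement, QuotientGroup.mk'_apply,
      QuotientGroup.mk'_apply, hi, hj, commutatorElement_eq_one_iff_commute]
    exact (Commute.refl _).zpow_zpow i j
  have h2 : ⁅(⟨a, ha⟩ : H), ⟨b, hb⟩⁆ ∈ R.subgroupOf H := (QuotientGroup.eq_one_iff _).mp h1
  exact h2

theorem Pair.hallPart_sup_ne (P : Pair S T W₁ W₂) (hV : IsOfTypeV T)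
    (hq : ¬ IsPGroup (Nat.card W₁) ↥(⁅T, T⁆ : Subgroup G)) :
    hallPart (Nat.card W₁) ⁅T, T⁆ ⊔ ⁅⁅T, T⁆, ⁅T, T⁆⁆ ≠ ⁅T, T⁆ := fun h => by
  haveI := Fact.mk P.prime_q
  exact hq (eq_of_sup_derived (nilpotent_derived P hV) (piCoreOf_le _ _) h ▸
    isPGroup_hallPart ⁅T, T⁆)

theorem Pair.hallCompl_sup_ne (P : Pair S T W₁ W₂) (hV : IsOfTypeV T) :
    hallCompl (Nat.card W₁) ⁅T, T⁆ ⊔ ⁅⁅T, T⁆, ⁅T, T⁆⁆ ≠ ⁅T, T⁆ := fun h =>
  P.W₁_not_le_hallCompl (P.W₁_le_derived.trans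
    (eq_of_sup_derived (nilpotent_derived P hV) (piCoreOf_le _ _) h).ge)

theorem relIndex_dvd_card_of_sup {A B N H : Subgroup G} (hB : B ≤ H)
    (hn : A ≤ normalizer (B : Set G)) (hint : A ⊓ B = ⊥) (hsup : A ⊔ B = H) (hBN : B ≤ N)
    (hNH : N ≤ H) : N.relIndex H ∣ Nat.card A := by
  have h : B.relIndex H = Nat.card A := Nat.eq_of_mul_eq_mul_right Nat.card_pos
    ((relIndex_mul_card_of_le hB).trans (by
      rw [← hsup, CfsgLib.Coprime.card_sup_of_inf_eq_bot hn hint]))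
  exact h ▸ (Dvd.intro_left _ (relIndex_mul_relIndex B N H hBN hNH))

theorem Pair.relIndex_hallCompl_dvd (P : Pair S T W₁ W₂) (hV : IsOfTypeV T) :
    (hallCompl (Nat.card W₁) ⁅T, T⁆ ⊔ ⁅⁅T, T⁆, ⁅T, T⁆⁆).relIndex ⁅T, T⁆ ∣
      Nat.card ↥(hallPart (Nat.card W₁) ⁅T, T⁆) :=
  relIndex_dvd_card_of_sup (piCoreOf_le _ _)
    ((piCoreOf_le _ _).trans (le_normalizer_piCoreOf _ _))
    (hallPart_inf_hallCompl _ _) (hallPart_sup_hallCompl _ (nilpotent_derived P hV))
    le_sup_left (sup_le (piCoreOf_le _ _) (commutator_le_self _))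

theorem sq_q_le_vT (P : Pair S T W₁ W₂) (hV : IsOfTypeV T) : Nat.card W₁ ^ 2 ≤ vT T := by
  haveI := Fact.mk P.prime_q
  set H := (⁅T, T⁆ : Subgroup G) with hH
  set R := hallCompl (Nat.card W₁) H with hR
  set N := R ⊔ ⁅H, H⁆ with hN
  have hNH : N ≤ H := sup_le (piCoreOf_le _ _) (commutator_le_self _)
  obtain ⟨n, hn⟩ := IsPGroup.iff_card.mp (isPGroup_hallPart (p := Nat.card W₁) H)
  obtain ⟨j, -, hj⟩ := (Nat.dvd_prime_pow P.prime_q).mp (hn ▸ P.relIndex_hallCompl_dvd hV)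
  have hne : N ≠ H := P.hallCompl_sup_ne hV
  have h2 : 2 ≤ j := by
    by_contra hlt
    rcases Nat.lt_succ_iff.mp (not_le.mp hlt) |> Nat.le_one_iff_eq_zero_or_eq_one.mp with rfl | rfl
    · exact hne (le_antisymm hNH (relIndex_eq_one.mp hj))
    · obtain ⟨x, hx, hxN⟩ := SetLike.exists_of_lt (lt_of_le_of_ne hNH hne)
      have hsupH : zpowers x ⊔ N = H := by
        refine le_antisymm (sup_le (zpowers_le.mpr hx) hNH) ?_
        refine relIndex_eq_one.mp ?_
        have hd : (zpowers x ⊔ N).relIndex H ∣ Nat.card W₁ := by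
          rw [← pow_one (Nat.card W₁), ← hj]
          exact relIndex_dvd_of_le_left H le_sup_right
        refine ((Nat.dvd_prime P.prime_q).mp hd).resolve_right fun e => hxN ?_
        have h3 := relIndex_mul_relIndex N _ H (le_sup_right : N ≤ zpowers x ⊔ N)
          (sup_le (zpowers_le.mpr hx) hNH)
        rw [e, hj, pow_one, Nat.mul_eq_right P.prime_q.ne_zero, relIndex_eq_one] at h3
        exact h3 (mem_sup_left (mem_zpowers x))
      refine P.zpowers_sup_ne hx (eq_of_sup_derived (nilpotent_derived P hV)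
        (sup_le (zpowers_le.mpr hx) (piCoreOf_le _ _)) ?_)
      rwa [sup_assoc]
  have hv : N.relIndex H ∣ vT T :=
    Dvd.intro_left _ (relIndex_mul_relIndex ⁅H, H⁆ N H le_sup_right hNH)
  rw [hj] at hv
  exact (Nat.pow_le_pow_right P.prime_q.pos h2).trans (Nat.le_of_dvd
    (lt_trans one_pos (vT_mod P).2) hv)

theorem vT_big (P : Pair S T W₁ W₂) (hV : IsOfTypeV T)
    (hq : ¬ IsPGroup (Nat.card W₁) ↥(⁅T, T⁆ : Subgroup G)) :
    (2 * Nat.card W₂ + 1) ^ 2 ≤ vT T := by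
  set H := (⁅T, T⁆ : Subgroup G) with hH
  set Q := hallPart (Nat.card W₁) H with hQ
  set R := hallCompl (Nat.card W₁) H with hR
  have hnH := P.le_normalizer_derived
  have hn1 : T ≤ normalizer ((R ⊔ ⁅H, H⁆ : Subgroup G) : Set G) :=
    CfsgLib.Coprime.le_normalizer_sup_sup (le_normalizer_hallPart _ hnH) P.le_normalizer_derived_two
  have hn2 : T ≤ normalizer ((Q ⊔ ⁅H, H⁆ : Subgroup G) : Set G) :=
    CfsgLib.Coprime.le_normalizer_sup_sup (le_normalizer_hallPart _ hnH) P.le_normalizer_derived_two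
  have h1 := P.le_relIndex (sup_le (piCoreOf_le _ _) (commutator_le_self _))
    (P.W₁_le_derived_two.trans le_sup_right) hn1 (P.hallCompl_sup_ne hV)
  have h2 := P.le_relIndex (sup_le (piCoreOf_le _ _) (commutator_le_self _))
    (P.W₁_le_derived_two.trans le_sup_right) hn2 (P.hallPart_sup_ne hV hq)
  have d1 := P.relIndex_hallCompl_dvd hV
  have d2 : (Q ⊔ ⁅H, H⁆).relIndex H ∣ Nat.card R :=
    relIndex_dvd_card_of_sup (piCoreOf_le _ _)
      ((piCoreOf_le _ _).trans (le_normalizer_piCoreOf _ _))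
      ((inf_comm _ _).trans (hallPart_inf_hallCompl _ _))
      ((sup_comm _ _).trans (hallPart_sup_hallCompl _ (nilpotent_derived P hV)))
      le_sup_left (sup_le (piCoreOf_le _ _) (commutator_le_self _))
  have hcop : (Nat.card Q).Coprime (Nat.card R) := Nat.coprime_of_dvd fun r hr e1 e2 =>
    (piCoreOf_primes {q | q.Prime ∧ q ≠ Nat.card W₁} H r hr e2).2 (piCoreOf_primes _ H r hr e1)
  have hd := Nat.Coprime.mul_dvd_of_dvd_of_dvd
    ((hcop.coprime_dvd_left d1).coprime_dvd_right d2)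
    (show (R ⊔ ⁅H, H⁆).relIndex H ∣ vT T from Dvd.intro_left _ (relIndex_mul_relIndex ⁅H, H⁆ _ H
      le_sup_right (sup_le (piCoreOf_le _ _) (commutator_le_self _))))
    (show (Q ⊔ ⁅H, H⁆).relIndex H ∣ vT T from Dvd.intro_left _ (relIndex_mul_relIndex ⁅H, H⁆ _ H
      le_sup_right (sup_le (piCoreOf_le _ _) (commutator_le_self _))))
  rw [sq]
  exact (Nat.mul_le_mul h1 h2).trans (Nat.le_of_dvd (lt_trans one_pos (vT_mod P).2) hd)

theorem exists_sylow_derived (P : Pair S T W₁ W₂)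
    (hq : IsPGroup (Nat.card W₁) ↥(⁅T, T⁆ : Subgroup G)) :
    ∃ Q : Sylow (Nat.card W₁) G, (Q : Subgroup G) = ⁅T, T⁆ := by
  haveI := Fact.mk P.prime_q
  obtain ⟨Q, hQ⟩ := hq.exists_le_sylow
  refine ⟨Q, le_antisymm (by_contra fun hnle => ?_) hQ⟩
  haveI : Group.IsNilpotent Q := Q.isPGroup'.isNilpotent
  set H := (⁅T, T⁆ : Subgroup G) with hH
  have hlt : H.subgroupOf (Q : Subgroup G) < ⊤ :=
    lt_top_iff_ne_top.mpr fun e => hnle (subgroupOf_eq_top.mp e)
  obtain ⟨g, hg, hgH⟩ := SetLike.exists_of_lt (Group.normalizerCondition_of_isNilpotent _ hlt)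
  have hgn : (g : G) ∈ normalizer (H : Set G) := by
    have hfwd : ∀ z ∈ normalizer (H.subgroupOf (Q : Subgroup G) : Set Q), ∀ a ∈ H,
        (z : G) * a * (z : G)⁻¹ ∈ H := fun z hz a ha =>
      mem_subgroupOf.mp ((mem_normalizer_iff.mp hz ⟨a, hQ ha⟩).mp (mem_subgroupOf.mpr ha))
    refine mem_normalizer_iff.mpr fun a => ⟨hfwd g hg a, fun h => ?_⟩
    simpa [mul_assoc] using hfwd g⁻¹ (inv_mem hg) _ h
  have hgT : (g : G) ∈ T := normalizer_derived P ▸ hgn
  haveI : (H.subgroupOf T).Normal := normal_subgroupOf_of_le_normalizer P.le_normalizer_derived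
  have hidx : H.relIndex T = Nat.card W₂ := Nat.eq_of_mul_eq_mul_right Nat.card_pos
    ((relIndex_mul_card_of_le P.derived_le).trans
      ((card_mul_card_of_isComplIn P.complT).symm.trans (mul_comm _ _)))
  have hpow : (g : G) ^ Nat.card W₂ ∈ H := by
    have := Subgroup.pow_index_mem (H.subgroupOf T) (⟨g, hgT⟩ : T)
    rw [show (H.subgroupOf T).index = Nat.card W₂ from hidx] at this
    exact this
  obtain ⟨i, hi⟩ := IsPGroup.iff_orderOf.mp Q.isPGroup' g
  have hcop : (orderOf (g : G)).Coprime (Nat.card W₂) := by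
    rw [orderOf_coe, hi]
    exact Nat.Coprime.pow_left i
      ((P.coprime_k.coprime_dvd_right (card_dvd_of_le P.W₁_le_derived)).symm)
  refine hgH (mem_subgroupOf.mpr ?_)
  obtain ⟨m, hm⟩ := exists_pow_eq_self_of_coprime hcop.symm
  exact hm ▸ pow_mem hpow m

theorem typeV_cases (P : Pair S T W₁ W₂) (hV : IsOfTypeV T) :
    IsTISubset ((⁅T, T⁆ : Subgroup G) : Set G) ∨ Nat.card W₂ ∣ Nat.card W₁ - 1 ∨
      (Nat.card W₂ ∣ Nat.card W₁ + 1 ∧
        Nat.card (pCore (Nat.card W₁) ↥(⁅T, T⁆ : Subgroup G)) = Nat.card W₁ ^ 3) := by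
  have hF := P.fittingHallOf_T hV
  have hn := nilpotent_derived P hV
  obtain ⟨W, V, W', hP, -, hcases⟩ := hV
  have hk : Nat.card W = Nat.card W₂ := Nat.eq_of_mul_eq_mul_left Nat.card_pos
    ((card_mul_card_of_isComplIn hP.W₁_compl).trans (card_mul_card_of_isComplIn P.complT).symm)
  rw [hk, hF] at hcases
  have hp : ∀ p : ℕ, p.Prime → IsCyclic (pPrimeCore p ↥(⁅T, T⁆ : Subgroup G)) → p = Nat.card W₁ := by
    intro p hp hc
    by_contra hne
    haveI := Fact.mk hp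
    haveI := Fact.mk P.prime_q
    set H := (⁅T, T⁆ : Subgroup G) with hH
    have hle : hallPart (Nat.card W₁) H ≤ (pPrimeCore p H).map H.subtype := by
      rw [hallPart_eq]
      refine map_mono (CfsgLib.Base.le_pPrimeCore_of_not_dvd fun h => hne ?_)
      obtain ⟨n, hn⟩ := CfsgLib.Base.pCore_eq_pow_card (Nat.card W₁) H
      exact (Nat.prime_dvd_prime_iff_eq hp P.prime_q).mp (hp.dvd_of_dvd_pow (hn ▸ h))
    haveI : IsCyclic ↥((pPrimeCore p H).map H.subtype) :=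
      ((pPrimeCore p H).equivMapOfInjective _ H.subtype_injective).isCyclic.mp hc
    haveI := isCyclic_of_injective (Subgroup.inclusion hle) (Subgroup.inclusion_injective hle)
    obtain ⟨⟨x, hx⟩, hgen⟩ := IsCyclic.exists_generator (α := ↥(hallPart (Nat.card W₁) H))
    refine P.zpowers_sup_ne (piCoreOf_le _ _ hx)
      (le_antisymm (sup_le (zpowers_le.mpr (piCoreOf_le _ _ hx)) (piCoreOf_le _ _)) ?_)
    refine (hallPart_sup_hallCompl _ hn).ge.trans
      (sup_le_sup_right ?_ _)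
    intro y hy
    obtain ⟨i, hi⟩ := mem_zpowers_iff.mp (hgen ⟨y, hy⟩)
    exact mem_zpowers_iff.mpr ⟨i, congrArg Subtype.val hi⟩
  rcases hcases with h | ⟨p, hp1, -, hd, hc⟩ | ⟨p, hp1, -, h3, hd, hc⟩
  · exact Or.inl h
  · obtain rfl := hp p hp1 hc
    exact Or.inr (Or.inl hd)
  · obtain rfl := hp p hp1 hc
    exact Or.inr (Or.inr ⟨hd, h3⟩)

theorem ti_derived_of_lt (P : Pair S T W₁ W₂) (hV : IsOfTypeV T)
    (hlt : Nat.card W₁ < Nat.card W₂) : IsTISubset ((⁅T, T⁆ : Subgroup G) : Set G) := by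
  have hq := P.prime_q.two_le
  rcases typeV_cases P hV with h | h | ⟨h, -⟩
  · exact h
  · have := Nat.le_of_dvd (by omega) h
    omega
  · have h1 := Nat.le_of_dvd (by omega) h
    obtain ⟨i, hi⟩ := P.odd_card (X := W₁)
    obtain ⟨j, hj⟩ := P.odd_card (X := W₂)
    omega

theorem three_five (P : Pair S T W₁ W₂) (hV : IsOfTypeV T) (hk : Nat.card W₂ = 3)
    (hq : Nat.card W₁ = 5) (hv : vT T = 25) :
    IsPGroup (Nat.card W₁) ↥(⁅T, T⁆ : Subgroup G) ∧
      (IsTISubset ((⁅T, T⁆ : Subgroup G) : Set G) ∨ Nat.card (⁅T, T⁆ : Subgroup G) = 5 ^ 3) := by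
  have hp : IsPGroup (Nat.card W₁) ↥(⁅T, T⁆ : Subgroup G) := by
    by_contra h
    have := vT_big P hV h
    rw [hk, hv] at this
    norm_num at this
  refine ⟨hp, ?_⟩
  rcases typeV_cases P hV with h | h | ⟨-, h⟩
  · exact Or.inl h
  · rw [hk, hq] at h
    norm_num at h
  · refine Or.inr ?_
    rw [CfsgLib.Base.pCore_eq_top_iff.mpr hp, Nat.card_congr Subgroup.topEquiv.toEquiv, hq] at h
    exact h

end CfsgLib.FT.StepA
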