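import Cfsg.Agent.Lib.FT.StepA.Theta
import Cfsg.Agent.Lib.FT.StepA.Row
import Cfsg.Agent.Lib.FT.StepA.TypeFive

/-!
# Step A: linear families

An orthonormal family `ν l` of generalized characters of `G`, indexed by the nontrivial linear
characters of `T'`, with `ν l - ν l' = τ (ζ_l - ζ_l')`.  It is closed under complex conjugation,
orthogonal to the grid, and has constant inner product with `τ (Ind θ - d ζ)`.
-/

set_option autoImplicit false
set_option linter.style.haveILetI false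
set_option linter.unusedSectionVars false

namespace CfsgLib.FT.StepA

open _root_.Subgroup Cfsg CfsgLib.Chars CfsgLib.CharsMore CfsgLib.FT.PF13
open scoped ComplexConjugate

universe u

variable {G : Type u} [Group G] {S T W₁ W₂ : Subgroup G}

section Pairs

variable [Fintype G]

theorem eq_of_inner_one {a b : G → ℂ} (na : classInner a a = 1) (nb : classInner b b = 1)
    (h : classInner a b = 1) : a = b := by
  classical
  have hb := (bessel (Finset.univ : Finset Unit) (fun _ => b)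
    (fun i _ j _ => by rw [nb, if_pos (Subsingleton.elim i j)]) a (fun _ => (1 : ℤ))
    (fun _ _ => by exact_mod_cast h) (n := 1) (by exact_mod_cast na)).2
  simpa using hb (by simp)

theorem two_sq_le_one {A : ℤ} (h : A ^ 2 + A ^ 2 ≤ 1) : A = 0 := by
  by_contra hA
  have := Int.add_one_le_of_lt (pow_two_pos_of_ne_zero hA)
  omega

/-- An orthonormal pair with equal inner products with a norm one character is orthogonal to it. -/
theorem orth_of_equal_coeff {a a' x : G → ℂ} (ha : IsGeneralizedCharacter G a)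
    (ha' : IsGeneralizedCharacter G a') (hx : IsGeneralizedCharacter G x)
    (n1 : classInner a a = 1) (n2 : classInner a' a' = 1) (hxn : classInner x x = 1)
    (hperp : classInner a a' = 0) (h : classInner a x = classInner a' x) :
    classInner a x = 0 := by
  classical
  obtain ⟨A, hA⟩ := inner_int hx ha
  have h' : classInner a x = A := by rw [← inner_conj, hA, map_intCast]
  have hb := bessel (Finset.univ : Finset Bool) (fun i => if i then a else a') (fun i _ j _ => by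
      rcases i <;> rcases j <;> simp [n1, n2, hperp]
      rw [← inner_conj, hperp, map_zero])
    x (fun _ => A) (fun i _ => by
      rcases i
      · simp only [Bool.false_eq_true, if_false]
        rw [← inner_conj, ← h, inner_conj, hA]
      · simp only [if_true]
        exact hA) (n := 1) (by exact_mod_cast hxn)
  have hA0 : A = 0 := two_sq_le_one (by
    have h2 := hb.1
    simp at h2
    linarith)
  rw [h', hA0, Int.cast_zero]

/-- Two orthonormal pairs with the same difference. -/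
theorem match_diff {a a' b b' : G → ℂ} (ha : IsGeneralizedCharacter G a)
    (hb : IsGeneralizedCharacter G b) (hb' : IsGeneralizedCharacter G b') (na : classInner a a = 1)
    (nb : classInner b b = 1) (nb' : classInner b' b' = 1) (hperp : classInner a' a = 0)
    (hperp' : classInner b b' = 0) (h : a - a' = b - b') : b = a ∨ b' = -a := by
  classical
  obtain ⟨A, hA⟩ := inner_int hb ha
  obtain ⟨B, hB⟩ := inner_int hb' ha
  have h1 : classInner (b - b') a = 1 := by rw [← h, Chars.inner_sub_left, na, hperp, sub_zero]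
  rw [Chars.inner_sub_left, hA, hB] at h1
  have h1' : A - B = 1 := by exact_mod_cast h1
  have hbes := (bessel (Finset.univ : Finset Bool) (fun i => if i then b else b') (fun i _ j _ => by
      rcases i <;> rcases j <;> simp [nb, nb', hperp']
      rw [← inner_conj, hperp', map_zero])
    a (fun i => if i then A else B) (fun i _ => by
      rcases i
      · simp only [Bool.false_eq_true, if_false]
        rw [← inner_conj, hB, map_intCast]
      · simp only [if_true]
        rw [← inner_conj, hA, map_intCast]) (n := 1) (by exact_mod_cast na)).1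
  simp at hbes
  have hA01 : A = 1 ∨ A = 0 := by
    have h2 : A ^ 2 ≤ 1 := by nlinarith [sq_nonneg B]
    have h3 : A ≤ 1 := by nlinarith
    have h4 : -1 ≤ A := by nlinarith
    rcases (show A = 1 ∨ A = 0 ∨ A = -1 by omega) with h5 | h5 | h5
    · exact Or.inl h5
    · exact Or.inr h5
    · subst h5
      have : B = -2 := by omega
      subst this
      norm_num at hbes
  rcases hA01 with h2 | h2
  · left
    exact eq_of_inner_one nb na (by rw [hA, h2]; norm_num)
  · right
    have hB1 : B = -1 := by omega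
    have hneg : IsGeneralizedCharacter G (-a) :=
      mem_genChar.mp ((genChar G).neg_mem (mem_genChar.mpr ha))
    refine eq_of_inner_one nb' ?_ ?_
    · rw [show -a = (-1 : ℂ) • a by simp, Chars.inner_smul_left, Chars.inner_smul_right, na]
      simp
    · rw [show -a = (-1 : ℂ) • a by simp, Chars.inner_smul_right, hB, hB1]
      simp

end Pairs

/-- An orthonormal family matching `τ` on the differences of the linear members. -/
structure LinFamily [Fintype G] (P : Pair S T W₁ W₂) [Fintype T]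
    (ν : (Kd T →* ℂˣ) → G → ℂ) : Prop where
  gen : ∀ l, l ≠ 1 → IsGeneralizedCharacter G (ν l)
  inner : ∀ l l', l ≠ 1 → l' ≠ 1 → [Decidable (P.zeta l = P.zeta l')] →
    classInner (ν l) (ν l') = if P.zeta l = P.zeta l' then 1 else 0
  diff : ∀ l l', l ≠ 1 → l' ≠ 1 → ν l - ν l' = P.tau (P.zeta l - P.zeta l')

namespace Pair

variable [Fintype G] (P : Pair S T W₁ W₂)
include P

variable [Fintype T]

theorem tau_sub (α β : T → ℂ) : P.tau (α - β) = P.tau α - P.tau β := by
  have h := dadeIsometry_add (derA T) T (supportR T) (α - β) β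
  rw [sub_add_cancel] at h
  exact eq_sub_of_add_eq h.symm

theorem tau_smul (c : ℂ) (α : T → ℂ) : P.tau (c • α) = c • P.tau α := by
  funext g
  simp only [Pair.tau, dadeIsometry, Pi.smul_apply]
  split <;> simp

theorem inv_ne_one {l : Kd T →* ℂˣ} (hl : l ≠ 1) : l⁻¹ ≠ 1 := fun e =>
  hl (MonoidHom.ext fun x => inv_eq_one.mp (by simpa using DFunLike.congr_fun e x))

theorem zeta_gen (l : Kd T →* ℂˣ) : IsGeneralizedCharacter T (P.zeta l) :=
  mem_genChar.mp
    (genChar_of_isCharacter (isCharacter_indFun _ (isCharacter_of_irr (isIrrCharacter_linear l))))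

theorem zeta_sub_gen (l l' : Kd T →* ℂˣ) : IsGeneralizedCharacter T (P.zeta l - P.zeta l') :=
  isGeneralized_sub (P.zeta_gen l) (P.zeta_gen l')

theorem zeta_sub_one (l l' : Kd T →* ℂˣ) : (P.zeta l - P.zeta l') 1 = 0 := by
  rw [Pi.sub_apply, P.zeta_one, P.zeta_one, sub_self]

theorem zeta_sub_off (l l' : Kd T →* ℂˣ) (x : T) (hx : x ∉ Kd T) :
    (P.zeta l - P.zeta l') x = 0 := by
  rw [Pi.sub_apply, P.zeta_of_notMem l hx, P.zeta_of_notMem l' hx, sub_self]

theorem psi_family {η : (W₁ →* ℂˣ) → (W₂ →* ℂˣ) → G → ℂ} [Fintype (W₂ →* ℂˣ)]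
    (hη : Grid W₁ W₂ η) (hrow : P.IsRow η) : LinFamily P (P.psi η) := by
  classical
  refine ⟨fun l _ => P.psi_gen hη l, fun l l' hl hl' => ?_, fun l l' hl hl' => ?_⟩
  · intro _
    have h : classInner (P.psi η l) (∑ b, η 1 b) = 0 := by
      rw [inner_sum_right]
      exact Finset.sum_eq_zero fun b _ => P.psi_eta hη hrow hl 1 b
    conv_lhs => arg 2; rw [psi]
    rw [Chars.inner_sub_right, h, P.inner_psi_beta hη hrow hl hl', zero_sub, neg_neg]
  · rw [psi, psi, beta, beta, sub_sub_sub_cancel_left, ← P.tau_sub, alpha, alpha,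
      sub_sub_sub_cancel_left]

/-- A coherent extension gives a family. -/
theorem coherent_family {E : Set (T → ℂ)} (hE : ∀ l : Kd T →* ℂˣ, l ≠ 1 → P.zeta l ∈ E)
    {τ₁ : (T → ℂ) → (G → ℂ)} (h1 : IsLinearIsometryOn (zspan E) τ₁)
    (h2 : ∀ α ∈ zspanOn E {1}ᶜ, τ₁ α = P.tau α) :
    LinFamily P fun l => τ₁ (P.zeta l) := by
  have hmem : ∀ l : Kd T →* ℂˣ, l ≠ 1 → P.zeta l ∈ zspan E := fun l hl =>
    Submodule.subset_span (hE l hl)
  refine ⟨fun l hl => h1.2.2.2 _ (hmem l hl), fun l l' hl hl' => ?_, fun l l' hl hl' => ?_⟩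
  · intro _
    rw [h1.2.2.1 _ (hmem l hl) _ (hmem l' hl'), P.inner_zeta hl hl']
  · have hd : P.zeta l - P.zeta l' ∈ zspanOn E {1}ᶜ :=
      ⟨(Submodule.span ℤ E).sub_mem (hmem l hl) (hmem l' hl'), fun x hx => by
        rw [show x = 1 by simpa using hx, P.zeta_sub_one]⟩
    rw [← h2 _ hd]
    exact (isometry_map_sub (M := Submodule.span ℤ E) h1 (hmem l hl) (hmem l' hl')).symm

variable {ν : (Kd T →* ℂˣ) → G → ℂ}

theorem fam_norm (F : LinFamily P ν) {l : Kd T →* ℂˣ} (hl : l ≠ 1) :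
    classInner (ν l) (ν l) = 1 := by
  classical
  rw [F.inner l l hl hl, if_pos rfl]

theorem fam_perp (F : LinFamily P ν) {l : Kd T →* ℂˣ} (hl : l ≠ 1) :
    classInner (ν l) (ν l⁻¹) = 0 := by
  classical
  rw [F.inner l l⁻¹ hl (P.inv_ne_one hl), if_neg (P.zeta_conj_ne hl).symm]

/-- All members have the same nonzero degree. -/
theorem fam_one (F : LinFamily P ν) {l l' : Kd T →* ℂˣ} (hl : l ≠ 1) (hl' : l' ≠ 1) :
    ν l 1 = ν l' 1 := by
  have h := congrFun (F.diff l l' hl hl') 1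
  rw [Pi.sub_apply, Pair.tau, dadeIsometry_one P.dade_T, sub_eq_zero] at h
  exact h

theorem fam_diff_one (F : LinFamily P ν) {l l' : Kd T →* ℂˣ} (hl : l ≠ 1) (hl' : l' ≠ 1) :
    classInner (ν l) (fun _ => 1) = classInner (ν l') (fun _ => 1) := by
  classical
  haveI : Fintype (Kd T) := Fintype.ofFinite _
  rw [← sub_eq_zero, ← Chars.inner_sub_left, F.diff l l' hl hl',
    P.tau_inner_one (isClassFunction_of_isGeneralized (P.zeta_sub_gen l l')) (P.zeta_sub_one l l')
      (P.zeta_sub_off l l'), Chars.inner_sub_left, zeta, zeta,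
    inner_indFun _ _ (fun _ _ => rfl), inner_indFun _ _ (fun _ _ => rfl),
    show (fun k : Kd T => (1 : ℂ)) = fun k => ((1 : Kd T →* ℂˣ) k : ℂ) from rfl,
    PF13.inner_lin, PF13.inner_lin, if_neg hl, if_neg hl', sub_zero]

theorem isGeneralized_one : IsGeneralizedCharacter G fun _ => (1 : ℂ) :=
  mem_genChar.mp (genChar_of_isCharacter isCharacter_one)

theorem fam_inner_one (F : LinFamily P ν) {l : Kd T →* ℂˣ} (hl : l ≠ 1) :
    classInner (ν l) (fun _ => 1) = 0 :=
  orth_of_equal_coeff (F.gen l hl) (F.gen _ (P.inv_ne_one hl)) (P.isGeneralized_one)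
    (P.fam_norm F hl) (P.fam_norm F (P.inv_ne_one hl)) Chars.inner_one_one (P.fam_perp F hl)
    (P.fam_diff_one F hl (P.inv_ne_one hl))

/-- The family is orthogonal to the grid. -/
theorem fam_eta {η : (W₁ →* ℂˣ) → (W₂ →* ℂˣ) → G → ℂ} (hη : Grid W₁ W₂ η) (F : LinFamily P ν)
    {l : Kd T →* ℂˣ} (hl : l ≠ 1) (a : W₁ →* ℂˣ) (b : W₂ →* ℂˣ) :
    classInner (ν l) (η a b) = 0 := by
  classical
  haveI : Fintype (W₁ →* ℂˣ) := Fintype.ofFinite _
  haveI : Fintype (W₂ →* ℂˣ) := Fintype.ofFinite _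
  have hl' := P.inv_ne_one hl
  refine orth_of_equal_coeff (F.gen l hl) (F.gen _ hl') (hη.gen a b) (P.fam_norm F hl)
    (P.fam_norm F hl') (by rw [hη.orth, if_pos ⟨rfl, rfl⟩]) (P.fam_perp F hl) ?_
  rw [← sub_eq_zero, ← Chars.inner_sub_left]
  refine grid_zero_of_norm_two hη (by rw [P.card_hom_W₁]; exact P.three_le_card_W₁)
    (by rw [P.card_hom_W₂]; exact P.three_le_card_W₂)
    (isGeneralized_sub (F.gen l hl) (F.gen _ hl')) (fun x y hx hy hx1 hy1 => ?_) ?_ ?_ a b
  · rw [F.diff l l⁻¹ hl hl']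
    exact P.tau_regular (isClassFunction_of_isGeneralized (P.zeta_sub_gen l l⁻¹))
      (P.zeta_sub_one l l⁻¹) (P.zeta_sub_off l l⁻¹) x y hx hy hx1 hy1
  · rw [Chars.inner_sub_left, P.fam_diff_one F hl hl', sub_self]
  · rw [Chars.inner_sub_left, Chars.inner_sub_right, Chars.inner_sub_right, P.fam_norm F hl,
      P.fam_norm F hl', P.fam_perp F hl, ← inner_conj, P.fam_perp F hl, map_zero]
    norm_num

theorem eq_principal_of_real {f : G → ℂ} (hf : IsGeneralizedCharacter G f)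
    (hn : classInner f f = 1) (hr : conjFun f = f) : classInner f (fun _ => 1) ≠ 0 := by
  have hreal : ∀ g, (f g).im = 0 := fun g => Complex.conj_eq_iff_im.mp (congrFun hr g)
  rcases irr_or_neg_irr_of_norm_one hf hn with h | h
  · have h' : f = fun _ => 1 :=
      congrArg Subtype.val (eq_principal_of_real_of_odd P.minimal.1 ⟨f, h⟩ hreal)
    rw [h', Chars.inner_one_one]
    exact one_ne_zero
  · have h' : -f = fun _ => 1 :=
      congrArg Subtype.val (eq_principal_of_real_of_odd P.minimal.1 ⟨-f, h⟩ fun g => by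
        simp [hreal g])
    rw [show f = (-1 : ℂ) • (fun _ => (1 : ℂ)) by rw [← h']; simp, Chars.inner_smul_left,
      Chars.inner_one_one]
    norm_num

theorem zeta_inv_inv (l : Kd T →* ℂˣ) : P.zeta l⁻¹⁻¹ = P.zeta l :=
  congrArg P.zeta (MonoidHom.ext fun x => inv_inv (l x))

/-- The family commutes with complex conjugation. -/
theorem fam_conj (F : LinFamily P ν) {l : Kd T →* ℂˣ} (hl : l ≠ 1) :
    conjFun (ν l) = ν l⁻¹ := by
  classical
  have hl' := P.inv_ne_one hl
  have hgc : IsGeneralizedCharacter G (conjFun (ν l)) := by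
    obtain ⟨χ, φ, h1, h2, e⟩ := F.gen l hl
    refine ⟨_, _, isCharacter_conj h1, isCharacter_conj h2, ?_⟩
    funext g
    simp [e, conjFun]
  have hgc' : IsGeneralizedCharacter G (conjFun (ν l⁻¹)) := by
    obtain ⟨χ, φ, h1, h2, e⟩ := F.gen _ hl'
    refine ⟨_, _, isCharacter_conj h1, isCharacter_conj h2, ?_⟩
    funext g
    simp [e, conjFun]
  have hd : conjFun (ν l) - conjFun (ν l⁻¹) = ν l⁻¹ - ν l := by
    rw [F.diff l⁻¹ l hl' hl]
    have e : conjFun (ν l) - conjFun (ν l⁻¹) = conjFun (ν l - ν l⁻¹) := by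
      funext g; simp [conjFun]
    rw [e, F.diff l l⁻¹ hl hl', Pair.tau, conjFun_dadeIsometry]
    congr 1
    funext x
    simp only [conjFun, Pi.sub_apply, map_sub]
    rw [show conj (P.zeta l x) = conjFun (P.zeta l) x from rfl,
      show conj (P.zeta l⁻¹ x) = conjFun (P.zeta l⁻¹) x from rfl, ← P.zeta_inv, ← P.zeta_inv,
      P.zeta_inv_inv]
  have hperp : classInner (conjFun (ν l⁻¹)) (conjFun (ν l)) = 0 := by
    rw [inner_conjFun, ← inner_conj, P.fam_perp F hl, map_zero, map_zero]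
  rcases match_diff hgc (F.gen _ hl') (F.gen l hl) (by rw [inner_conjFun, P.fam_norm F hl, map_one])
      (P.fam_norm F hl') (P.fam_norm F hl) hperp
      (by rw [← inner_conj, P.fam_perp F hl, map_zero]) hd with h | h
  · exact h.symm
  · exfalso
    have h1 := congrFun h 1
    obtain ⟨z, hz⟩ := genChar_one_int (mem_genChar.mpr (F.gen l hl))
    have hne := gen_one_ne_zero_of_norm_one (mem_genChar.mpr (F.gen l hl)) (P.fam_norm F hl)
    simp only [Pi.neg_apply, conjFun, hz] at h1 hne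
    rw [map_intCast] at h1
    exact hne (by linear_combination h1 / 2)

/-- Orthogonality to a second coherent pair. -/
theorem fam_orth_pair (F : LinFamily P ν) {l : Kd T →* ℂˣ} (hl : l ≠ 1) {x x' : G → ℂ}
    (hx : IsGeneralizedCharacter G x) (nx : classInner x x = 1) (hxx : conjFun x = x')
    (h : classInner (ν l - ν l⁻¹) (x - x') = 0) : classInner (ν l) x = 0 := by
  have hl' := P.inv_ne_one hl
  refine orth_of_equal_coeff (F.gen l hl) (F.gen _ hl') hx (P.fam_norm F hl) (P.fam_norm F hl') nx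
    (P.fam_perp F hl) ?_
  subst hxx
  obtain ⟨A, hA⟩ := inner_int (F.gen l hl) hx
  obtain ⟨C, hC⟩ := inner_int (F.gen _ hl') hx
  rw [Chars.inner_sub_left, Chars.inner_sub_right, Chars.inner_sub_right] at h
  have e1 : classInner (ν l) (conjFun x) = C := by
    rw [← conjFun_conjFun (ν l), inner_conjFun, P.fam_conj F hl, hC, map_intCast]
  have e2 : classInner (ν l⁻¹) (conjFun x) = A := by
    rw [← P.fam_conj F hl, inner_conjFun, hA, map_intCast]
  rw [hA, hC, e1, e2] at h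
  rw [hA, hC]
  linear_combination h / 2

/-- The sign is the same for all members: the positive member of a pair. -/
theorem fam_irr (F : LinFamily P ν) {l : Kd T →* ℂˣ} (hl : l ≠ 1) :
    IsIrrCharacter G (ν l) ∨ IsIrrCharacter G (-ν l) :=
  irr_or_neg_irr_of_norm_one (F.gen l hl) (P.fam_norm F hl)

/-- Representatives of the classes of the linear characters inducing the same function. -/
theorem exists_reps : ∃ L : Finset (Kd T →* ℂˣ), (∀ l ∈ L, l ≠ 1) ∧
    Set.InjOn P.zeta (L : Set (Kd T →* ℂˣ)) ∧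
    (∀ l, l ≠ 1 → ∃ l' ∈ L, P.zeta l' = P.zeta l) ∧
    Nat.card W₂ * L.card + 1 = vT T ∧ 2 ≤ L.card := by
  classical
  haveI : Fintype (Kd T →* ℂˣ) := Fintype.ofFinite _
  set A := (Finset.univ : Finset (Kd T →* ℂˣ)).erase 1
  set Z := A.image P.zeta
  have hsec : ∀ z : {z // z ∈ Z}, ∃ l ∈ A, P.zeta l = z.1 := fun z => Finset.mem_image.mp z.2
  choose f hfA hf using hsec
  have hinj : Function.Injective f := fun z z' e => Subtype.ext (by rw [← hf z, ← hf z', e])
  have hcardL : (Z.attach.image f).card = Z.card := by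
    rw [Finset.card_image_of_injective _ hinj, Finset.card_attach]
  have hv : 1 < vT T := (StepA.vT_mod P).2
  have hfib : ∀ z ∈ Z, (A.filter fun l => P.zeta l = z).card = Nat.card W₂ := by
    intro z hz
    obtain ⟨l, hl, rfl⟩ := Finset.mem_image.mp hz
    have hl1 : l ≠ 1 := Finset.ne_of_mem_erase hl
    rw [← P.card_zeta_fiber hl1]
    congr 1
    refine Finset.ext fun l' => ?_
    simp only [A, Finset.mem_filter, Finset.mem_erase, Finset.mem_univ, and_true, true_and]
    refine ⟨fun h => h.2, fun h => ⟨?_, h⟩⟩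
    rintro rfl
    have h1 := P.inner_indOne_zeta hl1
    rw [show indOne (Kd T) = P.zeta 1 from rfl, h, P.inner_zeta hl1 hl1, if_pos rfl] at h1
    exact one_ne_zero h1
  have hA : A.card + 1 = vT T := by
    rw [Finset.card_erase_add_one (Finset.mem_univ _), Finset.card_univ, P.card_hom_Kd]
  have hcount : Nat.card W₂ * Z.card + 1 = vT T := by
    rw [← hA, Finset.card_eq_sum_card_image P.zeta A, Finset.sum_congr rfl hfib, Finset.sum_const,
      smul_eq_mul, mul_comm]
  refine ⟨Z.attach.image f, ?_, ?_, ?_, by rw [hcardL]; exact hcount, ?_⟩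
  · intro l hl
    obtain ⟨z, -, rfl⟩ := Finset.mem_image.mp hl
    exact Finset.ne_of_mem_erase (hfA z)
  · intro x hx y hy e
    obtain ⟨z, -, rfl⟩ := Finset.mem_image.mp (Finset.mem_coe.mp hx)
    obtain ⟨z', -, rfl⟩ := Finset.mem_image.mp (Finset.mem_coe.mp hy)
    rw [hf, hf] at e
    rw [Subtype.ext e]
  · intro l hl
    have hz : P.zeta l ∈ Z :=
      Finset.mem_image.mpr ⟨l, Finset.mem_erase.mpr ⟨hl, Finset.mem_univ _⟩, rfl⟩
    exact ⟨f ⟨_, hz⟩, Finset.mem_image.mpr ⟨_, Finset.mem_attach _ _, rfl⟩, hf _⟩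
  · rw [hcardL]
    obtain ⟨l, hl⟩ : ∃ l, l ∈ A := Finset.card_pos.mp (by omega)
    have hl1 : l ≠ 1 := Finset.ne_of_mem_erase hl
    refine Finset.one_lt_card.mpr ⟨_, Finset.mem_image.mpr ⟨l, hl, rfl⟩, P.zeta l⁻¹,
      Finset.mem_image.mpr ⟨l⁻¹, Finset.mem_erase.mpr ⟨P.inv_ne_one hl1, Finset.mem_univ _⟩, rfl⟩,
      (P.zeta_conj_ne hl1).symm⟩

/-! ### The functions `τ (Ind θ - d ζ)` -/

variable {θ : Kd T → ℂ} {d : ℕ}

/-- `τ (Ind θ - d ζ_l)`. -/
noncomputable def Phi (P : Pair S T W₁ W₂) (θ : Kd T → ℂ) (d : ℕ) (l : Kd T →* ℂˣ) : G → ℂ :=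
  P.tau (indFun (Kd T) θ - (d : ℂ) • P.zeta l)

theorem phi_arg_gen (hθ : IsCharacter (Kd T) θ) (l : Kd T →* ℂˣ) :
    IsGeneralizedCharacter T (indFun (Kd T) θ - (d : ℂ) • P.zeta l) :=
  ⟨_, _, isCharacter_indFun _ hθ,
    isCharacter_smul_nat (isCharacter_indFun _ (isCharacter_of_irr (isIrrCharacter_linear l))) d, rfl⟩

theorem phi_arg_one (hd : θ 1 = d) (l : Kd T →* ℂˣ) :
    (indFun (Kd T) θ - (d : ℂ) • P.zeta l) 1 = 0 := by
  rw [Pi.sub_apply, Pi.smul_apply, indFun_one_apply, hd, P.zeta_one, P.index_Kd, smul_eq_mul,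
    mul_comm, sub_self]

theorem phi_arg_off (l : Kd T →* ℂˣ) (x : T) (hx : x ∉ Kd T) :
    (indFun (Kd T) θ - (d : ℂ) • P.zeta l) x = 0 := by
  rw [Pi.sub_apply, Pi.smul_apply, indFun_eq_zero_of_notMem _ _ hx, P.zeta_of_notMem l hx,
    smul_zero, sub_zero]

theorem phi_gen (hθ : IsCharacter (Kd T) θ) (hd : θ 1 = d) (l : Kd T →* ℂˣ) :
    IsGeneralizedCharacter G (P.Phi θ d l) :=
  P.tau_gen (P.phi_arg_gen hθ l) (P.phi_arg_one hd l) (P.phi_arg_off l)

theorem phi_regular (hθ : IsCharacter (Kd T) θ) (hd : θ 1 = d) (l : Kd T →* ℂˣ) (x y : G)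
    (hx : x ∈ W₁) (hy : y ∈ W₂) (hx1 : x ≠ 1) (hy1 : y ≠ 1) : P.Phi θ d l (x * y) = 0 :=
  P.tau_regular (isClassFunction_of_isGeneralized (P.phi_arg_gen hθ l)) (P.phi_arg_one hd l)
    (P.phi_arg_off l) x y hx hy hx1 hy1

/-- `(Ind θ, ζ) = 0` for a nonlinear irreducible `θ`. -/
theorem inner_ind_zeta (hθ : IsIrrCharacter (Kd T) θ) (hd : θ 1 = d) (hd1 : d ≠ 1)
    (l : Kd T →* ℂˣ) : classInner (indFun (Kd T) θ) (P.zeta l) = 0 := by
  classical
  haveI : Fintype (Kd T) := Fintype.ofFinite _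
  have hne : ∀ g : T, conjFn (Kd T) g θ ≠ fun x => (l x : ℂ) := fun g e => hd1 (by
    have h := congrFun e 1
    rw [conjFn, map_one, hd, map_one, Units.val_one] at h
    exact_mod_cast h)
  rw [zeta, inner_indFun_right _ _ (isClassFunction_indFun _ θ),
    inner_indFun_restrict (Kd T) hθ (isIrrCharacter_linear l)]
  haveI : IsEmpty {x : T // conjFn (Kd T) x θ = fun k => (l k : ℂ)} := ⟨fun x => hne x.1 x.2⟩
  simp

theorem inner_phi_one (hθ : IsIrrCharacter (Kd T) θ) (hd : θ 1 = d) (hd1 : d ≠ 1)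
    {l : Kd T →* ℂˣ} (hl : l ≠ 1) : classInner (P.Phi θ d l) (fun _ => 1) = 0 := by
  classical
  haveI : Fintype (Kd T) := Fintype.ofFinite _
  rw [Phi, P.tau_inner_one (isClassFunction_of_isGeneralized
      (P.phi_arg_gen (isCharacter_of_irr hθ) l)) (P.phi_arg_one hd l) (P.phi_arg_off l),
    Chars.inner_sub_left, Chars.inner_smul_left, zeta,
    inner_indFun _ _ (fun _ _ => rfl), inner_indFun _ _ (fun _ _ => rfl),
    show (fun k : Kd T => (1 : ℂ)) = fun k => ((1 : Kd T →* ℂˣ) k : ℂ) from rfl,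
    PF13.inner_lin, if_neg hl, mul_zero, sub_zero,
    inner_irr_of_isIrr hθ (isIrrCharacter_linear 1), if_neg]
  intro e
  refine hd1 ?_
  have h := congrFun e 1
  rw [hd] at h
  simp at h
  exact h

theorem inner_tau_zeta_phi (hθ : IsIrrCharacter (Kd T) θ) (hd : θ 1 = d) (hd1 : d ≠ 1)
    {l l' m : Kd T →* ℂˣ} (hl : l ≠ 1) (hl' : l' ≠ 1) (hm : m ≠ 1)
    [Decidable (P.zeta l = P.zeta m)] [Decidable (P.zeta l' = P.zeta m)] :
    classInner (P.tau (P.zeta l - P.zeta l')) (P.Phi θ d m) =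
      -(d : ℂ) * ((if P.zeta l = P.zeta m then 1 else 0) -
        if P.zeta l' = P.zeta m then 1 else 0) := by
  have h0 : ∀ l : Kd T →* ℂˣ, classInner (P.zeta l) (indFun (Kd T) θ) = 0 := fun l => by
    rw [← inner_conj, P.inner_ind_zeta hθ hd hd1 l, map_zero]
  rw [Phi, P.tau_inner (isClassFunction_of_isGeneralized (P.zeta_sub_gen l l'))
      (P.zeta_sub_one l l') (P.zeta_sub_off l l')
      (isClassFunction_of_isGeneralized (P.phi_arg_gen (isCharacter_of_irr hθ) m)),
    Chars.inner_sub_left, Chars.inner_sub_right, Chars.inner_sub_right, Chars.inner_smul_right,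
    Chars.inner_smul_right, h0, h0, P.inner_zeta hl hm, P.inner_zeta hl' hm, Complex.conj_natCast]
  ring

/-- The constant `z = (ν l₀, Φ_l)` for `ζ_l ≠ ζ_l₀`. -/
theorem exists_z (F : LinFamily P ν) (hθ : IsIrrCharacter (Kd T) θ) (hd : θ 1 = d)
    (hd1 : d ≠ 1) : ∃ z : ℤ, ∀ l₀ l : Kd T →* ℂˣ, l₀ ≠ 1 → l ≠ 1 →
      [Decidable (P.zeta l₀ = P.zeta l)] →
      classInner (ν l₀) (P.Phi θ d l) =
        (z : ℂ) - (d : ℂ) * if P.zeta l₀ = P.zeta l then 1 else 0 := by
  classical
  obtain ⟨L, hL1, -, -, -, hL2⟩ := P.exists_reps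
  obtain ⟨r, hr⟩ := Finset.card_pos.mp (by omega : 0 < L.card)
  have hr1 := hL1 r hr
  obtain ⟨w, hw⟩ := inner_int (F.gen r hr1) (P.phi_gen (isCharacter_of_irr hθ) hd r)
  refine ⟨w + d, fun l₀ l hl₀ hl => ?_⟩
  intro _
  have h1 : ∀ m, m ≠ 1 → classInner (ν l₀) (P.Phi θ d m) - classInner (ν r) (P.Phi θ d m) =
      -(d : ℂ) * ((if P.zeta l₀ = P.zeta m then 1 else 0) -
        if P.zeta r = P.zeta m then 1 else 0) := fun m hm => by
    rw [← Chars.inner_sub_left, F.diff l₀ r hl₀ hr1, P.inner_tau_zeta_phi hθ hd hd1 hl₀ hr1 hm]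
  have h2 : classInner (ν r) (P.Phi θ d l) - classInner (ν r) (P.Phi θ d r) =
      -(d : ℂ) * ((if P.zeta r = P.zeta l then 1 else 0) - 1) := by
    rw [← Chars.inner_sub_right, Phi, Phi, ← P.tau_sub]
    have e : indFun (Kd T) θ - (d : ℂ) • P.zeta l - (indFun (Kd T) θ - (d : ℂ) • P.zeta r) =
        -((d : ℂ) • (P.zeta l - P.zeta r)) := by
      rw [smul_sub]; abel
    rw [e, show -((d : ℂ) • (P.zeta l - P.zeta r)) = (-(d : ℂ)) • (P.zeta l - P.zeta r) by
      rw [neg_smul], P.tau_smul, Chars.inner_smul_right, ← F.diff l r hl hr1, Chars.inner_sub_right,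
      F.inner r l hr1 hl, F.inner r r hr1 hr1, if_pos rfl, map_neg, Complex.conj_natCast]
  have h3 := h1 l hl
  push_cast
  by_cases h4 : P.zeta l₀ = P.zeta l <;> simp only [h4, if_true, if_false] at h3 ⊢ <;>
    linear_combination h3 + h2 + hw

theorem phi_norm (hθ : IsIrrCharacter (Kd T) θ) (hd : θ 1 = d) (hd1 : d ≠ 1)
    (hinv : ∀ t : T, conjFn (Kd T) t θ = θ) {l : Kd T →* ℂˣ} (hl : l ≠ 1) :
    classInner (P.Phi θ d l) (P.Phi θ d l) = (Nat.card W₂ : ℂ) + (d : ℂ) ^ 2 := by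
  classical
  haveI : Fintype (Kd T) := Fintype.ofFinite _
  have hg := isClassFunction_of_isGeneralized (P.phi_arg_gen (d := d) (isCharacter_of_irr hθ) l)
  have h0 : classInner (P.zeta l) (indFun (Kd T) θ) = 0 := by
    rw [← inner_conj, P.inner_ind_zeta hθ hd hd1 l, map_zero]
  have hI : inertia (Kd T) θ = ⊤ := eq_top_iff.mpr fun t _ => hinv t
  rw [Phi, P.tau_inner hg (P.phi_arg_one hd l) (P.phi_arg_off l) hg, Chars.inner_sub_left,
    Chars.inner_sub_right, Chars.inner_sub_right, Chars.inner_smul_left, Chars.inner_smul_left,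
    Chars.inner_smul_right, Chars.inner_smul_right, P.inner_ind_zeta hθ hd hd1 l, h0,
    P.inner_zeta hl hl, if_pos rfl, inner_indFun_self (Kd T) hθ, hI, relIndex_top_right,
    P.index_Kd, Complex.conj_natCast]
  ring

/-- The grid part of `Φ` and the family share the norm `k + d²`. -/
theorem z_bound {η : (W₁ →* ℂˣ) → (W₂ →* ℂˣ) → G → ℂ} [Fintype (W₁ →* ℂˣ)]
    [Fintype (W₂ →* ℂˣ)] (hη : Grid W₁ W₂ η) (F : LinFamily P ν)
    (hθ : IsIrrCharacter (Kd T) θ) (hd : θ 1 = d) (hd1 : d ≠ 1)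
    (hinv : ∀ t : T, conjFn (Kd T) t θ = θ) {z : ℤ}
    (hz : ∀ l₀ l : Kd T →* ℂˣ, l₀ ≠ 1 → l ≠ 1 → [Decidable (P.zeta l₀ = P.zeta l)] →
      classInner (ν l₀) (P.Phi θ d l) =
        (z : ℂ) - (d : ℂ) * if P.zeta l₀ = P.zeta l then 1 else 0)
    {l : Kd T →* ℂˣ} (hl : l ≠ 1) (c : (W₁ →* ℂˣ) → (W₂ →* ℂˣ) → ℤ)
    (hc : ∀ a b, classInner (P.Phi θ d l) (η a b) = c a b) :
    ((vT T : ℤ) - 1) * z ^ 2 + (Nat.card W₂ : ℤ) * ∑ a, ∑ b, c a b ^ 2 ≤
      (Nat.card W₂ : ℤ) * (Nat.card W₂ + 2 * d * z) := by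
  classical
  obtain ⟨L, hL1, hLinj, hLsurj, hcount, -⟩ := P.exists_reps
  obtain ⟨r, hr, hrl⟩ := hLsurj l hl
  have hη' := grid_orth hη (Finset.univ : Finset ((W₁ →* ℂˣ) × (W₂ →* ℂˣ)))
  have hcross : ∀ x ∈ L, ∀ p : (W₁ →* ℂˣ) × (W₂ →* ℂˣ), classInner (ν x) (η p.1 p.2) = 0 :=
    fun x hx p => P.fam_eta hη F (hL1 x hx) p.1 p.2
  have hb := (bessel (L.disjSum (Finset.univ : Finset ((W₁ →* ℂˣ) × (W₂ →* ℂˣ))))
    (Sum.elim ν fun p => η p.1 p.2) (fun i hi j hj => by
      rcases i with x | p <;> rcases j with y | p'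
      · have hx := Finset.inl_mem_disjSum.mp hi
        have hy := Finset.inl_mem_disjSum.mp hj
        simp only [Sum.elim_inl, Sum.inl.injEq]
        rw [F.inner x y (hL1 x hx) (hL1 y hy)]
        exact if_congr ⟨fun e => hLinj hx hy e, fun e => by rw [e]⟩ rfl rfl
      · rw [Sum.elim_inl, Sum.elim_inr, hcross x (Finset.inl_mem_disjSum.mp hi) p',
          if_neg Sum.inl_ne_inr]
      · rw [Sum.elim_inl, Sum.elim_inr, ← inner_conj, hcross y (Finset.inl_mem_disjSum.mp hj) p,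
          map_zero, if_neg Sum.inr_ne_inl]
      · simp only [Sum.elim_inr, Sum.inr.injEq]
        exact hη' p (Finset.mem_univ _) p' (Finset.mem_univ _))
    (P.Phi θ d l) (Sum.elim (fun x => z - (d : ℤ) * if P.zeta x = P.zeta l then 1 else 0)
      fun p => c p.1 p.2)
    (fun i hi => by
      rcases i with x | p
      · rw [Sum.elim_inl, Sum.elim_inl, ← inner_conj,
          hz x l (hL1 x (Finset.inl_mem_disjSum.mp hi)) hl]
        push_cast
        simp [apply_ite (conj : ℂ → ℂ)]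
      · exact hc p.1 p.2) (n := (Nat.card W₂ : ℤ) + (d : ℤ) ^ 2) (by
      rw [P.phi_norm hθ hd hd1 hinv hl]
      push_cast
      ring)).1
  rw [Finset.sum_disjSum] at hb
  simp only [Sum.elim_inl, Sum.elim_inr, Fintype.sum_prod_type] at hb
  have hsum : ∑ x ∈ L, (z - (d : ℤ) * if P.zeta x = P.zeta l then 1 else 0) ^ 2 =
      (L.card : ℤ) * z ^ 2 - 2 * d * z + (d : ℤ) ^ 2 := by
    rw [← Finset.add_sum_erase _ _ hr, if_pos hrl, Finset.sum_congr rfl fun x hx => by
      rw [if_neg fun e => Finset.ne_of_mem_erase hx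
        (hLinj (Finset.mem_of_mem_erase hx) hr (e.trans hrl.symm))],
      Finset.sum_const, Finset.card_erase_of_mem hr, nsmul_eq_mul,
      Nat.cast_sub (Finset.card_pos.mpr ⟨r, hr⟩ : 1 ≤ L.card)]
    push_cast
    ring
  rw [hsum] at hb
  have hv : (Nat.card W₂ : ℤ) * L.card + 1 = vT T := by exact_mod_cast hcount
  rw [← hv, add_sub_cancel_right]
  nlinarith [mul_le_mul_of_nonneg_left hb (Nat.cast_nonneg (α := ℤ) (Nat.card W₂))]

/-! ### The coefficients of `fres (ν l₀)` -/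

/-- The coefficients at the linear characters and at `θ`. -/
theorem exists_coeff (F : LinFamily P ν) [Fintype (Kd T)] {l₀ : Kd T →* ℂˣ} (hl₀ : l₀ ≠ 1) :
    ∃ c : ℂ,
      (∀ l : Kd T →* ℂˣ, l ≠ 1 → [Decidable (P.zeta l₀ = P.zeta l)] →
        classInner (P.fres (ν l₀)) (fun x => (l x : ℂ)) =
          c + if P.zeta l₀ = P.zeta l then 1 else 0) ∧
      (∀ (θ : Kd T → ℂ) (d : ℕ), IsIrrCharacter (Kd T) θ → θ 1 = d → ∀ z : ℤ,
        (∀ l₀ l : Kd T →* ℂˣ, l₀ ≠ 1 → l ≠ 1 → [Decidable (P.zeta l₀ = P.zeta l)] →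
          classInner (ν l₀) (P.Phi θ d l) =
            (z : ℂ) - (d : ℂ) * if P.zeta l₀ = P.zeta l then 1 else 0) →
        classInner (P.fres (ν l₀)) θ = (z : ℂ) + (d : ℂ) * c) ∧
      ∃ j : ℤ, classInner (P.fres (ν l₀)) (fun _ => 1) - c = j := by
  classical
  set f := P.fres (ν l₀)
  have hν := isClassFunction_of_isGeneralized (F.gen l₀ hl₀)
  have hlin : ∀ l : Kd T →* ℂˣ, IsClassFunction (Kd T) fun x => (l x : ℂ) := fun l =>
    isClassFunction_of_isCharacter (isCharacter_of_irr (isIrrCharacter_linear l))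
  refine ⟨classInner f (fun x => (l₀ x : ℂ)) - 1, fun l hl => ?_, fun θ d hθ hd z hz => ?_, ?_⟩
  · intro _
    have hφ : IsClassFunction (Kd T) ((fun x => (l x : ℂ)) - fun x => (l₀ x : ℂ)) := fun a b => by
      show (fun x => (l x : ℂ)) (b * a * b⁻¹) - (fun x => (l₀ x : ℂ)) (b * a * b⁻¹) = _
      rw [hlin l a b, hlin l₀ a b]
      rfl
    have h := P.inner_tau_ind hφ (by simp) hν
    rw [indFun_sub, show indFun (Kd T) (fun x => (l x : ℂ)) = P.zeta l from rfl,
      show indFun (Kd T) (fun x => (l₀ x : ℂ)) = P.zeta l₀ from rfl, ← F.diff l l₀ hl hl₀, Chars.inner_sub_right,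
      Chars.inner_sub_right, F.inner l₀ l hl₀ hl, P.fam_norm F hl₀] at h
    linear_combination -h
  · have hφ : IsClassFunction (Kd T) (θ - (d : ℂ) • fun x => (l₀ x : ℂ)) := fun a b => by
      show θ (b * a * b⁻¹) - (d : ℂ) • (fun x => (l₀ x : ℂ)) (b * a * b⁻¹) = _
      rw [isClassFunction_of_isCharacter (isCharacter_of_irr hθ) a b, hlin l₀ a b]
      rfl
    have h := P.inner_tau_ind hφ (by simp [hd]) hν
    rw [indFun_sub, indFun_smul,
      show indFun (Kd T) (fun x => (l₀ x : ℂ)) = P.zeta l₀ from rfl, ← Phi, hz l₀ l₀ hl₀ hl₀, if_pos rfl,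
      Chars.inner_sub_right, Chars.inner_smul_right, Complex.conj_natCast] at h
    linear_combination -h
  · have hφ : IsClassFunction (Kd T) ((fun _ => (1 : ℂ)) - fun x => (l₀ x : ℂ)) := fun a b => by
      show (1 : ℂ) - (fun x => (l₀ x : ℂ)) (b * a * b⁻¹) = _
      rw [hlin l₀ a b]
      rfl
    have h := P.inner_tau_ind hφ (by simp) hν
    have e : indFun (Kd T) ((fun _ => (1 : ℂ)) - fun x => (l₀ x : ℂ)) = P.alpha l₀ := indFun_sub _ _ _
    rw [e, ← beta, Chars.inner_sub_right] at h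
    obtain ⟨j, hj⟩ := inner_int (F.gen l₀ hl₀) (P.beta_gen l₀)
    rw [hj] at h
    exact ⟨j + 1, by push_cast; linear_combination -h⟩

end Pair

end CfsgLib.FT.StepA
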