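import Cfsg.Agent.Lib.FT.StepA.CaseFive
import Cfsg.Agent.Lib.FT.StepA.ColumnThreeFour
import Cfsg.Agent.Lib.FT.PF14.Endgame

/-!
# Step A: the partner of a maximal subgroup of Type II is of Type II
-/

set_option autoImplicit false
set_option linter.style.haveILetI false
set_option linter.unusedSectionVars false

namespace CfsgLib.FT.StepA

open _root_.Subgroup Cfsg CfsgLib.Chars CfsgLib.CharsMore CfsgLib.FT.PF13

universe u

namespace Pair

variable {G : Type u} [Group G] {S T W₁ W₂ : Subgroup G} [Fintype G] (P : Pair S T W₁ W₂)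
include P

theorem ne_qk : Nat.card W₁ ≠ Nat.card W₂ := by
  intro e
  have hcop := P.coprime_k
  rw [← e] at hcop
  exact P.prime_q.one_lt.ne' (Nat.Coprime.eq_one_of_dvd hcop (card_dvd_of_le P.W₁_le_derived))

variable [Fintype T] {μ : (W₁ →* ℂˣ) → (W₂ →* ℂˣ) → T → ℂ} {δ : (W₁ →* ℂˣ) → ℂ}
  {η : (W₁ →* ℂˣ) → (W₂ →* ℂˣ) → G → ℂ}

theorem row_false [Fintype (W₂ →* ℂˣ)] (E : Exc T W₁ W₂ μ δ) (hη : Grid W₁ W₂ η)
    (hrow : P.IsRow η) {l₀ : Kd T →* ℂˣ} (hl₀ : l₀ ≠ 1) : False := by
  have hq3 := P.three_le_card_W₁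
  have hk3 := P.three_le_card_W₂
  have hne := P.ne_qk
  have hv : 0 < vT T := lt_trans one_pos (vT_mod P).2
  obtain ⟨i, hi⟩ := P.odd_card (X := W₁)
  obtain ⟨j, hj⟩ := P.odd_card (X := W₂)
  by_cases h34 : IsOfTypeIII T ∨ IsOfTypeIV T
  · obtain ⟨B, B₀, hB⟩ := exists_quotData P h34
    exact P.row_false_of_big hη hrow hl₀ hv
      (row_NT_arith hq3 hB.prime_k hk3 hne (NT_le_vT P h34 hB) (by omega))
  have hV : IsOfTypeV T := by
    rcases P.typeT with h | h | h
    · exact absurd (Or.inl h) h34
    · exact absurd (Or.inr h) h34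
    · exact h
  rcases lt_or_gt_of_ne hne with hlt | hlt
  · by_cases hq : IsPGroup (Nat.card W₁) ↥(⁅T, T⁆ : Subgroup G)
    · exact P.row_false_q_group hV hlt hq E hη hrow hl₀
    · exact P.row_false_of_big hη hrow hl₀ hv
        (row_square_arith hq3 (by omega) (vT_big P hV hq))
  · by_cases h35 : Nat.card W₂ = 3 ∧ Nat.card W₁ = 5 ∧ vT T < 27
    · obtain ⟨hk, hq, hlt27⟩ := h35
      have h1 := sq_q_le_vT P hV
      rw [hq] at h1
      have h2 := (vT_mod P).1
      rw [hk] at h2
      have hv25 : vT T = 25 := by omega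
      obtain ⟨hp, hTI | hcard⟩ := three_five P hV hk hq hv25
      · have F := P.psi_family hη hrow
        by_cases hc : ∀ w ∈ W₁, ∀ y ∈ (⁅T, T⁆ : Subgroup G), w * y = y * w
        · have C := P.central_W₁ hc
          refine P.row_weight_false hp hTI hη hrow hl₀ C (P.const_W₁ hp hTI F hl₀) ?_
          have hD : (25 : ℝ) ≤ (P.inKd W₁).index := by
            have : 25 ≤ (P.inKd W₁).index := by
              rw [P.index_inKd_mul C, hv25]
              exact Nat.le_mul_of_pos_left _ (Nat.pos_of_ne_zero index_ne_zero_of_finite)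
            exact_mod_cast this
          rw [hk, hq]
          push_cast
          linarith
        · have C := P.central_centreZ hV hc
          refine P.row_weight_false hp hTI hη hrow hl₀ C (P.const_centreZ hV hc hTI E hη F hl₀) ?_
          have hD : (25 : ℝ) ≤ (P.inKd P.centreZ).index := by
            have : 25 ≤ (P.inKd P.centreZ).index := by
              rw [P.index_inKd_mul C, hv25]
              exact Nat.le_mul_of_pos_left _ (Nat.pos_of_ne_zero index_ne_zero_of_finite)
            exact_mod_cast this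
          have hZ : (7 : ℝ) ≤ Nat.card P.centreZ := by
            have := P.le_card_centreZ hV hc
            rw [hk] at this
            exact_mod_cast this
          rw [hk, hq]
          push_cast
          nlinarith
      · exact P.row_false_125 E hη hrow hk hq hv25 hcard
    · exact P.row_false_of_big hη hrow hl₀ hv (row_q_sq_arith hk3 (by omega) (sq_q_le_vT P hV)
        (fun h3 h5 => by
          push Not at h35
          exact h35 h3 h5) (fun _ => by omega))

theorem contradiction [Fintype S] : False := by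
  classical
  haveI : Fintype (W₁ →* ℂˣ) := Fintype.ofFinite _
  haveI : Fintype (W₂ →* ℂˣ) := Fintype.ofFinite _
  obtain ⟨η, hη⟩ := exists_grid P.selfNorm P.odd_card
  obtain ⟨μ, δ, E⟩ := P.exists_exc
  obtain ⟨L, hL1, -, -, -, hL2⟩ := P.exists_reps
  obtain ⟨l₀, hl⟩ := Finset.card_pos.mp (by omega : 0 < L.card)
  rcases P.dichotomy hη (hL1 l₀ hl) with hrow | ⟨c, hcol⟩
  · exact P.row_false E hη hrow (hL1 l₀ hl)
  rcases P.typeT with h | h | h
  · exact P.column_false_three_four (Or.inl h) E hη hcol
  · exact P.column_false_three_four (Or.inr h) E hη hcol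
  · exact P.column_false_five h E hη hcol

end Pair

/-- Step A of the endgame. -/
theorem stepA : CfsgLib.FT.PF14.StepA.{u} := by
  intro G _ _ hG S T W₁ W₂ U V hS hT hSP hTP hST hSII htype
  rcases htype with h | h
  · exact h
  exfalso
  haveI := Fintype.ofFinite G
  haveI : Fintype S := Fintype.ofFinite _
  haveI : Fintype T := Fintype.ofFinite _
  exact (Pair.mk hG hS hT hSP.selfNormalizing hSP.W₁_compl hTP.W₁_compl hST hSII h :
    Pair S T W₁ W₂).contradiction

end CfsgLib.FT.StepA
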