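import Cfsg.Agent.Lib.FT.LocalDischarge
import Cfsg.Agent.Lib.FT.TypeBridge
import Cfsg.Agent.S1386

/-!
# A pair of maximal subgroups of which only one is of Type II: basic facts

`S` is of Type II, `T` of Type III, IV or V; `W₁` (order `q`) complements `S'` in `S` and `W₂`
(order `k`) complements `T'` in `T`.
-/

set_option autoImplicit false
set_option linter.style.haveILetI false
set_option linter.unusedSectionVars false

namespace CfsgLib.FT.StepA

open _root_.Subgroup Cfsg CfsgLib.OddOrder CfsgLib.FT.BG15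
open scoped Pointwise

universe u

variable {G : Type u} [Group G] [Finite G]

/-- The hypotheses: a pair with `S` of Type II and `T` of Type III, IV or V. -/
structure Pair (S T W₁ W₂ : Subgroup G) : Prop where
  minimal : IsMinSimpleOddOrder G
  coatomS : IsCoatom S
  coatomT : IsCoatom T
  selfNorm : IsSelfNormalizingCyclic W₁ W₂
  complS : IsComplIn ⁅S, S⁆ W₁ S
  complT : IsComplIn ⁅T, T⁆ W₂ T
  inter : S ⊓ T = W₁ ⊔ W₂
  typeII : IsOfTypeII S
  typeT : IsOfTypeIII T ∨ IsOfTypeIV T ∨ IsOfTypeV T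

/-- The non-identity elements of the derived subgroup. -/
def derA (T : Subgroup G) : Set G := ((⁅T, T⁆ : Subgroup G) : Set G) \ {1}

/-- `|T' : T''|`. -/
noncomputable def vT (T : Subgroup G) : ℕ := ⁅⁅T, T⁆, ⁅T, T⁆⁆.relIndex ⁅T, T⁆

/-- The two factors of a self-normalising cyclic subgroup can be exchanged. -/
theorem selfNorm_swap {W₁ W₂ : Subgroup G} (h : IsSelfNormalizingCyclic W₁ W₂) :
    IsSelfNormalizingCyclic W₂ W₁ := by
  obtain ⟨h1, h2, h3, h4, h5, h6⟩ := h
  refine ⟨h2, h1, by rw [inf_comm, h3], fun a ha b hb => (h4 b hb a ha).symm,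
    by rw [sup_comm]; exact h5, fun X hX hne => ?_⟩
  rw [sup_comm]
  refine h6 X (fun x hx => ?_) hne
  obtain ⟨hx1, hx2⟩ := hX hx
  exact ⟨by rw [sup_comm]; exact hx1, fun h => hx2 h.symm⟩

/-- Any complement of `M'` with a given decomposition is itself the `K` of one. -/
theorem exists_decomposition_of_compl (hG : IsMinSimpleOddOrder G) {M W : Subgroup G}
    (hM : IsCoatom M) {K U : Subgroup G} (hD : IsSigmaDecomposition M K U) (hK : K ≠ ⊥)
    (hW : IsCyclic W) (hc : IsComplIn ⁅M, M⁆ W M) :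
    ∃ U' : Subgroup G, IsSigmaDecomposition M W U' := by
  have hcard : Nat.card W = Nat.card K :=
    Nat.eq_of_mul_eq_mul_left Nat.card_pos ((card_mul_card_of_isComplIn hc).trans
      (card_mul_card_of_isComplIn (BG16.derived_compl BG15.upstream hG hM hD hK)).symm)
  refine BG15.exists_decomposition_of_hall BG15.upstream hG hM hW
    ⟨hc.2.1, fun p hp hd => hD.hall.2.1 p hp (hcard ▸ hd), fun p hp hk => ?_⟩
  have h1 := relIndex_mul_card_of_le hc.2.1
  have h2 := relIndex_mul_card_of_le hD.hall.1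
  rw [hcard, ← h2] at h1
  rw [Nat.eq_of_mul_eq_mul_right Nat.card_pos h1]
  exact hD.hall.2.2 p hp hk

namespace Pair

variable {S T W₁ W₂ : Subgroup G} (P : Pair S T W₁ W₂)
include P

theorem W₁_le_T : W₁ ≤ T := le_sup_left.trans (P.inter.ge.trans inf_le_right)

theorem W₂_le_T : W₂ ≤ T := P.complT.2.1

theorem W₁_le_S : W₁ ≤ S := P.complS.2.1

theorem W₂_le_S : W₂ ≤ S := le_sup_right.trans (P.inter.ge.trans inf_le_left)

theorem exists_decompS : ∃ U : Subgroup G, IsSigmaDecomposition S W₁ U ∧ U ≠ ⊥ := by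
  obtain ⟨K, U, hD⟩ := BG15.exists_decomposition BG15.upstream P.minimal P.coatomS
  obtain ⟨hK, -⟩ := (BG16.isOfTypeII_iff BG15.upstream P.minimal P.coatomS hD).mp P.typeII
  have hc := P.selfNorm.2.2.2.2.1
  obtain ⟨U', hD'⟩ := exists_decomposition_of_compl P.minimal P.coatomS hD hK
    (haveI := hc; isCyclic_of_injective (Subgroup.inclusion (le_sup_left : W₁ ≤ W₁ ⊔ W₂))
      (Subgroup.inclusion_injective _))
    P.complS
  exact ⟨U', hD',
    ((BG16.isOfTypeII_iff BG15.upstream P.minimal P.coatomS hD').mp P.typeII).2⟩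

theorem decompT : IsSigmaDecomposition T W₂ ⊥ := by
  obtain ⟨K, U, hD⟩ := BG15.exists_decomposition BG15.upstream P.minimal P.coatomT
  have aux : ∀ {K U : Subgroup G}, IsSigmaDecomposition T K U → K ≠ ⊥ ∧ U = ⊥ := by
    intro K U hD
    rcases P.typeT with h | h | h
    · exact ⟨((BG16.isOfTypeIII_or_IV_iff BG15.upstream P.minimal P.coatomT hD).mp (Or.inl h)).1,
        ((BG16.isOfTypeIII_or_IV_iff BG15.upstream P.minimal P.coatomT hD).mp (Or.inl h)).2.1⟩
    · exact ⟨((BG16.isOfTypeIII_or_IV_iff BG15.upstream P.minimal P.coatomT hD).mp (Or.inr h)).1,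
        ((BG16.isOfTypeIII_or_IV_iff BG15.upstream P.minimal P.coatomT hD).mp (Or.inr h)).2.1⟩
    · exact ⟨((BG16.isOfTypeV_iff BG15.upstream P.minimal P.coatomT hD).mp h).1,
        ((BG16.isOfTypeV_iff BG15.upstream P.minimal P.coatomT hD).mp h).2.1⟩
  obtain ⟨U', hD'⟩ := exists_decomposition_of_compl P.minimal P.coatomT hD (aux hD).1
    (haveI := P.selfNorm.2.2.2.2.1; isCyclic_of_injective
      (Subgroup.inclusion (le_sup_right : W₂ ≤ W₁ ⊔ W₂)) (Subgroup.inclusion_injective _)) P.complT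
  exact (aux hD').2 ▸ hD'

theorem derivedT : ⁅T, T⁆ = sigmaCore T :=
  BG15.derived_eq_sigmaCore BG15.upstream P.minimal P.coatomT P.decompT rfl

theorem exists_typeP_T : ∃ V : Subgroup G, IsTypePWith T W₂ V W₁ := by
  obtain ⟨V, hV⟩ := BG16.exists_isTypePWith BG15.upstream P.minimal P.coatomT P.decompT P.selfNorm.2.1
  exact ⟨V, Cfsg.Agent.S1386.result W₂ W₁ T V _ (selfNorm_swap P.selfNorm) P.complT P.W₁_le_T hV ▸ hV⟩

theorem exists_typeP_S : ∃ U : Subgroup G, IsTypePWith S W₁ U W₂ := by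
  obtain ⟨U₀, hD, -⟩ := P.exists_decompS
  obtain ⟨U, hU⟩ := BG16.exists_isTypePWith BG15.upstream P.minimal P.coatomS hD P.selfNorm.1
  exact ⟨U, Cfsg.Agent.S1386.result W₁ W₂ S U _ P.selfNorm P.complS P.W₂_le_S hU ▸ hU⟩

theorem W₁_le_derived_two : W₁ ≤ ⁅⁅T, T⁆, ⁅T, T⁆⁆ := by
  obtain ⟨V, hV⟩ := P.exists_typeP_T
  exact hV.W₂_le.trans inf_le_right

theorem W₁_le_derived : W₁ ≤ ⁅T, T⁆ :=
  P.W₁_le_derived_two.trans (commutator_le_self _)

/-- `C_{T'}(y) = W₁` for `y ∈ W₂` other than `1`. -/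
theorem centralizer_W₂ {y : G} (hy : y ∈ W₂) (hy1 : y ≠ 1) :
    ⁅T, T⁆ ⊓ centralizer ({y} : Set G) = W₁ := by
  obtain ⟨V, hV⟩ := P.exists_typeP_T
  exact hV.W₂_centralizer y hy hy1

theorem coprime_k : (Nat.card W₂).Coprime (Nat.card (⁅T, T⁆ : Subgroup G)) := by
  obtain ⟨V, hV⟩ := P.exists_typeP_T
  have e : W₂.relIndex T * Nat.card W₂ = Nat.card T := relIndex_mul_card_of_le P.W₂_le_T
  rw [← card_mul_card_of_isComplIn P.complT] at e
  exact Nat.eq_of_mul_eq_mul_right Nat.card_pos e ▸ hV.W₁_hall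

theorem prime_q : (Nat.card W₁).Prime := by
  obtain ⟨U, hD, hU⟩ := P.exists_decompS
  exact (BG15.card_K_prime BG15.upstream P.minimal P.coatomS hD P.selfNorm.1 hU).1

theorem typeA_T : typeA T = derA T := by
  obtain ⟨V, hV⟩ := P.exists_typeP_T
  have hI : ¬ IsOfTypeI T := fun h => BG16.not_typeF_of_typeP hV h.1
  rw [typeA, if_neg hI, BG16.typeCore_eq BG15.upstream P.minimal P.coatomT, ← P.derivedT]
  ext a
  exact ⟨fun ⟨h1, h2, _⟩ => ⟨h1, h2⟩, fun ⟨h1, h2⟩ => ⟨h1, h2, a, h1, h2, rfl⟩⟩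

theorem typeA1_T : typeA1 T = derA T := by
  rw [typeA1_eq localFacts8 P.minimal P.coatomT, ← P.derivedT]
  rfl

theorem dade_T0 : DadeHypothesis (typeA0 T) T (supportR T) :=
  dadeHypothesis_typeA0 localFacts8 P.minimal P.coatomT

theorem dade_T : DadeHypothesis (derA T) T (supportR T) :=
  P.typeA_T ▸ dadeHypothesis_typeSet localFacts8 P.minimal P.coatomT (Or.inr (Or.inl rfl))

theorem derA_subset_typeA0 : derA T ⊆ typeA0 T := P.typeA_T ▸ typeA_subset_typeA0 T

end Pair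

end CfsgLib.FT.StepA
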