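import Cfsg.Agent.Lib.FT.StepA.Beta
import Cfsg.Agent.S1511
import Cfsg.Agent.S1513
import Cfsg.Agent.S1496

/-!
# Step A: the exceptional characters of `T` and the `W₂`-invariant characters of `T'`

`μ (a, b)` are the irreducible characters of `T` that do not vanish off `T'`; their values at
`w y` (`w ∈ W₁`, `y ∈ W₂` other than `1`) are `δ_a a(w) b(y)`.  `θ_a`, the restriction of
`μ (a, b)` to `T'`, runs over the irreducible characters of `T'` fixed by `W₂`.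
-/

set_option autoImplicit false
set_option linter.style.haveILetI false
set_option linter.unusedSectionVars false

namespace CfsgLib.FT.StepA

open _root_.Subgroup Cfsg CfsgLib.Chars CfsgLib.CharsMore CfsgLib.FT.PF13
open scoped ComplexConjugate

universe u

variable {G : Type u} [Group G] {S T W₁ W₂ : Subgroup G}

/-- The exceptional characters of `T`. -/
structure Exc (T W₁ W₂ : Subgroup G) [Fintype T] (μ : (W₁ →* ℂˣ) → (W₂ →* ℂˣ) → T → ℂ)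
    (δ : (W₁ →* ℂˣ) → ℂ) : Prop where
  irr : ∀ a b, IsIrrCharacter T (μ a b)
  sign : ∀ a, δ a = 1 ∨ δ a = -1
  val : ∀ a b, ∀ w y : T, ∀ hw : (w : G) ∈ W₁, ∀ hy : (y : G) ∈ W₂, y ≠ 1 →
    μ a b (w * y) = δ a * (a ⟨w, hw⟩ : ℂ) * (b ⟨y, hy⟩ : ℂ)
  cover : ∀ χ : T → ℂ, IsIrrCharacter T χ →
    (∃ w y : T, (w : G) ∈ W₁ ∧ (y : G) ∈ W₂ ∧ y ≠ 1 ∧ χ (w * y) ≠ 0) → ∃ a b, χ = μ a b
  congr : ∀ a b, ∃ n : ℤ, μ a b 1 - δ a = n * (Nat.card W₂ : ℂ)

theorem hom_apply_pow_card {H : Subgroup G} (a : H →* ℂˣ) (x : H) :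
    a x ^ Nat.card H = 1 := by
  rw [← map_pow, pow_card_eq_one', map_one]

theorem hom_inv_apply {H : Subgroup G} [Finite H] (a : H →* ℂˣ) (x : H) :
    ((a⁻¹ x : ℂˣ) : ℂ) = conj (a x : ℂ) := by
  rw [MonoidHom.inv_apply, ← map_inv]
  exact char_inv (isCharacter_of_irr (isIrrCharacter_linear a)) x

namespace Pair

variable [Fintype G] (P : Pair S T W₁ W₂)
include P

variable [Fintype T]

theorem Kd_inf_W₂ : Kd T ⊓ W₂.subgroupOf T = ⊥ := by
  rw [eq_bot_iff]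
  rintro x ⟨hx1, hx2⟩
  have h : (x : G) ∈ W₂ ⊓ ⁅T, T⁆ := ⟨hx2, hx1⟩
  rw [P.W₂_inf_derived, mem_bot, OneMemClass.coe_eq_one] at h
  exact h

theorem centralizer_W₂_Kd {y : T} (hy : (y : G) ∈ W₂) (hy1 : y ≠ 1) :
    Kd T ⊓ centralizer ({y} : Set T) = W₁.subgroupOf T := by
  have h := P.centralizer_W₂ hy fun e => hy1 (Subtype.ext e)
  ext x
  rw [mem_inf, mem_centralizer_singleton_iff, mem_subgroupOf, mem_Kd, ← h, mem_inf,
    mem_centralizer_singleton_iff, Subtype.ext_iff]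
  rfl

theorem exists_exc : ∃ μ δ, Exc T W₁ W₂ μ δ := by
  classical
  haveI := P.isCyclic_W₁
  haveI := P.isCyclic_W₂
  set K' := Kd T
  set A := W₂.subgroupOf T
  set B := W₁.subgroupOf T
  have hA : Nat.card A = Nat.card W₂ :=
    Nat.card_congr (Subgroup.subgroupOfEquivOfLe P.W₂_le_T).toEquiv
  have hsup : K' ⊔ A = ⊤ := by
    refine eq_top_iff.mpr fun x _ => ?_
    obtain ⟨a, ha, y, hy, rfl⟩ := P.exists_decomp x
    exact mul_mem_sup ha hy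
  have hne : A ≠ ⊥ := fun h => by
    have h' := hA
    rw [h, Subgroup.card_bot] at h'
    exact P.selfNorm.2.1 (Subgroup.eq_bot_of_card_eq _ h'.symm)
  have hcompl : Subgroup.IsComplement' K' A :=
    Subgroup.isComplement'_of_disjoint_and_mul_eq_univ (disjoint_iff.2 P.Kd_inf_W₂)
      (by rw [← Subgroup.normal_mul, hsup, Subgroup.coe_top])
  have hHall : (Nat.card A).Coprime A.index := by
    rw [hcompl.index_eq_card, hA, P.card_Kd]
    exact P.coprime_k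
  have hB : B ≠ ⊥ := fun h => P.selfNorm.1 ((Subgroup.eq_bot_iff_forall _).2 fun x hx => by
    have hm : (⟨x, P.W₁_le_T hx⟩ : T) ∈ B := hx
    rw [h, mem_bot] at hm
    exact congrArg Subtype.val hm)
  obtain ⟨μ, δ, -, hirr, hδ, hpair, hval, hvan, hcong⟩ := Cfsg.Agent.S1511.result K' A B
    P.Kd_inf_W₂ hsup hne
    (isCyclic_of_injective (Subgroup.subgroupOfEquivOfLe P.W₂_le_T).toMonoidHom
      (Subgroup.subgroupOfEquivOfLe P.W₂_le_T).injective)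
    hHall hB
    (isCyclic_of_injective (Subgroup.subgroupOfEquivOfLe P.W₁_le_T).toMonoidHom
      (Subgroup.subgroupOfEquivOfLe P.W₁_le_T).injective)
    (fun x hx => P.W₁_le_derived hx)
    (fun y hy hy1 => P.centralizer_W₂_Kd hy hy1)
    (P.odd_T.of_dvd_nat (card_subgroup_dvd_card _))
  have hcomm : ∀ a ∈ A, ∀ b ∈ B, a * b = b * a := fun a ha b hb =>
    Subtype.ext (P.commute_W (a := (b : G)) (b := (a : G)) hb ha).symm
  have hdisj : A ⊓ B = ⊥ := le_bot_iff.mp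
    ((inf_le_inf_left A fun x hx => P.W₁_le_derived hx).trans
      (by rw [inf_comm, P.Kd_inf_W₂]))
  obtain ⟨p₁, p₂, hp1, hp2, hp, hpf1, hpf2⟩ := exists_proj_sup hdisj hcomm
  let r₁ : ↥(A ⊔ B) →* W₂ := (T.subtype.comp ((A ⊔ B).subtype.comp p₁)).codRestrict W₂ hp1
  let r₂ : ↥(A ⊔ B) →* W₁ := (T.subtype.comp ((A ⊔ B).subtype.comp p₂)).codRestrict W₁ hp2
  let Ω : (W₁ →* ℂˣ) → (W₂ →* ℂˣ) → (↥(A ⊔ B) →* ℂˣ) := fun a b => b.comp r₁ * a.comp r₂
  have hΩ : ∀ a b (w y : T) (hw : (w : G) ∈ W₁) (hy : (y : G) ∈ W₂)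
      (hwy : w * y ∈ A ⊔ B), (Ω a b ⟨w * y, hwy⟩ : ℂ) = (a ⟨w, hw⟩ : ℂ) * (b ⟨y, hy⟩ : ℂ) := by
    intro a b w y hw hy hwy
    have hw' : w ∈ A ⊔ B := mem_sup_right (show w ∈ B from hw)
    have hy' : y ∈ A ⊔ B := mem_sup_left (show y ∈ A from hy)
    have e : (⟨w * y, hwy⟩ : ↥(A ⊔ B)) = ⟨w, hw'⟩ * ⟨y, hy'⟩ := rfl
    have e1 : r₁ ⟨w * y, hwy⟩ = ⟨y, hy⟩ := Subtype.ext (by
      show (((p₁ ⟨w * y, hwy⟩ : ↥(A ⊔ B)) : T) : G) = y
      rw [e, map_mul, (hpf2 ⟨w, hw'⟩ (show w ∈ B from hw)).1,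
        (hpf1 ⟨y, hy'⟩ (show y ∈ A from hy)).1, one_mul])
    have e2 : r₂ ⟨w * y, hwy⟩ = ⟨w, hw⟩ := Subtype.ext (by
      show (((p₂ ⟨w * y, hwy⟩ : ↥(A ⊔ B)) : T) : G) = w
      rw [e, map_mul, (hpf2 ⟨w, hw'⟩ (show w ∈ B from hw)).2,
        (hpf1 ⟨y, hy'⟩ (show y ∈ A from hy)).2, mul_one])
    show ((b (r₁ _) * a (r₂ _) : ℂˣ) : ℂ) = _
    rw [e1, e2, Units.val_mul, mul_comm]
  have hnot : ∀ w y : T, (w : G) ∈ W₁ → (y : G) ∈ W₂ → y ≠ 1 → w * y ∉ B := by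
    intro w y hw hy hy1 h
    refine hy1 ((mem_bot (x := y)).mp (hdisj ▸ ⟨hy, ?_⟩))
    have h' := B.mul_mem (B.inv_mem (show w ∈ B from hw)) h
    rwa [inv_mul_cancel_left] at h'
  have hδΩ : ∀ a b, δ (Ω a b) = δ (Ω a 1) := fun a b =>
    (hpair _ _ fun w hw => by
      show (b (r₁ w) * a (r₂ w)) = ((1 : W₂ →* ℂˣ) (r₁ w) * a (r₂ w))
      rw [show r₁ w = 1 from Subtype.ext (by
        show (((p₁ w : ↥(A ⊔ B)) : T) : G) = 1
        rw [(hpf2 w hw).1]; rfl), map_one, map_one]).1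
  refine ⟨fun a b => μ (Ω a b), fun a => δ (Ω a 1), fun a b => hirr _, fun a => hδ _,
    fun a b w y hw hy hy1 => ?_, fun χ hχ ⟨w, y, hw, hy, hy1, hne'⟩ => ?_, fun a b => ?_⟩
  · have hmem : w * y ∈ A ⊔ B :=
      mul_mem (mem_sup_right (show w ∈ B from hw)) (mem_sup_left (show y ∈ A from hy))
    show μ (Ω a b) (w * y) = _
    rw [show μ (Ω a b) (w * y) = δ (Ω a b) * (Ω a b ⟨w * y, hmem⟩ : ℂ) from
      hval (Ω a b) ⟨w * y, hmem⟩ (hnot w y hw hy hy1), hΩ, hδΩ, mul_assoc]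
  · by_contra hcon
    push Not at hcon
    have hmem : w * y ∈ A ⊔ B :=
      mul_mem (mem_sup_right (show w ∈ B from hw)) (mem_sup_left (show y ∈ A from hy))
    refine hne' (hvan χ hχ (fun ω => ?_) ⟨w * y, hmem⟩ (hnot w y hw hy hy1))
    let a : W₁ →* ℂˣ := (ω.comp (Subgroup.inclusion (le_sup_right : B ≤ A ⊔ B))).comp
      (Subgroup.subgroupOfEquivOfLe P.W₁_le_T).symm.toMonoidHom
    let b : W₂ →* ℂˣ := (ω.comp (Subgroup.inclusion (le_sup_left : A ≤ A ⊔ B))).comp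
      (Subgroup.subgroupOfEquivOfLe P.W₂_le_T).symm.toMonoidHom
    have : ω = Ω a b := MonoidHom.ext fun z => by
      conv_lhs => rw [← hp z, map_mul]
      rfl
    rw [this]
    exact hcon a b
  · obtain ⟨n, hn⟩ := hcong (Ω a b)
    exact ⟨n, by rw [← hδΩ a b, ← hA]; exact hn⟩

variable {μ : (W₁ →* ℂˣ) → (W₂ →* ℂˣ) → T → ℂ} {δ : (W₁ →* ℂˣ) → ℂ}

theorem exists_W₂_ne_one : ∃ y : T, (y : G) ∈ W₂ ∧ y ≠ 1 := by
  obtain ⟨y, hy, hy1⟩ := (Subgroup.bot_or_exists_ne_one W₂).resolve_left P.selfNorm.2.1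
  exact ⟨⟨y, P.W₂_le_T hy⟩, hy, fun e => hy1 (congrArg Subtype.val e)⟩

theorem delta_ne (E : Exc T W₁ W₂ μ δ) (a : W₁ →* ℂˣ) : δ a ≠ 0 := by
  rcases E.sign a with h | h <;> simp [h]

/-- An irreducible character with the values of `μ a b` on `W₁ (W₂ - {1})` up to a sign is
`μ a b`. -/
theorem exc_unique (E : Exc T W₁ W₂ μ δ) {χ : T → ℂ} (hχ : IsIrrCharacter T χ) {a : W₁ →* ℂˣ}
    {b : W₂ →* ℂˣ} {e : ℂ} (he : e = 1 ∨ e = -1)
    (h : ∀ w y : T, ∀ hw : (w : G) ∈ W₁, ∀ hy : (y : G) ∈ W₂, y ≠ 1 →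
      χ (w * y) = e * (a ⟨w, hw⟩ : ℂ) * (b ⟨y, hy⟩ : ℂ)) :
    χ = μ a b ∧ e = δ a := by
  have he0 : e ≠ 0 := by rcases he with he | he <;> simp [he]
  obtain ⟨y₀, hy₀, hy₀1⟩ := P.exists_W₂_ne_one
  obtain ⟨a', b', rfl⟩ := E.cover χ hχ ⟨1, y₀, W₁.one_mem, hy₀, hy₀1, by
    rw [h 1 y₀ W₁.one_mem hy₀ hy₀1]
    simp [he0]⟩
  have hval : ∀ w y : T, ∀ hw : (w : G) ∈ W₁, ∀ hy : (y : G) ∈ W₂, y ≠ 1 →
      δ a' * (a' ⟨w, hw⟩ : ℂ) * (b' ⟨y, hy⟩ : ℂ) = e * (a ⟨w, hw⟩ : ℂ) * (b ⟨y, hy⟩ : ℂ) :=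
    fun w y hw hy hy1 => by rw [← E.val a' b' w y hw hy hy1, h w y hw hy hy1]
  have h1 : ∀ y : T, ∀ hy : (y : G) ∈ W₂, y ≠ 1 →
      δ a' * (b' ⟨y, hy⟩ : ℂ) = e * (b ⟨y, hy⟩ : ℂ) := fun y hy hy1 => by
    have h0 := hval 1 y W₁.one_mem hy hy1
    rwa [show (⟨((1 : T) : G), W₁.one_mem⟩ : W₁) = 1 from rfl, map_one, map_one, Units.val_one,
      mul_one, mul_one] at h0
  have hodd : (Nat.card W₂).Coprime 2 := Nat.coprime_two_right.mpr P.odd_card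
  have hb : b' = b := by
    refine MonoidHom.ext fun x => ?_
    obtain ⟨z, rfl⟩ := (powCoprime hodd).surjective x
    show b' (z ^ 2) = b (z ^ 2)
    by_cases hz : z = 1
    · simp [hz]
    have hz1 : (⟨(z : G), P.W₂_le_T z.2⟩ : T) ≠ 1 := fun e =>
      hz (Subtype.ext (congrArg (fun t : T => (t : G)) e))
    have h2 := congrArg (fun c : ℂ => c ^ 2) (h1 ⟨(z : G), P.W₂_le_T z.2⟩ z.2 hz1)
    refine Units.ext ?_
    rw [map_pow, map_pow, Units.val_pow_eq_pow_val, Units.val_pow_eq_pow_val]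
    have hs : δ a' ^ 2 = 1 ∧ e ^ 2 = 1 :=
      ⟨by rcases E.sign a' with hh | hh <;> simp [hh], by rcases he with hh | hh <;> simp [hh]⟩
    simpa [mul_pow, hs.1, hs.2] using h2
  subst hb
  have hd : δ a' = e := mul_right_cancel₀ (Units.ne_zero _) (h1 y₀ hy₀ hy₀1)
  have ha : a' = a := MonoidHom.ext fun x => Units.ext (by
    have h2 := hval ⟨(x : G), P.W₁_le_T x.2⟩ y₀ x.2 hy₀ hy₀1
    rw [hd] at h2
    exact mul_left_cancel₀ he0 (mul_right_cancel₀ (Units.ne_zero _) h2))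
  subst ha
  exact ⟨rfl, hd.symm⟩

theorem exc_inj (E : Exc T W₁ W₂ μ δ) {a a' : W₁ →* ℂˣ} {b b' : W₂ →* ℂˣ}
    (h : μ a b = μ a' b') : a = a' ∧ b = b' := by
  obtain ⟨y₀, hy₀, hy₀1⟩ := P.exists_W₂_ne_one
  have hval : ∀ w y : T, ∀ hw : (w : G) ∈ W₁, ∀ hy : (y : G) ∈ W₂, y ≠ 1 →
      δ a * (a ⟨w, hw⟩ : ℂ) * (b ⟨y, hy⟩ : ℂ) = δ a' * (a' ⟨w, hw⟩ : ℂ) * (b' ⟨y, hy⟩ : ℂ) :=
    fun w y hw hy hy1 => by rw [← E.val a b w y hw hy hy1, ← E.val a' b' w y hw hy hy1, h]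
  have hodd : (Nat.card W₂).Coprime 2 := Nat.coprime_two_right.mpr P.odd_card
  have h1 : ∀ y : T, ∀ hy : (y : G) ∈ W₂, y ≠ 1 →
      δ a * (b ⟨y, hy⟩ : ℂ) = δ a' * (b' ⟨y, hy⟩ : ℂ) := fun y hy hy1 => by
    have h0 := hval 1 y W₁.one_mem hy hy1
    rwa [show (⟨((1 : T) : G), W₁.one_mem⟩ : W₁) = 1 from rfl, map_one, map_one, Units.val_one,
      mul_one, mul_one] at h0
  have hb : b = b' := by
    refine MonoidHom.ext fun x => ?_
    obtain ⟨z, rfl⟩ := (powCoprime hodd).surjective x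
    show b (z ^ 2) = b' (z ^ 2)
    by_cases hz : z = 1
    · simp [hz]
    have hz1 : (⟨(z : G), P.W₂_le_T z.2⟩ : T) ≠ 1 := fun e =>
      hz (Subtype.ext (congrArg (fun t : T => (t : G)) e))
    have h2 := congrArg (fun c : ℂ => c ^ 2) (h1 ⟨(z : G), P.W₂_le_T z.2⟩ z.2 hz1)
    refine Units.ext ?_
    rw [map_pow, map_pow, Units.val_pow_eq_pow_val, Units.val_pow_eq_pow_val]
    have hs : ∀ a, δ a ^ 2 = 1 := fun a => by rcases E.sign a with hh | hh <;> simp [hh]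
    simpa [mul_pow, hs] using h2
  subst hb
  refine ⟨?_, rfl⟩
  have hd : δ a = δ a' := mul_right_cancel₀ (Units.ne_zero _) (h1 y₀ hy₀ hy₀1)
  refine MonoidHom.ext fun x => Units.ext ?_
  have h2 := hval ⟨(x : G), P.W₁_le_T x.2⟩ y₀ x.2 hy₀ hy₀1
  rw [hd] at h2
  exact mul_left_cancel₀ (P.delta_ne E a') (mul_right_cancel₀ (Units.ne_zero _) h2)

theorem mu_one (E : Exc T W₁ W₂ μ δ) : μ 1 1 = (fun _ => 1) ∧ δ 1 = 1 := by
  obtain ⟨h1, h2⟩ := P.exc_unique E isIrrCharacter_one (a := 1) (b := 1) (Or.inl rfl)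
    fun w y hw hy hy1 => by simp
  exact ⟨h1.symm, h2.symm⟩

theorem mu_conj (E : Exc T W₁ W₂ μ δ) (a : W₁ →* ℂˣ) (b : W₂ →* ℂˣ) :
    conjFun (μ a b) = μ a⁻¹ b⁻¹ ∧ δ a⁻¹ = δ a := by
  obtain ⟨h1, h2⟩ := P.exc_unique E (isIrrCharacter_conj (E.irr a b)) (a := a⁻¹) (b := b⁻¹)
    (E.sign a) fun w y hw hy hy1 => by
      show conj (μ a b (w * y)) = _
      rw [E.val a b w y hw hy hy1, map_mul, map_mul, hom_inv_apply, hom_inv_apply]
      rcases E.sign a with h | h <;> simp [h]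
  exact ⟨h1, h2.symm⟩

/-- Every element off `T'` is conjugate into `W₁ (W₂ - {1})`. -/
theorem exists_conj_W {t : T} (ht : t ∉ Kd T) : ∃ x w y : T, (w : G) ∈ W₁ ∧ (y : G) ∈ W₂ ∧ y ≠ 1 ∧
    x * t * x⁻¹ = w * y := by
  obtain ⟨a, ha, y, hy, rfl⟩ := P.exists_decomp t
  have hy1 : y ≠ 1 := by
    rintro rfl
    exact ht (by simpa using ha)
  have hcop : (orderOf y).Coprime (Nat.card (Kd T)) := by
    rw [P.card_Kd, ← orderOf_coe]
    exact P.coprime_k.coprime_dvd_left (Subgroup.orderOf_dvd_natCard _ hy)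
  obtain ⟨x, -, c, hc, hcy, e⟩ := Cfsg.Agent.S1496.result (Kd T) y
    (by rw [normalizer_eq_top]; exact mem_top _) hcop a ha
  refine ⟨x, c, y, ?_, hy, hy1, e⟩
  have h : c ∈ Kd T ⊓ centralizer ({y} : Set T) := ⟨hc, mem_centralizer_singleton_iff.mpr hcy⟩
  rwa [P.centralizer_W₂_Kd hy hy1] at h

/-- A linear character of `T` trivial on `T'` with given values on `W₂`. -/
theorem exists_tilde (b : W₂ →* ℂˣ) : ∃ β : T →* ℂˣ, (∀ a ∈ Kd T, β a = 1) ∧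
    ∀ y : T, ∀ hy : (y : G) ∈ W₂, β y = b ⟨y, hy⟩ := by
  let f : W₂ →* T ⧸ Kd T := (QuotientGroup.mk' (Kd T)).comp (Subgroup.inclusion P.W₂_le_T)
  have hinj : Function.Injective f := by
    rw [injective_iff_map_eq_one]
    intro y hy
    have h : Subgroup.inclusion P.W₂_le_T y ∈ Kd T ⊓ W₂.subgroupOf T :=
      ⟨(QuotientGroup.eq_one_iff _).mp hy, y.2⟩
    rw [P.Kd_inf_W₂, mem_bot] at h
    exact Subtype.ext (congrArg (fun t : T => (t : G)) h)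
  have hsurj : Function.Surjective f := by
    intro z
    obtain ⟨t, rfl⟩ := QuotientGroup.mk_surjective z
    obtain ⟨a, ha, y, hy, rfl⟩ := P.exists_decomp t
    refine ⟨⟨y, hy⟩, ?_⟩
    rw [QuotientGroup.mk_mul, (QuotientGroup.eq_one_iff a).mpr ha, one_mul]
    rfl
  let e := MulEquiv.ofBijective f ⟨hinj, hsurj⟩
  refine ⟨b.comp (e.symm.toMonoidHom.comp (QuotientGroup.mk' (Kd T))), fun a ha => ?_,
    fun y hy => ?_⟩
  · show b (e.symm (QuotientGroup.mk' (Kd T) a)) = 1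
    rw [show QuotientGroup.mk' (Kd T) a = 1 from (QuotientGroup.eq_one_iff a).mpr ha, map_one,
      map_one]
  · exact congrArg b (e.symm_apply_apply ⟨y, hy⟩)

/-- `μ a b` is `μ a 1` times a linear character. -/
theorem mu_eq_mul (E : Exc T W₁ W₂ μ δ) (a : W₁ →* ℂˣ) {b : W₂ →* ℂˣ} {β : T →* ℂˣ}
    (hK : ∀ x ∈ Kd T, β x = 1) (hW : ∀ y : T, ∀ hy : (y : G) ∈ W₂, β y = b ⟨y, hy⟩) :
    μ a b = fun t => μ a 1 t * (β t : ℂ) := by
  refine ((P.exc_unique E (χ := fun t => μ a 1 t * (β t : ℂ)) ?_ (E.sign a)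
    fun w y hw hy hy1 => ?_).1).symm
  · simpa [mul_comm] using isIrrCharacter_linear_mul β (E.irr a 1)
  · show μ a 1 (w * y) * (β (w * y) : ℂ) = _
    rw [E.val a 1 w y hw hy hy1, map_mul, hK w (P.W₁_le_derived hw), hW y hy, one_mul]
    simp

/-- `θ_a`, the restriction of `μ (a, b)` to `T'`. -/
noncomputable def theta (_P : Pair S T W₁ W₂) (μ : (W₁ →* ℂˣ) → (W₂ →* ℂˣ) → T → ℂ)
    (a : W₁ →* ℂˣ) : Kd T → ℂ :=
  fun x => μ a 1 x

theorem theta_eq (E : Exc T W₁ W₂ μ δ) (a : W₁ →* ℂˣ) (b : W₂ →* ℂˣ) (x : Kd T) :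
    μ a b x = P.theta μ a x := by
  obtain ⟨β, hK, hW⟩ := P.exists_tilde b
  rw [P.mu_eq_mul E a hK hW]
  show μ a 1 x * (β x : ℂ) = _
  rw [hK _ x.2, Units.val_one, mul_one]
  rfl

theorem mu_norm_off (E : Exc T W₁ W₂ μ δ) (a : W₁ →* ℂˣ) (b : W₂ →* ℂˣ) {t : T} (ht : t ∉ Kd T) :
    ‖μ a b t‖ = 1 := by
  obtain ⟨x, w, y, hw, hy, hy1, e⟩ := P.exists_conj_W ht
  rw [← isClassFunction_of_isCharacter (isCharacter_of_irr (E.irr a b)) t x, e,
    E.val a b w y hw hy hy1, norm_mul, norm_mul]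
  have hu : ∀ {H : Subgroup G} (c : H →* ℂˣ) (z : H), ‖(c z : ℂ)‖ = 1 := fun c z =>
    Complex.norm_eq_one_of_pow_eq_one
      (by rw [← Units.val_pow_eq_pow_val, hom_apply_pow_card, Units.val_one]) Nat.card_pos.ne'
  rw [hu, hu]
  rcases E.sign a with h | h <;> simp [h]

theorem theta_class (E : Exc T W₁ W₂ μ δ) (a : W₁ →* ℂˣ) : IsClassFunction (Kd T) (P.theta μ a) :=
  fun x y => isClassFunction_of_isCharacter (isCharacter_of_irr (E.irr a 1)) (x : T) (y : T)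

theorem theta_isCharacter (E : Exc T W₁ W₂ μ δ) (a : W₁ →* ℂˣ) :
    IsCharacter (Kd T) (P.theta μ a) :=
  isCharacter_comp (Kd T).subtype (isCharacter_of_irr (E.irr a 1))

theorem theta_invariant (E : Exc T W₁ W₂ μ δ) (a : W₁ →* ℂˣ) (t : T) :
    conjFn (Kd T) t (P.theta μ a) = P.theta μ a := by
  funext x
  show μ a 1 ((conjBy (Kd T) t x : Kd T) : T) = μ a 1 x
  rw [coe_conjBy]
  exact isClassFunction_of_isCharacter (isCharacter_of_irr (E.irr a 1)) (x : T) t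

theorem theta_irr (E : Exc T W₁ W₂ μ δ) (a : W₁ →* ℂˣ) : IsIrrCharacter (Kd T) (P.theta μ a) := by
  classical
  haveI : Fintype (Kd T) := Fintype.ofFinite _
  have hn : (classInner (μ a 1) (μ a 1)).re = 1 := by
    rw [inner_irr_of_isIrr (E.irr a 1) (E.irr a 1), if_pos rfl, Complex.one_re]
  rw [inner_self_eq, Complex.ofReal_re] at hn
  have hsplit : ∑ t : T, ‖μ a 1 t‖ ^ 2 = (∑ x : Kd T, ‖P.theta μ a x‖ ^ 2) +
      ((Finset.univ.filter fun t : T => t ∉ Kd T).card : ℝ) := by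
    rw [← Finset.sum_filter_add_sum_filter_not Finset.univ fun t : T => t ∈ Kd T]
    congr 1
    · exact Finset.sum_subtype (Finset.univ.filter fun t : T => t ∈ Kd T) (p := fun t => t ∈ Kd T)
        (fun t => by simp) fun t : T => ‖μ a 1 t‖ ^ 2
    · rw [Finset.sum_congr rfl fun t ht => by
        rw [P.mu_norm_off E a 1 (Finset.mem_filter.mp ht).2, one_pow],
        Finset.sum_const, nsmul_one]
  have hcard : ((Finset.univ.filter fun t : T => t ∉ Kd T).card : ℝ) =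
      (Nat.card T : ℝ) - Nat.card (Kd T) := by
    have h := Finset.card_filter_add_card_filter_not (s := (Finset.univ : Finset T))
      fun t : T => t ∈ Kd T
    rw [Finset.card_univ, ← Fintype.card_subtype] at h
    rw [Nat.card_eq_fintype_card, Nat.card_eq_fintype_card, ← h]
    push_cast
    ring
  have hT : (0 : ℝ) < Nat.card T := Nat.cast_pos.mpr Nat.card_pos
  have hK : (0 : ℝ) < Nat.card (Kd T) := Nat.cast_pos.mpr Nat.card_pos
  rw [inv_mul_eq_iff_eq_mul₀ hT.ne', mul_one, hsplit, hcard] at hn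
  refine CharApps.isIrr_of_inner_self (P.theta_isCharacter E a) ?_
  rw [inner_self_eq]
  have : ∑ x : Kd T, ‖P.theta μ a x‖ ^ 2 = (Nat.card (Kd T) : ℝ) := by linarith
  rw [this, inv_mul_cancel₀ hK.ne', Complex.ofReal_one]

/-- `Ind θ_a = ∑_b μ (a, b)`. -/
theorem ind_theta (E : Exc T W₁ W₂ μ δ) [Fintype (W₂ →* ℂˣ)] (a : W₁ →* ℂˣ) :
    indFun (Kd T) (P.theta μ a) = ∑ b, μ a b := by
  classical
  haveI := P.isCyclic_W₂
  funext t
  rw [Finset.sum_apply]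
  by_cases ht : t ∈ Kd T
  · rw [indFun_normal_apply (Kd T) _ ⟨t, ht⟩, Finset.sum_congr rfl fun x _ => by
      rw [P.theta_invariant E a x],
      Finset.sum_congr rfl fun b _ => P.theta_eq E a b ⟨t, ht⟩,
      Finset.sum_const, Finset.sum_const, Finset.card_univ, Finset.card_univ, P.card_hom_W₂,
      nsmul_eq_mul, nsmul_eq_mul, ← Nat.card_eq_fintype_card, P.card_T, P.card_Kd]
    push_cast
    field_simp
  · obtain ⟨c, hc, y, hy, rfl⟩ := P.exists_decomp t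
    have hy1 : (⟨(y : G), hy⟩ : W₂) ≠ 1 := fun e => ht (by
      rw [show y = 1 from Subtype.ext (congrArg (fun z : W₂ => (z : G)) e), mul_one]
      exact hc)
    rw [indFun_eq_zero_of_notMem _ _ ht]
    choose β hK hW using P.exists_tilde
    rw [Finset.sum_congr rfl fun b _ => by
      rw [P.mu_eq_mul E a (hK b) (hW b)],
      ← Finset.mul_sum, Finset.sum_congr rfl fun b _ => by
        rw [map_mul, hK b c hc, one_mul, hW b y hy]]
    letI : CommGroup W₂ := IsCyclic.commGroup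
    rw [sum_hom_apply hy1, mul_zero]

theorem theta_inj (E : Exc T W₁ W₂ μ δ) {a a' : W₁ →* ℂˣ} (h : P.theta μ a = P.theta μ a') :
    a = a' := by
  classical
  haveI : Fintype (W₂ →* ℂˣ) := Fintype.ofFinite _
  have e := congrArg (fun f => classInner f (μ a' 1)) (congrArg (indFun (Kd T)) h)
  simp only [P.ind_theta E] at e
  rw [inner_sum_left, inner_sum_left] at e
  simp only [inner_irr_of_isIrr (E.irr _ _) (E.irr a' 1)] at e
  by_contra hne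
  rw [Finset.sum_eq_zero fun b _ => if_neg fun e' => hne (P.exc_inj E e').1,
    Finset.sum_eq_single_of_mem (1 : W₂ →* ℂˣ) (Finset.mem_univ _) fun b _ hb =>
      if_neg fun e' => hb (P.exc_inj E e').2, if_pos rfl] at e
  exact zero_ne_one e

theorem theta_one (E : Exc T W₁ W₂ μ δ) : P.theta μ 1 = fun _ => 1 := by
  funext x
  rw [theta, (P.mu_one E).1]

/-- The `W₂`-invariant irreducible characters of `T'` are the `θ_a`; the others induce
irreducibly. -/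
theorem irr_or_theta (E : Exc T W₁ W₂ μ δ) {φ : Kd T → ℂ} (hφ : IsIrrCharacter (Kd T) φ) :
    IsIrrCharacter T (indFun (Kd T) φ) ∨ ∃ a, φ = P.theta μ a := by
  classical
  haveI := P.isCyclic_W₁
  haveI := P.isCyclic_W₂
  set A := W₂.subgroupOf T
  set B := W₁.subgroupOf T
  have hA : Nat.card A = Nat.card W₂ :=
    Nat.card_congr (Subgroup.subgroupOfEquivOfLe P.W₂_le_T).toEquiv
  have hB' : Nat.card B = Nat.card W₁ :=
    Nat.card_congr (Subgroup.subgroupOfEquivOfLe P.W₁_le_T).toEquiv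
  have hsup : Kd T ⊔ A = ⊤ := by
    refine eq_top_iff.mpr fun x _ => ?_
    obtain ⟨a, ha, y, hy, rfl⟩ := P.exists_decomp x
    exact mul_mem_sup ha hy
  have hne : A ≠ ⊥ := fun h => by
    have h' := hA
    rw [h, Subgroup.card_bot] at h'
    exact P.selfNorm.2.1 (Subgroup.eq_bot_of_card_eq _ h'.symm)
  have hcompl : Subgroup.IsComplement' (Kd T) A :=
    Subgroup.isComplement'_of_disjoint_and_mul_eq_univ (disjoint_iff.2 P.Kd_inf_W₂)
      (by rw [← Subgroup.normal_mul, hsup, Subgroup.coe_top])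
  have hHall : (Nat.card A).Coprime A.index := by
    rw [hcompl.index_eq_card, hA, P.card_Kd]
    exact P.coprime_k
  have hBne : B ≠ ⊥ := fun h => by
    have h' := hB'
    rw [h, Subgroup.card_bot] at h'
    exact P.selfNorm.1 (Subgroup.eq_bot_of_card_eq _ h'.symm)
  obtain ⟨h1, h2, -⟩ := Cfsg.Agent.S1513.result (Kd T) A B P.Kd_inf_W₂ hsup hne
    (isCyclic_of_injective (Subgroup.subgroupOfEquivOfLe P.W₂_le_T).toMonoidHom
      (Subgroup.subgroupOfEquivOfLe P.W₂_le_T).injective)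
    hHall hBne
    (isCyclic_of_injective (Subgroup.subgroupOfEquivOfLe P.W₁_le_T).toMonoidHom
      (Subgroup.subgroupOfEquivOfLe P.W₁_le_T).injective)
    (fun x hx => P.W₁_le_derived hx)
    (fun y hy hy1 => P.centralizer_W₂_Kd hy hy1)
    (P.odd_T.of_dvd_nat (card_subgroup_dvd_card _))
  by_cases hfix : ∀ x ∈ A, conjFn (Kd T) x φ = φ
  swap
  · push Not at hfix
    obtain ⟨x, hx, hne'⟩ := hfix
    exact Or.inl (h1 φ hφ ⟨x, hx, hne'⟩)
  right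
  haveI : Fintype (W₁ →* ℂˣ) := Fintype.ofFinite _
  let f : (W₁ →* ℂˣ) → {θ : IrrCharacter (Kd T) // ∀ x ∈ A, conjFn (Kd T) x (θ : Kd T → ℂ) = θ} :=
    fun a => ⟨⟨_, P.theta_irr E a⟩, fun x _ => P.theta_invariant E a x⟩
  have hinj : Function.Injective f := fun a a' e =>
    P.theta_inj E (congrArg (fun z => ((z.1 : IrrCharacter (Kd T)) : Kd T → ℂ)) e)
  haveI : Fintype {θ : IrrCharacter (Kd T) // ∀ x ∈ A, conjFn (Kd T) x (θ : Kd T → ℂ) = θ} :=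
    Fintype.ofFinite _
  have hbij : Function.Bijective f := (Fintype.bijective_iff_injective_and_card f).mpr ⟨hinj, by
    rw [P.card_hom_W₁, ← Nat.card_eq_fintype_card, ← hB', ← h2]
    rfl⟩
  obtain ⟨a, ha⟩ := hbij.2 ⟨⟨φ, hφ⟩, hfix⟩
  exact ⟨a, (congrArg (fun z => ((z.1 : IrrCharacter (Kd T)) : Kd T → ℂ)) ha).symm⟩

/-- The degree of `θ_a`. -/
theorem theta_deg (E : Exc T W₁ W₂ μ δ) {a : W₁ →* ℂˣ} (ha : a ≠ 1) : ∃ d : ℕ,
    P.theta μ a 1 = (d : ℂ) ∧ 1 < d ∧ Odd d ∧ ∃ n : ℤ, (d : ℂ) - δ a = n * (Nat.card W₂ : ℂ) := by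
  have hc := P.theta_isCharacter E a
  obtain ⟨d, hd0, hd, hdvd⟩ := irr_degree_dvd_card (P.theta_irr E a)
  refine ⟨d, hd, ?_, ?_, ?_⟩
  · refine lt_of_le_of_ne hd0 fun h1 => ha ?_
    obtain ⟨l, hl'⟩ := exists_hom_of_degree_one hc (by rw [hd, ← h1, Nat.cast_one])
    have hl : P.theta μ a = fun x => (l x : ℂ) := hl'
    obtain ⟨y, hy, hy1⟩ := P.exists_W₂_ne_one
    have hyK : y ∉ Kd T := fun h => hy1 (by
      have h' : y ∈ Kd T ⊓ W₂.subgroupOf T := ⟨h, hy⟩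
      rwa [P.Kd_inf_W₂, mem_bot] at h')
    have hl1 := P.lin_fixed_eq_one hyK (l := l) fun x => Units.ext (by
      have h := congrFun (P.theta_invariant E a y) x
      rw [hl] at h
      exact h)
    refine P.theta_inj E ?_
    rw [P.theta_one E, hl, hl1]
    rfl
  · exact (P.odd_card (X := ⁅T, T⁆)).of_dvd_nat (P.card_Kd ▸ hdvd)
  · obtain ⟨n, hn⟩ := E.congr a 1
    refine ⟨n, ?_⟩
    rw [← hd, ← hn]
    rfl

end Pair

end CfsgLib.FT.StepA
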