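import Cfsg.Agent.Lib.FT.StepA.Cover
import Cfsg.Agent.Lib.FT.Route.Divisor
import Cfsg.Agent.Lib.FT.BG15.HallFusion

/-!
# The derived subgroup of `T` in Types III and IV

`T' = Q D` with `Q` the normal Sylow `q`-subgroup; `B = Q C_D(Q)`, `B₀ = C_Q(D) C_D(Q)`, `B/B₀` is
elementary abelian of order `q ^ k` and `d = |T' : B|` divides `(q ^ k - 1)/(q - 1)` or is at most
`((q - 1)/2) ^ (k - 1)`.
-/

set_option autoImplicit false
set_option linter.style.haveILetI false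
set_option linter.unusedSectionVars false

namespace CfsgLib.FT.StepA

open _root_.Subgroup Cfsg CfsgLib.OddOrder CfsgLib.FT.BG15
open scoped commutatorElement Pointwise

universe u

variable {G : Type u} [Group G] [Finite G] {S T W₁ W₂ Q D : Subgroup G}

/-- The data of BG 15.2 for `T` with a `W₂`-invariant complement `D` of `Q` in `T'`. -/
structure SylowData (T W₁ W₂ Q D : Subgroup G) : Prop where
  prime_k : (Nat.card W₂).Prime
  prime_q : (Nat.card W₁).Prime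
  Q_le : Q ≤ ⁅T, T⁆
  D_le : D ≤ ⁅T, T⁆
  normal_Q : T ≤ normalizer (Q : Set G)
  pgroup : IsPGroup (Nat.card W₁) Q
  q_not_dvd : ¬ Nat.card W₁ ∣ Nat.card D
  decomp : ∀ x ∈ (⁅T, T⁆ : Subgroup G), ∃ a ∈ Q, ∃ d ∈ D, x = a * d
  W₂_norm : W₂ ≤ normalizer (D : Set G)
  W₁_le : W₁ ≤ Q
  W₁_not_le : ¬ W₁ ≤ Q ⊓ centralizer (D : Set G)
  normal_Q₀ : T ≤ normalizer ((Q ⊓ centralizer (D : Set G) : Subgroup G) : Set G)
  Q₀_lt : Q ⊓ centralizer (D : Set G) < Q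
  card_Q : Nat.card Q =
    Nat.card ↥(Q ⊓ centralizer (D : Set G)) * Nat.card W₁ ^ Nat.card W₂
  quot : ∀ a ∈ Q, ∀ b ∈ Q, a ^ Nat.card W₁ ∈ Q ⊓ centralizer (D : Set G) ∧
    a * b * a⁻¹ * b⁻¹ ∈ Q ⊓ centralizer (D : Set G)
  derived_D : ⁅D, D⁆ ≤ centralizer (Q : Set G)
  irred : ∀ N : Subgroup G, Q ⊓ centralizer (D : Set G) < N → N < Q → ¬ T ≤ normalizer (N : Set G)

theorem exists_sylowData (P : Pair S T W₁ W₂) (h : IsOfTypeIII T ∨ IsOfTypeIV T) :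
    ∃ Q D : Subgroup G, SylowData T W₁ W₂ Q D := by
  have hne := ((BG16.isOfTypeIII_or_IV_iff BG15.upstream P.minimal P.coatomT P.decompT).mp h).2.2
  obtain ⟨q, Q, hQ⟩ := exists_fcoreData BG15.upstream P.minimal P.coatomT P.decompT hne
  have hcs : cstar T W₂ = W₁ := P.sigmaCore_inf_centralizer
  obtain rfl : Nat.card W₁ = q := hcs ▸ hQ.cstar_card
  haveI := Fact.mk P.prime_q
  obtain ⟨D₀, hD₀, -, hqD₀⟩ := hQ.exists_compl
  have hle := hQ.le
  have hT' := P.derivedT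
  rw [← hT'] at hle hD₀
  have hn : (⁅T, T⁆ : Subgroup G) ≤ normalizer (Q : Set G) := P.derived_le.trans hQ.normal
  obtain ⟨i, hi⟩ := IsPGroup.iff_card.mp hQ.pgroup
  set π : Set ℕ := {p | p ≠ Nat.card W₁} with hπ
  have hidx : D₀.relIndex ⁅T, T⁆ = Nat.card Q := Nat.eq_of_mul_eq_mul_right Nat.card_pos
    ((relIndex_mul_card_of_le hD₀.2.1).trans (card_mul_card_of_isComplIn hD₀).symm)
  have hD₀hall : IsPiHallOf π D₀ ⁅T, T⁆ := by
    refine ⟨hD₀.2.1, fun p _ hd e => hqD₀ (e ▸ hd), fun p hp hne' hd => hne' ?_⟩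
    rw [hidx, hi] at hd
    exact (Nat.prime_dvd_prime_iff_eq hp P.prime_q).mp (hp.dvd_of_dvd_pow hd)
  haveI := P.derived_solvable
  have hHallD := CfsgLib.Coprime.hallD_of_solvable (G := (⁅T, T⁆ : Subgroup G)) π
  obtain ⟨D, hD, hWD⟩ := CfsgLib.Coprime.exists_invariant_piHall (π := π)
    (P.W₂_le_T.trans P.le_normalizer_derived) P.coprime_k (Or.inr P.derived_solvable) hHallD
  have hqD : ¬ Nat.card W₁ ∣ Nat.card D := fun hd => hD.2.1 _ P.prime_q hd rfl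
  have hcard : Nat.card D = Nat.card D₀ := by
    obtain ⟨c, -, hc⟩ := hHallD.conj_piHallOf hD₀hall hD
    rw [← hc, CfsgLib.Coprime.card_conj_smul]
  have hint : Q ⊓ D = ⊥ := CfsgLib.Base.inf_eq_bot_of_coprime
    (hi ▸ Nat.Coprime.pow_left i (P.prime_q.coprime_iff_not_dvd.mpr hqD))
  have hsup : D ⊔ Q = ⁅T, T⁆ := eq_of_le_of_card_ge (sup_le hD.1 hle) (by
    rw [CfsgLib.Coprime.card_sup_of_inf_eq_bot (hD.1.trans hn) (inf_comm D Q ▸ hint), hcard,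
      mul_comm, card_mul_card_of_isComplIn hD₀])
  have hdec : ∀ x ∈ (⁅T, T⁆ : Subgroup G), ∃ a ∈ Q, ∃ d ∈ D, x = a * d := fun x hx => by
    rw [← hsup, CfsgLib.Coprime.mem_sup_iff_of_le_normalizer (hD.1.trans hn)] at hx
    obtain ⟨d, hd, a, ha, rfl⟩ := hx
    exact ⟨d * a * d⁻¹, (mem_normalizer_iff.1 (hn (hD.1 hd)) a).1 ha, d, hd, by group⟩
  have hc : IsComplIn Q D (sigmaCore T) := hT' ▸ ⟨hle, hD.1, hint, hdec⟩
  obtain ⟨-, h2, h3, h4, h5, h6, h7⟩ := hQ.compl D hc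
  exact ⟨Q, D,
    { prime_k := hQ.K_prime, prime_q := P.prime_q, Q_le := hle, D_le := hD.1, normal_Q := hQ.normal
      pgroup := hQ.pgroup, q_not_dvd := hqD, decomp := hdec, W₂_norm := hWD
      W₁_le := hcs ▸ hQ.cstar_le, W₁_not_le := hcs ▸ hQ.cstar_not_le D hc, normal_Q₀ := h2
      Q₀_lt := h3, card_Q := h4, quot := h5, derived_D := h6, irred := h7 }⟩

/-- `C_D(Q)`. -/
def kerD (Q D : Subgroup G) : Subgroup G := D ⊓ centralizer (Q : Set G)

/-- `C_Q(D)`. -/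
def fixQ (Q D : Subgroup G) : Subgroup G := Q ⊓ centralizer (D : Set G)

/-- `Q C_D(Q)`. -/
def bigB (Q D : Subgroup G) : Subgroup G := Q ⊔ kerD Q D

/-- `C_Q(D) C_D(Q)`. -/
def bigB₀ (Q D : Subgroup G) : Subgroup G := fixQ Q D ⊔ kerD Q D

namespace SylowData

variable (F : SylowData T W₁ W₂ Q D)
include F

theorem fix_pow {a d : G} (hd : d ∈ D)
    (h : d * a * d⁻¹ * a⁻¹ ∈ fixQ Q D) : d * a * d⁻¹ = a := by
  haveI := Fact.mk F.prime_q
  set c := d * a * d⁻¹ * a⁻¹ with hc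
  have hdc : d * c * d⁻¹ = c := by
    rw [mem_centralizer_iff.mp h.2 d hd, mul_inv_cancel_right]
  have hn : ∀ n : ℕ, d ^ n * a * (d ^ n)⁻¹ = c ^ n * a := by
    intro n
    induction n with
    | zero => simp
    | succ n ih =>
      calc d ^ (n + 1) * a * (d ^ (n + 1))⁻¹ = d * (d ^ n * a * (d ^ n)⁻¹) * d⁻¹ := by
            rw [pow_succ']; group
        _ = (d * c * d⁻¹) ^ n * (d * a * d⁻¹) := by rw [ih, conj_pow]; group
        _ = c ^ n * (c * a) := by rw [hdc, hc]; group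
        _ = c ^ (n + 1) * a := by rw [← mul_assoc, pow_succ]
  have h1 := hn (orderOf d)
  rw [pow_orderOf_eq_one, one_mul, inv_one, mul_one] at h1
  obtain ⟨i, hi⟩ := IsPGroup.iff_orderOf.mp F.pgroup ⟨c, h.1⟩
  rw [← orderOf_coe] at hi
  have hcop : (orderOf c).Coprime (orderOf d) := by
    rw [show orderOf c = Nat.card W₁ ^ i from hi]
    exact Nat.Coprime.pow_left i (F.prime_q.coprime_iff_not_dvd.mpr fun hd' =>
      F.q_not_dvd (hd'.trans (Subgroup.orderOf_dvd_natCard _ hd)))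
  have hc1 : c = 1 := orderOf_eq_one_iff.mp (Nat.eq_one_of_dvd_coprimes hcop dvd_rfl
    (orderOf_dvd_of_pow_eq_one (mul_eq_right.mp h1.symm)))
  rw [hc] at hc1
  exact mul_inv_eq_one.mp hc1

theorem W₁_inf_fixQ : W₁ ⊓ fixQ Q D = ⊥ := by
  have hd := card_dvd_of_le (inf_le_left : W₁ ⊓ fixQ Q D ≤ W₁)
  rcases (Nat.dvd_prime F.prime_q).mp hd with h | h
  · exact Subgroup.eq_bot_of_card_eq _ h
  · exact absurd ((eq_of_le_of_card_ge (inf_le_left : W₁ ⊓ fixQ Q D ≤ W₁) h.ge).ge.trans inf_le_right)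
      F.W₁_not_le

theorem kerD_le : kerD Q D ≤ ⁅T, T⁆ := inf_le_left.trans F.D_le

theorem commute_kerD {a d : G} (ha : a ∈ Q) (hd : d ∈ kerD Q D) : a * d = d * a :=
  mem_centralizer_iff.mp hd.2 a ha

theorem Q_le_normalizer_kerD : Q ≤ normalizer (kerD Q D : Set G) := fun a ha =>
  centralizer_le_normalizer _ (mem_centralizer_iff.mpr fun d hd => (F.commute_kerD ha hd).symm)

theorem inf_kerD : Q ⊓ kerD Q D = ⊥ := by
  haveI := Fact.mk F.prime_q
  obtain ⟨i, hi⟩ := IsPGroup.iff_card.mp F.pgroup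
  refine le_bot_iff.mp ((inf_le_inf_left Q inf_le_left).trans
    (CfsgLib.Base.inf_eq_bot_of_coprime ?_).le)
  exact hi ▸ Nat.Coprime.pow_left i (F.prime_q.coprime_iff_not_dvd.mpr F.q_not_dvd)

theorem mem_bigB {x : G} : x ∈ bigB Q D ↔ ∃ a ∈ Q, ∃ d ∈ kerD Q D, a * d = x :=
  CfsgLib.Coprime.mem_sup_iff_of_le_normalizer F.Q_le_normalizer_kerD

theorem mem_bigB₀ {x : G} : x ∈ bigB₀ Q D ↔ ∃ a ∈ fixQ Q D, ∃ d ∈ kerD Q D, a * d = x :=
  CfsgLib.Coprime.mem_sup_iff_of_le_normalizer ((inf_le_left : fixQ Q D ≤ Q).trans F.Q_le_normalizer_kerD)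

theorem fix_of_mem_bigB₀ {a : G} (ha : a ∈ Q) (h : a ∈ bigB₀ Q D) : a ∈ fixQ Q D := by
  obtain ⟨b, hb, d, hd, rfl⟩ := F.mem_bigB₀.mp h
  have h1 : d ∈ Q ⊓ kerD Q D := ⟨by simpa using mul_mem (Q.inv_mem hb.1) ha, hd⟩
  rw [F.inf_kerD, mem_bot] at h1
  rwa [h1, mul_one]

theorem bigB_le : bigB Q D ≤ ⁅T, T⁆ := sup_le F.Q_le F.kerD_le

theorem bigB₀_le : bigB₀ Q D ≤ bigB Q D := sup_le_sup_right inf_le_left _

theorem Q₀_le_bigB₀ : fixQ Q D ≤ bigB₀ Q D := le_sup_left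

theorem card_bigB : Nat.card (bigB Q D) = Nat.card Q * Nat.card (kerD Q D) :=
  CfsgLib.Coprime.card_sup_of_inf_eq_bot F.Q_le_normalizer_kerD F.inf_kerD

theorem card_bigB₀ : Nat.card (bigB₀ Q D) = Nat.card (fixQ Q D) * Nat.card (kerD Q D) :=
  CfsgLib.Coprime.card_sup_of_inf_eq_bot ((inf_le_left : fixQ Q D ≤ Q).trans F.Q_le_normalizer_kerD)
    (le_bot_iff.mp ((inf_le_inf_right _ inf_le_left).trans F.inf_kerD.le))

theorem relIndex_bigB : (bigB₀ Q D).relIndex (bigB Q D) = Nat.card W₁ ^ Nat.card W₂ := by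
  have h := relIndex_mul_card_of_le F.bigB₀_le
  have hc : Nat.card Q = Nat.card (fixQ Q D) * Nat.card W₁ ^ Nat.card W₂ := F.card_Q
  rw [F.card_bigB₀, F.card_bigB, hc] at h
  refine Nat.eq_of_mul_eq_mul_right (Nat.mul_pos (Nat.card_pos (α := fixQ Q D))
    (Nat.card_pos (α := kerD Q D))) (h.trans ?_)
  ring

theorem normalizer_kerD (hW : ∀ t ∈ T, ∃ a ∈ (⁅T, T⁆ : Subgroup G), ∃ b ∈ W₂, t = a * b)
    (hW₂ : W₂ ≤ T) : T ≤ normalizer (kerD Q D : Set G) := by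
  have hDn : D ≤ normalizer (kerD Q D : Set G) :=
    CfsgLib.Coprime.le_normalizer_inf_inf le_normalizer (CfsgLib.Coprime.le_normalizer_centralizer
      (F.D_le.trans ((Subgroup.commutator_le_self T).trans F.normal_Q)))
  have hWn : W₂ ≤ normalizer (kerD Q D : Set G) :=
    CfsgLib.Coprime.le_normalizer_inf_inf F.W₂_norm
      (CfsgLib.Coprime.le_normalizer_centralizer (hW₂.trans F.normal_Q))
  intro t ht
  obtain ⟨x, hx, b, hb, rfl⟩ := hW t ht
  obtain ⟨a, ha, d, hd, rfl⟩ := F.decomp x hx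
  exact mul_mem (mul_mem (F.Q_le_normalizer_kerD ha) (hDn hd)) (hWn hb)

theorem mem_bigB_of_trivial {x : G} (hx : x ∈ (⁅T, T⁆ : Subgroup G))
    (h : ∀ a ∈ Q, x * a * x⁻¹ * a⁻¹ ∈ fixQ Q D) : x ∈ bigB Q D := by
  obtain ⟨c, hc, d, hd, rfl⟩ := F.decomp x hx
  refine F.mem_bigB.mpr ⟨c, hc, d, ⟨hd, mem_centralizer_iff.mpr fun a ha => ?_⟩, rfl⟩
  have hn : c⁻¹ ∈ normalizer (fixQ Q D : Set G) :=
    F.normal_Q₀ (T.inv_mem (Subgroup.commutator_le_self T (F.Q_le hc)))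
  have h1 := (mem_normalizer_iff.mp hn _).mp (h a ha)
  have h2 := (F.quot c⁻¹ (inv_mem hc) a ha).2
  have h3 : d * a * d⁻¹ * a⁻¹ ∈ fixQ Q D := by
    have h4 : c⁻¹ * (c * d * a * (c * d)⁻¹ * a⁻¹) * c⁻¹⁻¹ * (c⁻¹ * a * c⁻¹⁻¹ * a⁻¹) =
        d * a * d⁻¹ * a⁻¹ := by group
    have h5 := mul_mem h1 (show c⁻¹ * a * c⁻¹⁻¹ * a⁻¹ ∈ fixQ Q D from h2)
    rwa [h4] at h5
  exact (mul_inv_eq_iff_eq_mul.mp (F.fix_pow hd h3)).symm

theorem comm_bigB : ∀ a ∈ bigB Q D, ∀ b ∈ bigB Q D, a * b * a⁻¹ * b⁻¹ ∈ bigB₀ Q D := by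
  intro a ha b hb
  obtain ⟨x, hx, d, hd, rfl⟩ := F.mem_bigB.mp ha
  obtain ⟨y, hy, e, he, rfl⟩ := F.mem_bigB.mp hb
  have c1 : d * y = y * d := (F.commute_kerD hy hd).symm
  have c2 : ∀ z ∈ kerD Q D, z * x⁻¹ = x⁻¹ * z := fun z hz => (F.commute_kerD (inv_mem hx) hz).symm
  have c3 : ∀ z ∈ kerD Q D, z * y⁻¹ = y⁻¹ * z := fun z hz => (F.commute_kerD (inv_mem hy) hz).symm
  refine F.mem_bigB₀.mpr ⟨_, (F.quot x hx y hy).2, d * e * d⁻¹ * e⁻¹,
    mul_mem (mul_mem (mul_mem hd he) (inv_mem hd)) (inv_mem he), ?_⟩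
  calc x * y * x⁻¹ * y⁻¹ * (d * e * d⁻¹ * e⁻¹)
      = x * y * x⁻¹ * (y⁻¹ * (d * e * d⁻¹)) * e⁻¹ := by group
    _ = x * y * (x⁻¹ * (d * e * d⁻¹)) * (y⁻¹ * e⁻¹) := by
        rw [← c3 _ (mul_mem (mul_mem hd he) (inv_mem hd))]; group
    _ = x * y * (d * e * d⁻¹ * x⁻¹) * (e⁻¹ * y⁻¹) := by
        rw [c2 _ (mul_mem (mul_mem hd he) (inv_mem hd)), c3 _ (inv_mem he)]
    _ = x * (y * d) * e * d⁻¹ * x⁻¹ * (e⁻¹ * y⁻¹) := by group
    _ = x * d * (y * e) * (x * d)⁻¹ * (y * e)⁻¹ := by rw [← c1]; group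

theorem pow_bigB : ∀ b ∈ bigB Q D, b ^ Nat.card W₁ ∈ bigB₀ Q D := by
  intro b hb
  obtain ⟨x, hx, d, hd, rfl⟩ := F.mem_bigB.mp hb
  rw [(show Commute x d from F.commute_kerD hx hd).mul_pow]
  exact mul_mem_sup (F.quot x hx x hx).1 (pow_mem hd _)

theorem derived_two_le : ⁅⁅T, T⁆, ⁅T, T⁆⁆ ≤ bigB Q D := by
  have hn : (⁅T, T⁆ : Subgroup G) ≤ normalizer (bigB Q D : Set G) := by
    intro x hx
    obtain ⟨a, ha, d, hd, rfl⟩ := F.decomp x hx
    have hdn : d ∈ normalizer (bigB Q D : Set G) :=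
      CfsgLib.Coprime.le_normalizer_sup_sup (F.D_le.trans ((Subgroup.commutator_le_self T).trans F.normal_Q))
        (CfsgLib.Coprime.le_normalizer_inf_inf le_normalizer (CfsgLib.Coprime.le_normalizer_centralizer
          (F.D_le.trans ((Subgroup.commutator_le_self T).trans F.normal_Q)))) hd
    exact mul_mem (le_normalizer (mem_sup_left ha)) hdn
  haveI := normal_subgroupOf_of_le_normalizer hn
  refine commutator_le.mpr fun x hx y hy => ?_
  obtain ⟨a, ha, d, hd, rfl⟩ := F.decomp x hx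
  obtain ⟨b, hb, e, he, rfl⟩ := F.decomp y hy
  set π := QuotientGroup.mk' ((bigB Q D).subgroupOf ⁅T, T⁆) with hπ
  have hQ1 : ∀ (z : G) (hz : z ∈ Q), π ⟨z, F.Q_le hz⟩ = 1 := fun z hz =>
    (QuotientGroup.eq_one_iff _).mpr (show z ∈ bigB Q D from mem_sup_left hz)
  have h1 : ∀ (z w : G) (hz : z ∈ Q) (hw : w ∈ D),
      π ⟨z * w, mul_mem (F.Q_le hz) (F.D_le hw)⟩ = π ⟨w, F.D_le hw⟩ := fun z w hz hw => by
    rw [show (⟨z * w, mul_mem (F.Q_le hz) (F.D_le hw)⟩ : (⁅T, T⁆ : Subgroup G)) =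
      ⟨z, F.Q_le hz⟩ * ⟨w, F.D_le hw⟩ from rfl, map_mul, hQ1 z hz, one_mul]
  have h2 : π ⁅(⟨d, F.D_le hd⟩ : (⁅T, T⁆ : Subgroup G)), ⟨e, F.D_le he⟩⁆ = 1 :=
    (QuotientGroup.eq_one_iff _).mpr (show ⁅d, e⁆ ∈ bigB Q D from mem_sup_right
      ⟨commutator_le_self D (commutator_mem_commutator hd he),
        F.derived_D (commutator_mem_commutator hd he)⟩)
  have h3 : π ⁅(⟨a * d, mul_mem (F.Q_le ha) (F.D_le hd)⟩ : (⁅T, T⁆ : Subgroup G)),
      ⟨b * e, mul_mem (F.Q_le hb) (F.D_le he)⟩⁆ = 1 := by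
    rw [map_commutatorElement, h1 a d ha hd, h1 b e hb he, ← map_commutatorElement]
    exact h2
  have h4 : ⁅(⟨a * d, mul_mem (F.Q_le ha) (F.D_le hd)⟩ : (⁅T, T⁆ : Subgroup G)),
      ⟨b * e, mul_mem (F.Q_le hb) (F.D_le he)⟩⁆ ∈ (bigB Q D).subgroupOf ⁅T, T⁆ :=
    (QuotientGroup.eq_one_iff _).mp h3
  exact h4

theorem not_le_bigB : ¬ (⁅T, T⁆ : Subgroup G) ≤ bigB Q D := fun h => by
  refine F.Q₀_lt.ne (le_antisymm inf_le_left fun a ha => ⟨ha, mem_centralizer_iff.mpr fun d hd => ?_⟩)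
  obtain ⟨x, hx, e, he, hde⟩ := F.mem_bigB.mp (h (F.D_le hd))
  haveI := Fact.mk F.prime_q
  obtain ⟨i, hi⟩ := IsPGroup.iff_card.mp F.pgroup
  have hint : Q ⊓ D = ⊥ := CfsgLib.Base.inf_eq_bot_of_coprime
    (hi ▸ Nat.Coprime.pow_left i (F.prime_q.coprime_iff_not_dvd.mpr F.q_not_dvd))
  have hx1 : x ∈ Q ⊓ D := ⟨hx, by
    rw [eq_mul_inv_of_mul_eq hde]
    exact mul_mem hd (D.inv_mem he.1)⟩
  rw [hint, mem_bot] at hx1
  subst hx1
  rw [one_mul] at hde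
  subst hde
  exact (F.commute_kerD ha he).symm

theorem card_quot_bigB : (bigB Q D).relIndex ⁅T, T⁆ = (kerD Q D).relIndex D := by
  haveI := Fact.mk F.prime_q
  obtain ⟨i, hi⟩ := IsPGroup.iff_card.mp F.pgroup
  have hint : Q ⊓ D = ⊥ := CfsgLib.Base.inf_eq_bot_of_coprime
    (hi ▸ Nat.Coprime.pow_left i (F.prime_q.coprime_iff_not_dvd.mpr F.q_not_dvd))
  have hT : Nat.card Q * Nat.card D = Nat.card (⁅T, T⁆ : Subgroup G) :=
    card_mul_card_of_isComplIn ⟨F.Q_le, F.D_le, hint, F.decomp⟩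
  have h := relIndex_mul_card_of_le F.bigB_le
  rw [F.card_bigB, ← hT, ← relIndex_mul_card_of_le (inf_le_left : kerD Q D ≤ D)] at h
  refine Nat.eq_of_mul_eq_mul_right (Nat.mul_pos (Nat.card_pos (α := Q))
    (Nat.card_pos (α := kerD Q D))) (h.trans ?_)
  simp only [kerD]
  ring

end SylowData

/-- Everything about `B = Q C_D(Q)` and `B₀ = C_Q(D) C_D(Q)`. -/
structure QuotData (T W₁ W₂ B B₀ : Subgroup G) : Prop where
  prime_k : (Nat.card W₂).Prime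
  B₀_le : B₀ ≤ B
  B_le : B ≤ ⁅T, T⁆
  normal_B : T ≤ normalizer (B : Set G)
  normal_B₀ : T ≤ normalizer (B₀ : Set G)
  card_quot : B₀.relIndex B = Nat.card W₁ ^ Nat.card W₂
  comm : ∀ a ∈ B, ∀ b ∈ B, a * b * a⁻¹ * b⁻¹ ∈ B₀
  pow_mem : ∀ b ∈ B, b ^ Nat.card W₁ ∈ B₀
  derived_two_le : ⁅⁅T, T⁆, ⁅T, T⁆⁆ ≤ B
  W₁_le : W₁ ≤ B
  W₁_disj : W₁ ⊓ B₀ = ⊥
  fixed : ∀ b ∈ B, (∀ y ∈ W₂, y * b * y⁻¹ * b⁻¹ ∈ B₀) → b ∈ W₁ ⊔ B₀
  stab : ∀ lam : B →* ℂˣ, (∀ b : B, (b : G) ∈ B₀ → lam b = 1) → lam ≠ 1 →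
    (∀ y ∈ W₂, ∀ b c : B, (c : G) = y * b * y⁻¹ → lam c = lam b) →
    ∀ x ∈ ⁅T, T⁆, (∀ b c : B, (c : G) = x * b * x⁻¹ → lam c = lam b) → x ∈ B
  d_mod : B.relIndex ⁅T, T⁆ % (2 * Nat.card W₂) = 1
  one_lt_d : 1 < B.relIndex ⁅T, T⁆
  arith : B.relIndex ⁅T, T⁆ ∣ (Nat.card W₁ ^ Nat.card W₂ - 1) / (Nat.card W₁ - 1) ∨
    B.relIndex ⁅T, T⁆ ≤ ((Nat.card W₁ - 1) / 2) ^ (Nat.card W₂ - 1)

theorem SylowData.stab' (F : SylowData T W₁ W₂ Q D) (P : Pair S T W₁ W₂)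
    (hn : T ≤ normalizer (bigB Q D : Set G)) :
    ∀ lam : bigB Q D →* ℂˣ, (∀ b : bigB Q D, (b : G) ∈ bigB₀ Q D → lam b = 1) → lam ≠ 1 →
      (∀ y ∈ W₂, ∀ b c : bigB Q D, (c : G) = y * b * y⁻¹ → lam c = lam b) →
      ∀ x ∈ ⁅T, T⁆, (∀ b c : bigB Q D, (c : G) = x * b * x⁻¹ → lam c = lam b) → x ∈ bigB Q D := by
  classical
  set B := bigB Q D with hB
  intro lam h0 hne hW x₀ hx₀ hfix₀
  let f : G → ℂˣ := fun g => if hg : g ∈ B then lam ⟨g, hg⟩ else 1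
  have hf : ∀ b : B, f b = lam b := fun b => dif_pos b.2
  have hfmul : ∀ a ∈ B, ∀ b ∈ B, f (a * b) = f a * f b := fun a ha b hb => by
    rw [show f (a * b) = lam ⟨a * b, mul_mem ha hb⟩ from dif_pos _, show f a = lam ⟨a, ha⟩ from dif_pos _,
      show f b = lam ⟨b, hb⟩ from dif_pos _, ← map_mul]
    rfl
  have hnorm : ∀ t ∈ T, ∀ b ∈ B, t * b * t⁻¹ ∈ B := fun t ht b hb =>
    (mem_normalizer_iff.mp (hn ht) b).mp hb
  have hT'T : (⁅T, T⁆ : Subgroup G) ≤ T := Subgroup.commutator_le_self T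
  let X : Subgroup G :=
    { carrier := {x | x ∈ (⁅T, T⁆ : Subgroup G) ∧ ∀ b ∈ B, f (x * b * x⁻¹) = f b}
      one_mem' := ⟨one_mem _, fun b _ => by simp⟩
      mul_mem' := fun {x y} hx hy => ⟨mul_mem hx.1 hy.1, fun b hb => by
        rw [show x * y * b * (x * y)⁻¹ = x * (y * b * y⁻¹) * x⁻¹ by group,
          hx.2 _ (hnorm y (hT'T hy.1) b hb), hy.2 b hb]⟩
      inv_mem' := fun {x} hx => ⟨inv_mem hx.1, fun b hb => by
        have h := hx.2 _ (hnorm x⁻¹ (T.inv_mem (hT'T hx.1)) b hb)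
        rw [show x * (x⁻¹ * b * x⁻¹⁻¹) * x⁻¹ = b by group] at h
        exact h.symm⟩ }
  have hinner : ∀ c ∈ B, c ∈ X := fun c hc => ⟨F.bigB_le hc, fun b hb => by
    rw [hfmul _ (mul_mem hc hb) _ (inv_mem hc), hfmul c hc b hb, mul_right_comm, ← hfmul c hc c⁻¹ (inv_mem hc),
      mul_inv_cancel, show f 1 = lam 1 from (hf 1), map_one, one_mul]⟩
  have hXn : ∀ t ∈ T, ∀ x ∈ X, t * x * t⁻¹ ∈ X := by
    intro t ht x hx
    obtain ⟨a, ha, y, hy, rfl⟩ := P.complT.2.2.2 t ht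
    have hyT := P.W₂_le_T hy
    have hy' : y * x * y⁻¹ ∈ X := by
      refine ⟨(mem_normalizer_iff.mp (P.le_normalizer_derived hyT) x).mp hx.1, fun b hb => ?_⟩
      have hyi : ∀ z ∈ B, f (y * z * y⁻¹) = f z := fun z hz => by
        rw [show f (y * z * y⁻¹) = lam ⟨_, hnorm y hyT z hz⟩ from dif_pos _,
          show f z = lam ⟨z, hz⟩ from dif_pos _]
        exact hW y hy ⟨z, hz⟩ ⟨_, hnorm y hyT z hz⟩ rfl
      have hb' : y⁻¹ * b * y ∈ B := by simpa using hnorm y⁻¹ (T.inv_mem hyT) b hb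
      rw [show y * x * y⁻¹ * b * (y * x * y⁻¹)⁻¹ = y * (x * (y⁻¹ * b * y) * x⁻¹) * y⁻¹ by group,
        hyi _ (hnorm x (hT'T hx.1) _ hb'), hx.2 _ hb', ← hyi _ hb']
      congr 1
      group
    have hcom : ⁅a, y * x * y⁻¹⁆ ∈ X :=
      hinner _ (F.derived_two_le (commutator_mem_commutator ha hy'.1))
    have := mul_mem hcom hy'
    rwa [commutatorElement_def, show a * (y * x * y⁻¹) * a⁻¹ * (y * x * y⁻¹)⁻¹ * (y * x * y⁻¹) =
      a * y * x * (a * y)⁻¹ by group] at this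
  let gens : Set G := {z | ∃ x ∈ X, ∃ a ∈ Q, z = x * a * x⁻¹ * a⁻¹}
  set N : Subgroup G := fixQ Q D ⊔ closure gens with hN
  have hQB : Q ≤ B := le_sup_left
  have hgQ : ∀ z ∈ gens, z ∈ Q ∧ f z = 1 := by
    rintro z ⟨x, hx, a, ha, rfl⟩
    have h1 : x * a * x⁻¹ ∈ Q := (mem_normalizer_iff.mp (F.normal_Q (hT'T hx.1)) a).mp ha
    refine ⟨mul_mem h1 (inv_mem ha), ?_⟩
    rw [hfmul _ (hQB h1) _ (inv_mem (hQB ha)), hx.2 a (hQB ha), ← hfmul a (hQB ha) _ (inv_mem (hQB ha)),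
      mul_inv_cancel, show f 1 = lam 1 from (hf 1), map_one]
  let L : Subgroup G := (lam.ker).map B.subtype
  have hmemL : ∀ z ∈ B, f z = 1 → z ∈ L := fun z hz h1 =>
    ⟨⟨z, hz⟩, MonoidHom.mem_ker.mpr ((hf ⟨z, hz⟩).symm.trans h1), rfl⟩
  have hNQ : N ≤ Q := sup_le inf_le_left (closure_le Q |>.mpr fun z hz => (hgQ z hz).1)
  have hNL : N ≤ L := by
    refine sup_le (fun z hz => ?_) ((closure_le L).mpr fun z hz => hmemL z (hQB (hgQ z hz).1) (hgQ z hz).2)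
    refine hmemL z (hQB hz.1) ?_
    rw [show f z = lam ⟨z, hQB hz.1⟩ from dif_pos _]
    exact h0 ⟨z, hQB hz.1⟩ (F.Q₀_le_bigB₀ hz)
  have hNn : T ≤ normalizer (N : Set G) := by
    refine CfsgLib.Coprime.le_normalizer_sup_sup F.normal_Q₀ fun t ht => ?_
    have hfwd : ∀ t ∈ T, closure gens ≤ (closure gens).comap (MulAut.conj t).toMonoidHom := by
      intro t ht
      refine (closure_le _).mpr ?_
      rintro z ⟨x, hx, a, ha, rfl⟩
      refine subset_closure ⟨t * x * t⁻¹, hXn t ht x hx, t * a * t⁻¹,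
        (mem_normalizer_iff.mp (F.normal_Q ht) a).mp ha, ?_⟩
      simp [mul_assoc]
    refine mem_normalizer_iff.mpr fun z => ⟨fun hz => by simpa using hfwd t ht hz, fun hz => ?_⟩
    simpa [mul_assoc] using hfwd t⁻¹ (T.inv_mem ht) hz
  have hNne : N ≠ Q := fun e => hne (MonoidHom.ext fun b => by
    obtain ⟨a, ha, d, hd, hb⟩ := F.mem_bigB.mp b.2
    obtain ⟨⟨a', ha'⟩, hker, e'⟩ := hNL (e.symm.le ha)
    have hbe : b = ⟨a', ha'⟩ * ⟨d, mem_sup_right hd⟩ := Subtype.ext (by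
      rw [← hb]
      exact congrArg (· * d) e'.symm)
    rw [hbe, map_mul, MonoidHom.mem_ker.mp hker, h0 _ (mem_sup_right hd), MonoidHom.one_apply,
      one_mul])
  have hNQ₀ : N = fixQ Q D := by
    by_contra hne'
    exact F.irred N (lt_of_le_of_ne le_sup_left (Ne.symm hne')) (lt_of_le_of_ne hNQ hNne) hNn
  refine F.mem_bigB_of_trivial hx₀ fun a ha => hNQ₀ ▸ mem_sup_right (subset_closure ⟨x₀, ⟨hx₀, ?_⟩, a, ha, rfl⟩)
  intro b hb
  rw [show f (x₀ * b * x₀⁻¹) = lam ⟨_, hnorm x₀ (hT'T hx₀) b hb⟩ from dif_pos _,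
    show f b = lam ⟨b, hb⟩ from dif_pos _]
  exact hfix₀ ⟨b, hb⟩ ⟨_, hnorm x₀ (hT'T hx₀) b hb⟩ rfl

/-- The arithmetic of `d = |T' : B|`. -/
theorem SylowData.arith' (F : SylowData T W₁ W₂ Q D) (P : Pair S T W₁ W₂)
    (hnB : T ≤ normalizer (bigB Q D : Set G)) (hn : T ≤ normalizer (bigB₀ Q D : Set G)) :
    (bigB Q D).relIndex ⁅T, T⁆ ∣ (Nat.card W₁ ^ Nat.card W₂ - 1) / (Nat.card W₁ - 1) ∨
      (bigB Q D).relIndex ⁅T, T⁆ ≤ ((Nat.card W₁ - 1) / 2) ^ (Nat.card W₂ - 1) := by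
  haveI := Fact.mk F.prime_q
  haveI : ((bigB₀ Q D).subgroupOf T).Normal := normal_subgroupOf_of_le_normalizer hn
  set π := QuotientGroup.mk' ((bigB₀ Q D).subgroupOf T) with hπ
  let im : Subgroup G → Subgroup (T ⧸ (bigB₀ Q D).subgroupOf T) := fun X => (X.subgroupOf T).map π
  have hT'T : (⁅T, T⁆ : Subgroup G) ≤ T := Subgroup.commutator_le_self T
  have hBT : bigB Q D ≤ T := F.bigB_le.trans hT'T
  have hDT : D ≤ T := F.D_le.trans hT'T
  have hW₁T : W₁ ≤ T := P.W₁_le_T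
  have hW₂T : W₂ ≤ T := P.W₂_le_T
  have hcard : ∀ X : Subgroup G, X ≤ T → Nat.card (im X) = (bigB₀ Q D).relIndex X := fun X hX => by
    show Nat.card ↥((X.subgroupOf T).map π) = _
    rw [CfsgLib.Coprime.card_map_mk', relIndex_subgroupOf hX]
  have hπ1 : ∀ z : T, π z = 1 ↔ (z : G) ∈ bigB₀ Q D := fun z => QuotientGroup.eq_one_iff z
  have hπeq : ∀ y z : T, π y = π z → (y : G)⁻¹ * z ∈ bigB₀ Q D := fun y z h => by
    have h1 : π (y⁻¹ * z) = 1 := by rw [map_mul, map_inv, h, inv_mul_cancel]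
    exact (hπ1 _).mp h1
  have hmem : ∀ (X : Subgroup G) (z : T), (z : G) ∈ X → π z ∈ im X := fun X z hz => ⟨z, hz, rfl⟩
  have hB₀B := F.bigB₀_le
  have hkD : bigB₀ Q D ⊓ D = kerD Q D := by
    refine le_antisymm (fun z hz => ?_) fun z hz => ⟨mem_sup_right hz, hz.1⟩
    obtain ⟨a, ha, d, hd, rfl⟩ := F.mem_bigB₀.mp hz.1
    obtain ⟨i, hi⟩ := IsPGroup.iff_card.mp F.pgroup
    have ha1 : a ∈ Q ⊓ D := ⟨ha.1, by simpa using mul_mem hz.2 (D.inv_mem hd.1)⟩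
    rw [CfsgLib.Base.inf_eq_bot_of_coprime
      (hi ▸ Nat.Coprime.pow_left i (F.prime_q.coprime_iff_not_dvd.mpr F.q_not_dvd)), mem_bot] at ha1
    subst ha1
    simpa using hd
  have hker : ∀ d ∈ D, (∀ a ∈ Q, d * a * d⁻¹ * a⁻¹ ∈ bigB₀ Q D) → d ∈ kerD Q D := by
    intro d hd h
    refine ⟨hd, mem_centralizer_iff.mpr fun a ha => ?_⟩
    have hdn : d ∈ normalizer (Q : Set G) := F.normal_Q (hDT hd)
    exact (mul_inv_eq_iff_eq_mul.mp (F.fix_pow hd (F.fix_of_mem_bigB₀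
      (mul_mem ((mem_normalizer_iff.mp hdn a).mp ha) (inv_mem ha)) (h a ha)))).symm
  have hT' : bigB Q D ⊔ D = ⁅T, T⁆ := le_antisymm (sup_le F.bigB_le F.D_le) fun x hx => by
    obtain ⟨a, ha, d, hd, rfl⟩ := F.decomp x hx
    exact mul_mem_sup (mem_sup_left ha) hd
  have hsup : im (bigB Q D) ⊔ im D = im ⁅T, T⁆ := by
    show (Subgroup.map π _) ⊔ (Subgroup.map π _) = Subgroup.map π _
    rw [← Subgroup.map_sup, ← subgroupOf_sup hBT hDT, hT']
  have hW₁B : W₁ ≤ bigB Q D := F.W₁_le.trans le_sup_left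
  have hW₁B₀ : bigB₀ Q D ⊓ W₁ = ⊥ := le_bot_iff.mp fun z hz =>
    F.W₁_inf_fixQ.le ⟨hz.2, F.fix_of_mem_bigB₀ (F.W₁_le hz.2) hz.1⟩
  have hW₂B₀ : bigB₀ Q D ⊓ W₂ = ⊥ := le_bot_iff.mp fun z hz =>
    P.W₂_inf_derived.le ⟨hz.2, F.bigB_le (hB₀B hz.1)⟩
  haveI hnT' : ((⁅T, T⁆ : Subgroup G).subgroupOf T).Normal :=
    normal_subgroupOf_of_le_normalizer P.le_normalizer_derived
  haveI hnB' : ((bigB Q D).subgroupOf T).Normal := normal_subgroupOf_of_le_normalizer hnB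
  let LS : PF13.LocalS (T ⧸ (bigB₀ Q D).subgroupOf T) :=
    { P := im (bigB Q D), U := im D, W₁ := im W₂, W₂ := im W₁
      p := Nat.card W₁, q := Nat.card W₂
      prime_p := F.prime_q, prime_q := F.prime_k
      ne := fun e => by
        have h := P.coprime_k.coprime_dvd_right (card_dvd_of_le P.W₁_le_derived)
        rw [e, Nat.coprime_self] at h
        exact F.prime_k.one_lt.ne' h
      odd := (P.odd_card (X := T)).of_dvd_nat (by
        rw [← Subgroup.index_eq_card]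
        exact Subgroup.index_dvd_card _)
      normal_P := hnB'.map π (QuotientGroup.mk'_surjective _)
      comm_P := by
        rintro _ ⟨y, hy, rfl⟩ _ ⟨z, hz, rfl⟩
        have h := (hπ1 (y * z * y⁻¹ * z⁻¹)).mpr (F.comm_bigB _ hy _ hz)
        rw [map_mul, map_mul, map_mul, map_inv, map_inv, mul_inv_eq_one, mul_inv_eq_iff_eq_mul] at h
        exact h
      exp_P := by
        rintro _ ⟨y, hy, rfl⟩
        rw [← map_pow]
        exact (hπ1 _).mpr (F.pow_bigB _ hy)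
      card_P := by rw [hcard _ hBT, F.relIndex_bigB]
      card_W₁ := by rw [hcard _ hW₂T, ← inf_relIndex_right, hW₂B₀, relIndex_bot_left]
      card_W₂ := by rw [hcard _ hW₁T, ← inf_relIndex_right, hW₁B₀, relIndex_bot_left]
      W₂_le := map_mono (fun z hz => hW₁B hz)
      comm_U := by
        rintro _ ⟨y, hy', rfl⟩ _ ⟨z, hz', rfl⟩
        have hy : (y : G) ∈ D := hy'
        have hz : (z : G) ∈ D := hz'
        have h1 : ⁅(y : G), (z : G)⁆ ∈ kerD Q D := ⟨commutator_le_self D (commutator_mem_commutator hy hz),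
          F.derived_D (commutator_mem_commutator hy hz)⟩
        rw [commutatorElement_def] at h1
        have h := (hπ1 (y * z * y⁻¹ * z⁻¹)).mpr (mem_sup_right h1)
        rw [map_mul, map_mul, map_mul, map_inv, map_inv, mul_inv_eq_one, mul_inv_eq_iff_eq_mul] at h
        exact h
      W₁_norm := by
        rintro _ ⟨y, hy, rfl⟩ _ ⟨z, hz, rfl⟩
        exact ⟨y * z * y⁻¹, (mem_normalizer_iff.mp (F.W₂_norm hy) _).mp hz, by simp⟩
      disj_U := by
        refine (Subgroup.eq_bot_iff_forall _).mpr ?_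
        rintro _ ⟨⟨y, hy, rfl⟩, ⟨z, hz, e⟩⟩
        refine (hπ1 y).mpr ?_
        have h1 : (z : G)⁻¹ * y ∈ bigB₀ Q D := hπeq z y e
        have hzB : (z : G) ∈ bigB Q D := by
          have := (bigB Q D).mul_mem (show (y : G) ∈ bigB Q D from hy) ((bigB Q D).inv_mem (hB₀B h1))
          simpa using this
        have hzk : (z : G) ∈ kerD Q D := hker _ hz fun a ha => F.comm_bigB _ hzB _ (mem_sup_left ha)
        have := (bigB₀ Q D).mul_mem (show (z : G) ∈ bigB₀ Q D from mem_sup_right hzk) h1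
        simpa using this
      normal_D := by
        rw [hsup]
        exact hnT'.map π (QuotientGroup.mk'_surjective _)
      disj_W₁ := by
        rw [hsup]
        refine (Subgroup.eq_bot_iff_forall _).mpr ?_
        rintro _ ⟨⟨y, hy, rfl⟩, ⟨z, hz, e⟩⟩
        have h1 : (z : G) ∈ W₂ ⊓ ⁅T, T⁆ := ⟨hz, by
          have := (⁅T, T⁆ : Subgroup G).mul_mem (show (y : G) ∈ (⁅T, T⁆ : Subgroup G) from hy)
            ((⁅T, T⁆ : Subgroup G).inv_mem (F.bigB_le (hB₀B (hπeq z y e))))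
          simpa using this⟩
        rw [P.W₂_inf_derived, mem_bot] at h1
        rw [← e, show z = 1 from Subtype.ext h1, map_one]
      sup_W₁ := by
        rw [hsup, eq_top_iff]
        rintro v -
        obtain ⟨t, rfl⟩ := QuotientGroup.mk'_surjective _ v
        obtain ⟨a, ha, b, hb, e⟩ := P.complT.2.2.2 t t.2
        rw [show t = ⟨a, hT'T ha⟩ * ⟨b, hW₂T hb⟩ from Subtype.ext e, map_mul]
        exact mul_mem_sup (hmem _ _ ha) (hmem _ _ hb)
      fix := by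
        rintro _ ⟨y, hy, rfl⟩ hy1
        rw [hsup]
        have hy' : (y : G) ≠ 1 := fun e => hy1 (by rw [show y = 1 from Subtype.ext e, map_one])
        refine le_antisymm ?_ ?_
        · rintro _ ⟨⟨z, hz, rfl⟩, hc⟩
          have hc' : π (y * z * y⁻¹ * z⁻¹) = 1 := by
            rw [map_mul, map_mul, map_mul, map_inv, map_inv, ← mem_centralizer_singleton_iff.mp hc,
              mul_inv_cancel_right, mul_inv_cancel]
          obtain ⟨c, hc1, hc2⟩ := P.exists_W₁_of_fixed (N := bigB₀ Q D) (hB₀B.trans F.bigB_le) hn hy hy'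
            hz ((hπ1 _).mp hc')
          refine ⟨⟨c, hW₁T hc1⟩, hc1, ?_⟩
          refine (inv_mul_eq_one.mp ?_).symm
          rw [← map_inv, ← map_mul]
          exact (hπ1 (z⁻¹ * ⟨c, hW₁T hc1⟩)).mpr (show (z : G)⁻¹ * c ∈ bigB₀ Q D from hc2)
        · rintro _ ⟨z, hz, rfl⟩
          refine ⟨⟨z, P.W₁_le_derived hz, rfl⟩, mem_centralizer_singleton_iff.mpr ?_⟩
          rw [← map_mul, ← map_mul, show z * y = y * z from Subtype.ext (P.commute_W hz hy)]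
      p_coprime := fun h => by
        rw [hcard _ hDT, ← inf_relIndex_right, hkD] at h
        exact F.q_not_dvd (h.trans (Dvd.intro _ (relIndex_mul_card_of_le inf_le_left)))
      q_coprime := fun h => by
        rw [hcard _ hDT, ← inf_relIndex_right, hkD] at h
        exact F.prime_k.coprime_iff_not_dvd.mp (P.coprime_k.coprime_dvd_right (card_dvd_of_le F.D_le))
          (h.trans (Dvd.intro _ (relIndex_mul_card_of_le inf_le_left)))
      U_act := fun h => F.not_le_bigB (hT' ▸ sup_le le_rfl fun d hd => mem_sup_right (hker d hd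
        fun a ha => by
          have h1 := mem_centralizer_iff.mp (h (hmem D ⟨d, hDT hd⟩ hd))
            (π ⟨a, hBT (mem_sup_left ha)⟩) (hmem _ _ (mem_sup_left ha))
          exact (hπ1 (⟨d, hDT hd⟩ * ⟨a, hBT (mem_sup_left ha)⟩ * ⟨d, hDT hd⟩⁻¹ *
            ⟨a, hBT (mem_sup_left ha)⟩⁻¹)).mp (by
              rw [map_mul, map_mul, map_mul, map_inv, map_inv, ← h1, mul_inv_cancel_right,
                mul_inv_cancel]))) }
  have hC : LS.C = ⊥ := by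
    refine (Subgroup.eq_bot_iff_forall _).mpr ?_
    rintro _ ⟨⟨z, hz, rfl⟩, hc⟩
    refine (hπ1 z).mpr (mem_sup_right (hker _ hz fun a ha => ?_))
    have h1 := mem_centralizer_iff.mp hc (π ⟨a, hBT (mem_sup_left ha)⟩) (hmem _ _ (mem_sup_left ha))
    exact (hπ1 (z * ⟨a, hBT (mem_sup_left ha)⟩ * z⁻¹ * ⟨a, hBT (mem_sup_left ha)⟩⁻¹)).mp (by
      rw [map_mul, map_mul, map_mul, map_inv, map_inv, ← h1, mul_inv_cancel_right, mul_inv_cancel])
  have hu : LS.u = (bigB Q D).relIndex ⁅T, T⁆ := by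
    have h : LS.u * Nat.card LS.C = Nat.card LS.U := LS.u_mul_card_C
    rw [hC, Subgroup.card_bot, mul_one] at h
    rw [h, show Nat.card LS.U = Nat.card (im D) from rfl, hcard _ hDT, ← inf_relIndex_right, hkD,
      F.card_quot_bigB]
  have hp : LS.p = Nat.card W₁ := rfl
  have hq : LS.q = Nat.card W₂ := rfl
  by_cases hirr : LS.Irred
  · refine Or.inl ?_
    rw [← hu, ← hp, ← hq, ← geom_sum_mul_of_one_le LS.prime_p.one_le,
      Nat.mul_div_cancel _ (Nat.sub_pos_of_lt LS.prime_p.one_lt)]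
    exact LS.u_dvd_of_irred hirr
  · refine Or.inr ?_
    rw [← hu, ← hp, ← hq]
    exact LS.u_le_of_not_irred hirr

theorem exists_quotData (P : Pair S T W₁ W₂) (h : IsOfTypeIII T ∨ IsOfTypeIV T) :
    ∃ B B₀ : Subgroup G, QuotData T W₁ W₂ B B₀ := by
  obtain ⟨Q, D, F⟩ := exists_sylowData P h
  have hnk := F.normalizer_kerD P.complT.2.2.2 P.W₂_le_T
  have hnB : T ≤ normalizer (bigB Q D : Set G) :=
    CfsgLib.Coprime.le_normalizer_sup_sup F.normal_Q hnk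
  have hnB₀ : T ≤ normalizer (bigB₀ Q D : Set G) :=
    CfsgLib.Coprime.le_normalizer_sup_sup F.normal_Q₀ hnk
  have hW : W₁ ≤ bigB Q D := F.W₁_le.trans le_sup_left
  refine ⟨bigB Q D, bigB₀ Q D,
    { prime_k := F.prime_k, B₀_le := F.bigB₀_le, B_le := F.bigB_le, normal_B := hnB
      normal_B₀ := hnB₀, card_quot := F.relIndex_bigB, comm := F.comm_bigB, pow_mem := F.pow_bigB
      derived_two_le := F.derived_two_le, W₁_le := hW
      W₁_disj := ?_, fixed := ?_, stab := F.stab' P hnB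
      d_mod := P.relIndex_mod F.bigB_le hW hnB, one_lt_d := ?_, arith := F.arith' P hnB hnB₀ }⟩
  · exact le_bot_iff.mp fun z hz => F.W₁_inf_fixQ.le ⟨hz.1, F.fix_of_mem_bigB₀ (F.W₁_le hz.1) hz.2⟩
  · intro b hb hfix
    obtain ⟨a, ha, d, hd, rfl⟩ := F.mem_bigB.mp hb
    obtain ⟨y, hy, hy1⟩ := (Subgroup.bot_or_exists_ne_one W₂).resolve_left P.selfNorm.2.1
    have hyT := P.W₂_le_T hy
    have hya : y * a * y⁻¹ ∈ Q := (mem_normalizer_iff.mp (F.normal_Q hyT) a).mp ha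
    have hyd : y * d * y⁻¹ ∈ kerD Q D := (mem_normalizer_iff.mp (hnk hyT) d).mp hd
    have h1 : y * a * y⁻¹ * a⁻¹ ∈ bigB₀ Q D := by
      have hc : (y * d * y⁻¹ * d⁻¹) * a⁻¹ = a⁻¹ * (y * d * y⁻¹ * d⁻¹) :=
        (F.commute_kerD (inv_mem ha) (mul_mem hyd (inv_mem hd))).symm
      have := mul_mem (hfix y hy) (inv_mem (mem_sup_right (mul_mem hyd (inv_mem hd)) :
        y * d * y⁻¹ * d⁻¹ ∈ bigB₀ Q D))
      rwa [show y * (a * d) * y⁻¹ * (a * d)⁻¹ * (y * d * y⁻¹ * d⁻¹)⁻¹ = y * a * y⁻¹ *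
        ((y * d * y⁻¹ * d⁻¹) * a⁻¹) * (y * d * y⁻¹ * d⁻¹)⁻¹ by group, hc,
        show y * a * y⁻¹ * (a⁻¹ * (y * d * y⁻¹ * d⁻¹)) * (y * d * y⁻¹ * d⁻¹)⁻¹ =
          y * a * y⁻¹ * a⁻¹ by group] at this
    obtain ⟨c, hc, hca⟩ := P.exists_W₁_of_fixed (N := fixQ Q D) ((inf_le_left : fixQ Q D ≤ Q).trans F.Q_le)
      F.normal_Q₀ hy hy1 (F.Q_le ha) (F.fix_of_mem_bigB₀ (mul_mem hya (inv_mem ha)) h1)
    rw [show a * d = c * ((a⁻¹ * c)⁻¹ * d) by group]
    exact mul_mem_sup hc (mul_mem (F.Q₀_le_bigB₀ (inv_mem hca)) (mem_sup_right hd))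
  · have hne : bigB Q D ≠ ⁅T, T⁆ := fun e => F.not_le_bigB e.ge
    have := P.le_relIndex F.bigB_le hW hnB hne
    have := Nat.card_pos (α := W₂)
    omega

/-- The regions of `F(S)` and of `B` are disjoint. -/
theorem fittingS_notMem_tilde (P : Pair S T W₁ W₂) (h : IsOfTypeIII T ∨ IsOfTypeIV T)
    {B B₀ : Subgroup G} (hB : QuotData T W₁ W₂ B B₀) {a : G} (ha : a ∈ fittingOf S) (_ha1 : a ≠ 1)
    {b : G} (hb : b ∈ B) (hb1 : b ≠ 1) {r : G} (hr : r ∈ supportR T b) (g : G) :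
    g * a * g⁻¹ ≠ b * r := by
  intro e
  haveI := Fact.mk P.prime_q
  haveI := Fact.mk hB.prime_k
  have hD := P.dade_T
  have hbT : b ∈ derA T := ⟨hB.B_le hb, hb1⟩
  obtain ⟨U, hU⟩ := P.exists_typeP_S
  have hFS : fittingOf S ≤ ⁅S, S⁆ := hU.fitting_le
  have cS : Nat.card (⁅S, S⁆ : Subgroup G) * Nat.card W₁ = Nat.card S :=
    card_mul_card_of_isComplIn P.complS
  have hqS : ¬ Nat.card W₁ ∣ Nat.card (⁅S, S⁆ : Subgroup G) := by
    have e1 : W₁.relIndex S * Nat.card W₁ = Nat.card S := relIndex_mul_card_of_le P.W₁_le_S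
    rw [← cS] at e1
    exact P.prime_q.coprime_iff_not_dvd.mp (Nat.eq_of_mul_eq_mul_right Nat.card_pos e1 ▸ hU.W₁_hall)
  -- `q` does not divide the order of `b`
  obtain ⟨n, hn, -⟩ := CfsgLib.CharsMore.dade_exists_pow hD hbT hbT
  have hbr : (b * r) ^ n = b := hn r hr
  have hqb : ¬ Nat.card W₁ ∣ orderOf b := by
    intro hd
    refine hqS (hd.trans ?_)
    rw [← hbr]
    refine (orderOf_pow_dvd n).trans ?_
    rw [← e, ← MulAut.conj_apply, MulEquiv.orderOf_eq]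
    exact Subgroup.orderOf_dvd_natCard _ (hFS ha)
  -- `k` divides the order of `C(b)`
  have hkC : Nat.card W₂ ∣ Nat.card ↥(centralizer ({b} : Set G)) := by
    haveI := isNilpotent_fittingOf S
    set F := fittingOf S with hF
    have hdvd : Nat.card W₂ ∣ Nat.card F :=
      card_dvd_of_le ((hU.W₂_le.trans inf_le_left).trans (fittingHallOf_le_fittingOf S))
    have hne : pCore (Nat.card W₂) F ≠ ⊥ := by
      intro hbot
      obtain ⟨R⟩ : Nonempty (Sylow (Nat.card W₂) F) := inferInstance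
      have hR : (R : Subgroup F).Normal :=
        ((Group.isNilpotent_of_finite_tfae (G := F)).out 0 3 rfl rfl).1 inferInstance _ inferInstance R
      exact R.ne_bot_of_dvd_card hdvd (le_bot_iff.mp (hbot ▸ CfsgLib.Base.le_pCore R.isPGroup'))
    haveI : (pCore (Nat.card W₂) F).Normal := Subgroup.sSup_normal _ (fun _ h => h.1)
    obtain ⟨⟨z, hz⟩, hz1⟩ := ne_bot_iff_exists_ne_one.mp
      (CfsgLib.Base.inf_center_ne_bot_of_isNilpotent hne)
    obtain ⟨j, hj⟩ := IsPGroup.iff_orderOf.mp (CfsgLib.Base.isPGroup_pCore (Nat.card W₂) F) ⟨z, hz.1⟩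
    have hzc : g * (z : G) * g⁻¹ ∈ centralizer ({b} : Set G) := by
      have hza : a * (z : G) = (z : G) * a := congrArg Subtype.val (mem_center_iff.mp hz.2 ⟨a, ha⟩)
      have hcomm : Commute (b * r) (g * (z : G) * g⁻¹) := by
        rw [← e]
        exact (show Commute a (z : G) from hza).map (MulAut.conj g).toMonoidHom
      have hc := hcomm.pow_left n
      rw [hbr] at hc
      exact mem_centralizer_singleton_iff.mpr hc.symm.eq
    have ho := Subgroup.orderOf_dvd_natCard _ hzc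
    rw [← MulAut.conj_apply, MulEquiv.orderOf_eq, orderOf_coe,
      show orderOf z = Nat.card W₂ ^ j from (orderOf_coe _).trans hj] at ho
    rcases Nat.eq_zero_or_pos j with rfl | hj0
    · refine absurd ?_ hz1
      have hzo : orderOf (⟨z, hz.1⟩ : pCore (Nat.card W₂) F) = 1 := hj.trans (pow_zero _)
      exact Subtype.ext (congrArg (Subtype.val : pCore (Nat.card W₂) F → F) (orderOf_eq_one_iff.mp hzo))
    · exact (dvd_pow_self _ hj0.ne').trans ho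
  -- `k` does not divide the order of `C_T(b)`
  have hkT : ¬ Nat.card W₂ ∣ Nat.card ↥(T ⊓ centralizer ({b} : Set G)) := by
    intro hd
    obtain ⟨y, hy⟩ := exists_prime_orderOf_dvd_card' (Nat.card W₂) hd
    obtain ⟨c, hc, hce⟩ := CfsgLib.Coprime.sz_conj_rel (N := ⁅T, T⁆) (H := W₂) (K := zpowers (y : G))
      (P.W₂_le_T.trans P.le_normalizer_derived)
      ((zpowers_le.mpr y.2.1).trans P.le_normalizer_derived) P.coprime_k.symm
      (by rw [Nat.card_zpowers, orderOf_coe, hy])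
      (by rw [sup_eq_of_isComplIn P.complT]; exact zpowers_le.mpr y.2.1)
      (Or.inl P.derived_solvable)
    have hw : c⁻¹ * (y : G) * c ∈ W₂ := by
      have := CfsgLib.Coprime.mem_conj_smul.mp (hce ▸ mem_zpowers (y : G) :
        (y : G) ∈ MulAut.conj c • W₂)
      exact this
    have hw1 : c⁻¹ * (y : G) * c ≠ 1 := fun e1 => by
      have : orderOf (y : G) = 1 := by
        rw [show (y : G) = c * (c⁻¹ * (y : G) * c) * c⁻¹ by group, e1]; simp
      rw [orderOf_coe, hy] at this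
      exact hB.prime_k.one_lt.ne' this
    have hcy : (y : G) * b = b * (y : G) := mem_centralizer_singleton_iff.mp y.2.2
    have hbW : c⁻¹ * b * c ∈ W₁ := by
      rw [← P.centralizer_W₂ hw hw1]
      refine ⟨mul_mem (mul_mem ((⁅T, T⁆ : Subgroup G).inv_mem hc) (hB.B_le hb)) hc, mem_centralizer_singleton_iff.mpr ?_⟩
      calc c⁻¹ * b * c * (c⁻¹ * (y : G) * c) = c⁻¹ * (b * y) * c := by group
        _ = c⁻¹ * ((y : G) * b) * c := by rw [hcy]
        _ = c⁻¹ * (y : G) * c * (c⁻¹ * b * c) := by group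
    have ho := Subgroup.orderOf_dvd_natCard _ hbW
    rw [show c⁻¹ * b * c = MulAut.conj c⁻¹ b by simp, MulEquiv.orderOf_eq,
      Nat.dvd_prime P.prime_q] at ho
    rcases ho with ho | ho
    · exact hb1 (orderOf_eq_one_iff.mp ho)
    · exact hqb (dvd_of_eq ho.symm)
  -- the centraliser lies in a conjugate of `S`
  have hkR : Nat.card W₂ ∣ Nat.card (supportR T b) := by
    have hle := hD.sup_eq b hbT
    have hn' : T ⊓ centralizer ({b} : Set G) ≤ normalizer (supportR T b : Set G) := fun c hc =>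
      mem_normalizer_iff.mpr fun u => ⟨fun hu => hD.conj_mem_H b hbT c hc.2 u hu, fun hu => by
        simpa [mul_assoc] using hD.conj_mem_H b hbT c⁻¹ (inv_mem hc.2) _ hu⟩
    have hcard := CfsgLib.Coprime.card_sup_of_inf_eq_bot hn' (by rw [inf_comm]; exact hD.inf_eq_bot b hbT)
    rw [sup_comm, hle] at hcard
    exact (hB.prime_k.dvd_mul.mp (hcard ▸ hkC)).resolve_left hkT
  obtain ⟨L, hL, hCL, hLk⟩ : ∃ L : Subgroup G, IsCoatom L ∧ centralizer ({b} : Set G) ≤ L ∧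
      ∃ x ∈ sigmaCore L, orderOf x = Nat.card W₂ := by
    obtain ⟨x, hx⟩ := exists_prime_orderOf_dvd_card' (Nat.card W₂) hkR
    have hx1 : (x : G) ≠ 1 := fun e1 => hB.prime_k.one_lt.ne' (by
      rw [← hx, ← orderOf_coe, e1, orderOf_one])
    have hxR := x.2
    unfold supportR at hxR
    split at hxR
    · next hcond =>
      obtain ⟨hLc, hLle⟩ := Classical.choose_spec hcond.2.exists
      exact ⟨_, hLc, hLle, x, fittingHallOf_le_sigmaCore P.minimal hLc hxR.1, by rw [orderOf_coe, hx]⟩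
    · exact absurd (mem_bot.mp hxR) hx1
  obtain ⟨x, hxL, hxo⟩ := hLk
  obtain ⟨c, hc⟩ : ∃ c : G, L = S.map (MulAut.conj c).toMonoidHom := by
    by_contra hcon
    push Not at hcon
    have := coprime_k_orderOf P hL hcon hxL
    rw [hxo, Nat.coprime_self] at this
    exact hB.prime_k.one_lt.ne' this
  -- a large `q`-subgroup centralises `b`
  obtain ⟨Q, D, F⟩ := exists_sylowData P h
  set C := centralizer ({b} : Set G) ⊓ (Q ⊓ B) with hC
  have hB₀n : B ≤ normalizer (B₀ : Set G) :=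
    (hB.B_le.trans (Subgroup.commutator_le_self T)).trans hB.normal_B₀
  have hcov : B ≤ B₀ ⊔ C := by
    intro x hx
    obtain ⟨x₁, x₂, hx₁, hx₂, rfl, h1, h2⟩ := exists_pi_split {Nat.card W₁} x
    have hx₁B : x₁ ∈ B := zpowers_le.mpr hx hx₁
    have hx₂B : x₂ ∈ B := zpowers_le.mpr hx hx₂
    have hx₂B₀ : x₂ ∈ B₀ := by
      obtain ⟨m, hm⟩ := exists_pow_eq_self_of_coprime (n := Nat.card W₁) (x := x₂)
        (P.prime_q.coprime_iff_not_dvd.mpr fun hd => h2 _ P.prime_q hd rfl)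
      exact hm ▸ pow_mem (hB.pow_mem x₂ hx₂B) m
    have hQhall : IsPiHallOf {Nat.card W₁} Q ⁅T, T⁆ := by
      refine ⟨F.Q_le, fun p hp hd => ?_, fun p hp hpe hd => ?_⟩
      · obtain ⟨i, hi⟩ := IsPGroup.iff_card.mp F.pgroup
        exact (Nat.prime_dvd_prime_iff_eq hp P.prime_q).mp (hp.dvd_of_dvd_pow (hi ▸ hd))
      · obtain ⟨i, hi⟩ := IsPGroup.iff_card.mp F.pgroup
        have hint : Q ⊓ D = ⊥ := CfsgLib.Base.inf_eq_bot_of_coprime
          (hi ▸ Nat.Coprime.pow_left i (F.prime_q.coprime_iff_not_dvd.mpr F.q_not_dvd))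
        have hc' := card_mul_card_of_isComplIn
          (⟨F.Q_le, F.D_le, hint, F.decomp⟩ : IsComplIn Q D ⁅T, T⁆)
        rw [← relIndex_mul_card_of_le F.Q_le, mul_comm] at hc'
        rw [Set.mem_singleton_iff] at hpe
        subst hpe
        exact F.q_not_dvd (Nat.eq_of_mul_eq_mul_right Nat.card_pos hc' ▸ hd)
    have hx₁Q : x₁ ∈ Q := BG13.le_of_normal_hall ((Subgroup.commutator_le_self T).trans F.normal_Q) hQhall
      (zpowers_le.mpr (hB.B_le hx₁B))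
      (fun p hp hd => h1 p hp (by rwa [Nat.card_zpowers] at hd)) (mem_zpowers x₁)
    have hbn : b ∈ normalizer ((Q ⊓ B₀ : Subgroup G) : Set G) :=
      CfsgLib.Coprime.le_normalizer_inf_inf
        ((hB.B_le.trans (Subgroup.commutator_le_self T)).trans F.normal_Q) hB₀n hb
    have hmod : x₁⁻¹ * (b * x₁ * b⁻¹) ∈ Q ⊓ B₀ := by
      refine ⟨Q.mul_mem (Q.inv_mem hx₁Q) ((mem_normalizer_iff.mp (F.normal_Q
        (Subgroup.commutator_le_self T (hB.B_le hb))) x₁).mp hx₁Q), ?_⟩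
      simpa [mul_assoc] using hB.comm x₁⁻¹ (inv_mem hx₁B) b hb
    obtain ⟨c', hc', hc'x⟩ := CfsgLib.Coprime.exists_centralizing_in_coset (A := zpowers b)
      (N := Q ⊓ B₀) (zpowers_le.mpr hbn) (by
        rw [Nat.card_zpowers]
        obtain ⟨i, hi⟩ := IsPGroup.iff_card.mp F.pgroup
        refine Nat.Coprime.coprime_dvd_right (hi ▸ card_dvd_of_le inf_le_left) ?_
        exact Nat.Coprime.pow_right i (P.prime_q.coprime_iff_not_dvd.mpr hqb).symm)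
      (Or.inr (CfsgLib.Coprime.isSolvable_of_le ((inf_le_left : Q ⊓ B₀ ≤ Q).trans F.Q_le)
        P.derived_solvable))
      (k := x₁) fun z hz => CfsgLib.OddOrder.FrobeniusAction.conj_mem_of_mem_zpowers hbn hmod hz
    have hc'C : c' ∈ C := ⟨mem_centralizer_singleton_iff.mpr
        (mem_centralizer_iff.mp hc' b (mem_zpowers b)).symm,
      by simpa using mul_mem hx₁Q hc'x.1, by simpa using mul_mem hx₁B (hB.B₀_le hc'x.2)⟩
    rw [show x₁ = c' * (x₁⁻¹ * c')⁻¹ by group]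
    exact mul_mem (mul_mem (mem_sup_right hc'C) (mem_sup_left (inv_mem hc'x.2)))
      (mem_sup_left hx₂B₀)
  have hdvd : Nat.card W₁ ^ Nat.card W₂ ∣ Nat.card S := by
    have h1 : Nat.card W₁ ^ Nat.card W₂ ∣ Nat.card C := by
      have hCB : C ≤ B := inf_le_right.trans inf_le_right
      have h := CfsgLib.Coprime.card_sup_mul_card_inf (hCB.trans hB₀n)
      rw [show C ⊔ B₀ = B from le_antisymm (sup_le hCB hB.B₀_le) (hcov.trans_eq (sup_comm _ _)),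
        ← relIndex_mul_card_of_le hB.B₀_le, hB.card_quot, mul_right_comm] at h
      exact Dvd.intro _ (Nat.eq_of_mul_eq_mul_right Nat.card_pos h)
    refine h1.trans ((card_dvd_of_le (inf_le_left.trans hCL)).trans ?_)
    rw [hc, Subgroup.card_map_of_injective (MulEquiv.injective _)]
  have h2 : Nat.card W₁ * Nat.card W₁ ∣ Nat.card (⁅S, S⁆ : Subgroup G) * Nat.card W₁ := by
    rw [cS, ← sq]
    exact (pow_dvd_pow _ hB.prime_k.two_le).trans hdvd
  exact hqS (Nat.dvd_of_mul_dvd_mul_right P.prime_q.pos h2)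

end CfsgLib.FT.StepA
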